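import Mathlib

/-!
# A finite non-associative ring with left and right inverse property is commutative and associative

Hua's identity makes it alternative; the rest uses maximal subfields and Wedderburn's theorem.
-/

set_option autoImplicit false
set_option linter.style.haveILetI false

namespace Cfsg.Agent.Lib.ONan36.Alt

universe u

section Hua

variable {R : Type u} [Ring R]

/-- Hua: two additive subgroups mutually closed under inverses. -/
theorem sandwich₂ {M P : AddSubgroup R}
    (hM : ∀ a ∈ M, a ≠ 0 → ∃ a' ∈ P, a' * a = 1 ∧ a * a' = 1)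
    (hP : ∀ a ∈ P, a ≠ 0 → ∃ a' ∈ M, a' * a = 1 ∧ a * a' = 1)
    {a b : R} (ha : a ∈ M) (hb : b ∈ P) : a * b * a ∈ M := by
  rcases subsingleton_or_nontrivial R with hs | hn
  · rw [Subsingleton.elim (a * b * a) 0]; exact zero_mem _
  rcases eq_or_ne a 0 with rfl | ha0
  · simp
  rcases eq_or_ne b 0 with rfl | hb0
  · simp
  obtain ⟨a', ha', ha'a, haa'⟩ := hM a ha ha0
  obtain ⟨b', hb', hb'b, hbb'⟩ := hP b hb hb0
  rcases eq_or_ne (b' - a) 0 with hd0 | hd0
  · rw [← sub_eq_zero.1 hd0, hb'b, one_mul, sub_eq_zero.1 hd0]; exact ha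
  obtain ⟨d', hd', hd'd, hdd'⟩ := hM _ (sub_mem hb' ha) hd0
  have key : (a - a * b * a) * (a' + d') = 1 := by
    have h1 : a - a * b * a = a * (b * (b' - a)) := by
      rw [mul_sub, hbb', mul_sub, mul_one, mul_assoc]
    have h2 : (a - a * b * a) * d' = a * b := by
      rw [h1, mul_assoc, mul_assoc, hdd', mul_one]
    have h3 : (a - a * b * a) * a' = 1 - a * b := by
      rw [sub_mul, haa', mul_assoc (a * b), haa', mul_one]
    rw [mul_add, h2, h3, sub_add_cancel]
  have hs : a' + d' ≠ 0 := fun e => one_ne_zero (α := R) (by rw [← key, e, mul_zero])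
  obtain ⟨s', hs', -, hss'⟩ := hP _ (add_mem ha' hd') hs
  have : a - a * b * a = s' := by
    calc a - a * b * a = (a - a * b * a) * ((a' + d') * s') := by rw [hss', mul_one]
      _ = s' := by rw [← mul_assoc, key, one_mul]
  have h4 : a * b * a = a - s' := by rw [← this, sub_sub_cancel]
  rw [h4]
  exact sub_mem ha hs'

/-- An additive subgroup closed under inverses is closed under `(a, b) ↦ a b a`. -/
theorem sandwich_mem {M : AddSubgroup R}
    (hinv : ∀ a ∈ M, a ≠ 0 → ∃ a' ∈ M, a' * a = 1 ∧ a * a' = 1)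
    {a b : R} (ha : a ∈ M) (hb : b ∈ M) : a * b * a ∈ M := sandwich₂ hinv hinv ha hb

/-- Mutually inverse subgroups containing `1` coincide. -/
theorem eq_of_inverse {M P : AddSubgroup R}
    (hM : ∀ a ∈ M, a ≠ 0 → ∃ a' ∈ P, a' * a = 1 ∧ a * a' = 1)
    (hP : ∀ a ∈ P, a ≠ 0 → ∃ a' ∈ M, a' * a = 1 ∧ a * a' = 1)
    (h1M : (1 : R) ∈ M) (h1P : (1 : R) ∈ P) : M = P :=
  le_antisymm (fun a ha => by simpa using sandwich₂ hP hM h1P ha)
    (fun a ha => by simpa using sandwich₂ hM hP h1M ha)

end Hua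

variable {V : Type u} [NonAssocRing V]

/-- Left multiplication. -/
def Lm (x : V) : AddMonoid.End V := AddMonoidHom.mulLeft x

@[simp] theorem Lm_apply (x y : V) : Lm x y = x * y := rfl

/-- The image of `Lm`. -/
def lRange (V : Type u) [NonAssocRing V] : AddSubgroup (AddMonoid.End V) :=
  (AddMonoidHom.mk' Lm fun x y => AddMonoidHom.ext fun z => add_mul x y z).range

theorem mem_lRange {s : AddMonoid.End V} : s ∈ lRange V ↔ s = Lm (s 1) :=
  ⟨fun ⟨x, hx⟩ => by
    rw [← hx]
    show Lm x = Lm (Lm x 1)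
    rw [Lm_apply, mul_one], fun h => ⟨s 1, h.symm⟩⟩

theorem Lm_one : Lm (1 : V) = 1 := AddMonoidHom.ext fun z => one_mul z

/-- The left inverse property. -/
def LInv (V : Type u) [NonAssocRing V] : Prop := ∀ x : V, x ≠ 0 → ∃ x', ∀ y, x' * (x * y) = y

/-- The right inverse property. -/
def RInv (V : Type u) [NonAssocRing V] : Prop := ∀ x : V, x ≠ 0 → ∃ x', ∀ y, (y * x) * x' = y

theorem linv_op (hr : RInv V) : LInv Vᵐᵒᵖ := fun x hx => by
  obtain ⟨x', hx'⟩ := hr x.unop (fun e => hx (MulOpposite.unop_injective e))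
  exact ⟨MulOpposite.op x', fun y => MulOpposite.unop_injective (by simpa using hx' y.unop)⟩

theorem eq_zero_of_mul (hl : LInv V) {x y : V} (h : x * y = 0) : x = 0 ∨ y = 0 := by
  rcases eq_or_ne x 0 with hx | hx
  · exact Or.inl hx
  obtain ⟨x', hx'⟩ := hl x hx
  exact Or.inr (by rw [← hx' y, h, mul_zero])

variable [Finite V]

theorem lRange_inv (hl : LInv V) {s : AddMonoid.End V} (hs : s ∈ lRange V) (hs0 : s ≠ 0) :
    ∃ s' ∈ lRange V, s' * s = 1 ∧ s * s' = 1 := by
  obtain ⟨x, rfl⟩ := hs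
  have hx : x ≠ 0 := fun e => hs0 (by rw [e, map_zero])
  obtain ⟨x', hx'⟩ := hl x hx
  haveI : Finite (AddMonoid.End V) := Finite.of_injective _ (DFunLike.coe_injective (F := V →+ V))
  have h1 : Lm x' * Lm x = 1 := AddMonoidHom.ext fun y => hx' y
  exact ⟨Lm x', ⟨x', rfl⟩, h1, mul_eq_one_comm.1 h1⟩

theorem Lm_sandwich (hl : LInv V) (x y : V) : Lm x * Lm y * Lm x = Lm (x * (y * x)) := by
  have h := mem_lRange.1 (sandwich_mem (M := lRange V) (fun s hs h0 => lRange_inv hl hs h0)
    ⟨x, rfl⟩ ⟨y, rfl⟩ : Lm x * Lm y * Lm x ∈ lRange V)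
  rw [h]
  congr 1
  show x * (y * (x * 1)) = _
  rw [mul_one]

theorem left_alt (hl : LInv V) (x y : V) : (x * x) * y = x * (x * y) := by
  have h := DFunLike.congr_fun (Lm_sandwich hl x 1) y
  rw [Lm_one, mul_one, one_mul] at h
  exact h.symm

theorem right_alt (hr : RInv V) (x y : V) : (y * x) * x = y * (x * x) := by
  haveI : Finite Vᵐᵒᵖ := Finite.of_equiv V MulOpposite.opEquiv
  have h := congrArg MulOpposite.unop (left_alt (linv_op hr) (MulOpposite.op x) (MulOpposite.op y))
  simpa using h.symm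

/-- The associator. -/
def asc (x y z : V) : V := (x * y) * z - x * (y * z)

omit [Finite V] in
theorem asc_eq {x y z : V} (h : asc x y z = 0) : (x * y) * z = x * (y * z) := sub_eq_zero.1 h

omit [Finite V] in
theorem teichmueller (w x y z : V) : asc (w * x) y z - asc w (x * y) z + asc w x (y * z) =
    w * asc x y z + asc w x y * z := by
  simp only [asc, mul_sub, sub_mul]
  abel

variable (hl : LInv V) (hr : RInv V)

include hl in
theorem asc_swap (x y z : V) : asc y x z = - asc x y z := by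
  have h : asc (x + y) (x + y) z = 0 := sub_eq_zero.2 (left_alt hl _ _)
  have h1 : asc x x z = 0 := sub_eq_zero.2 (left_alt hl _ _)
  have h2 : asc y y z = 0 := sub_eq_zero.2 (left_alt hl _ _)
  have : asc (x + y) (x + y) z = asc x x z + asc y y z + (asc x y z + asc y x z) := by
    simp only [asc, add_mul, mul_add]
    abel
  rw [h, h1, h2, zero_add, zero_add] at this
  exact eq_neg_of_add_eq_zero_right this.symm

include hr in
theorem asc_swap' (x y z : V) : asc x z y = - asc x y z := by
  have h : asc x (y + z) (y + z) = 0 := sub_eq_zero.2 (right_alt hr _ _)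
  have h1 : asc x y y = 0 := sub_eq_zero.2 (right_alt hr _ _)
  have h2 : asc x z z = 0 := sub_eq_zero.2 (right_alt hr _ _)
  have : asc x (y + z) (y + z) = asc x y y + asc x z z + (asc x y z + asc x z y) := by
    simp only [asc, add_mul, mul_add]
    abel
  rw [h, h1, h2, zero_add, zero_add] at this
  exact eq_neg_of_add_eq_zero_right this.symm

include hl hr in
/-- All orders of three arguments. -/
theorem asc_perm {x y z : V} (h : asc x y z = 0) :
    asc y x z = 0 ∧ asc x z y = 0 ∧ asc y z x = 0 ∧ asc z x y = 0 ∧ asc z y x = 0 := by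
  have a1 : asc y x z = 0 := by rw [asc_swap hl, h, neg_zero]
  have a2 : asc x z y = 0 := by rw [asc_swap' hr, h, neg_zero]
  have a3 : asc y z x = 0 := by rw [asc_swap' hr, a1, neg_zero]
  have a4 : asc z x y = 0 := by rw [asc_swap hl, a2, neg_zero]
  exact ⟨a1, a2, a3, a4, by rw [asc_swap hl, a3, neg_zero]⟩

/-! ## Powers -/

/-- Left powers. -/
def pw (a : V) (n : ℕ) : V := (Lm a ^ n : AddMonoid.End V) 1

omit [Finite V] in
theorem pw_succ (a : V) (n : ℕ) : pw a (n + 1) = a * pw a n := by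
  rw [pw, pow_succ']; rfl

omit [Finite V] in
theorem pw_zero (a : V) : pw a 0 = 1 := rfl

omit [Finite V] in
theorem pw_one (a : V) : pw a 1 = a := by rw [pw_succ, pw_zero, mul_one]

include hl in
theorem Lm_pw (a : V) : ∀ n, Lm a ^ n = Lm (pw a n)
  | 0 => by rw [pow_zero, pw_zero, Lm_one]
  | 1 => by rw [pow_one, pw_one]
  | n + 2 => by
    have h : Lm a * Lm (pw a n) * Lm a ∈ lRange V :=
      sandwich_mem (fun s hs h0 => lRange_inv hl hs h0) ⟨a, rfl⟩ ⟨_, rfl⟩
    rw [← Lm_pw a n, ← pow_succ', ← pow_succ] at h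
    exact mem_lRange.1 h

include hl in
theorem pw_add (a : V) (m n : ℕ) : pw a (m + n) = pw a m * pw a n := by
  rw [pw, pow_add, Lm_pw hl a m]
  rfl

/-- The subfield generated by `a`. -/
def gen (a : V) : AddSubgroup V := AddSubgroup.closure (Set.range (pw a))

omit [Finite V] in
theorem pw_mem_gen (a : V) (n : ℕ) : pw a n ∈ gen a := AddSubgroup.subset_closure ⟨n, rfl⟩

include hl in
theorem asc_gen {a x y : V} (hx : x ∈ gen a) (hy : y ∈ gen a) (z : V) : asc x y z = 0 := by
  induction hx, hy using AddSubgroup.closure_induction₂ with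
  | mem x y hx hy =>
    obtain ⟨m, rfl⟩ := hx
    obtain ⟨n, rfl⟩ := hy
    rw [asc, sub_eq_zero, ← pw_add hl]
    have := DFunLike.congr_fun (pow_add (Lm a) m n) z
    rw [Lm_pw hl, Lm_pw hl, Lm_pw hl] at this
    exact this
  | zero_left x _ => simp [asc]
  | zero_right x _ => simp [asc]
  | add_left x y w _ _ _ h1 h2 =>
    have : asc (x + y) w z = asc x w z + asc y w z := by simp only [asc, add_mul]; abel
    rw [this, h1, h2, add_zero]
  | add_right x y w _ _ _ h1 h2 =>
    simp only [asc, add_mul, mul_add] at h1 h2 ⊢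
    rw [sub_eq_zero] at h1 h2
    rw [h1, h2, sub_self]
  | neg_left x y _ _ h => simp only [asc, neg_mul] at h ⊢; rw [sub_eq_zero] at h; rw [h, sub_self]
  | neg_right x y _ _ h => simp only [asc, mul_neg, neg_mul] at h ⊢; rw [sub_eq_zero] at h; rw [h, sub_self]

include hl in
theorem mul_mem_gen {a x y : V} (hx : x ∈ gen a) (hy : y ∈ gen a) : x * y ∈ gen a := by
  induction hx, hy using AddSubgroup.closure_induction₂ with
  | mem x y hx hy =>
    obtain ⟨m, rfl⟩ := hx
    obtain ⟨n, rfl⟩ := hy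
    rw [← pw_add hl]
    exact pw_mem_gen a _
  | zero_left x _ => simp
  | zero_right x _ => simp
  | add_left x y w _ _ _ h1 h2 => rw [add_mul]; exact add_mem h1 h2
  | add_right x y w _ _ _ h1 h2 => rw [mul_add]; exact add_mem h1 h2
  | neg_left x y _ _ h => rw [neg_mul]; exact neg_mem h
  | neg_right x y _ _ h => rw [mul_neg]; exact neg_mem h

include hl in
theorem comm_gen {a x y : V} (hx : x ∈ gen a) (hy : y ∈ gen a) : x * y = y * x := by
  induction hx, hy using AddSubgroup.closure_induction₂ with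
  | mem x y hx hy =>
    obtain ⟨m, rfl⟩ := hx
    obtain ⟨n, rfl⟩ := hy
    rw [← pw_add hl, ← pw_add hl, add_comm]
  | zero_left x _ => simp
  | zero_right x _ => simp
  | add_left x y w _ _ _ h1 h2 => rw [add_mul, mul_add, h1, h2]
  | add_right x y w _ _ _ h1 h2 => rw [add_mul, mul_add, h1, h2]
  | neg_left x y _ _ h => rw [neg_mul, mul_neg, h]
  | neg_right x y _ _ h => rw [neg_mul, mul_neg, h]

include hl hr in
/-- Two generated subfields associate with their mixed products. -/
theorem asc_mixed {a b k y : V} (hk : k ∈ gen a) (hy : y ∈ gen b) {x y' : V} (hx : x ∈ gen a)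
    (hy' : y' ∈ gen b) : asc x y' (k * y) = 0 := by
  have h0 : asc x y' y = 0 := by
    have := asc_gen hl hy' hy x
    exact (asc_perm hl hr this).2.2.2.1
  have h1 : asc k y y' = 0 := (asc_perm hl hr (asc_gen hl hy hy' k)).2.2.2.1
  have h := teichmueller x k y y'
  rw [asc_gen hl hx hk (y * y'), asc_gen hl hx hk y, h1,
    (asc_perm hl hr (asc_gen hl hy hy' (x * k))).2.2.2.1] at h
  simp only [mul_zero, zero_mul, add_zero, zero_sub, neg_eq_zero] at h
  exact (asc_perm hl hr h).2.1

variable {a b : V}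

include hl hr in
theorem conj_pw (hb : ∀ k ∈ gen a, ∃ k' ∈ gen a, b * k = k' * b) :
    ∀ (i : ℕ), ∀ k ∈ gen a, ∃ k' ∈ gen a, pw b i * k = k' * pw b i
  | 0, k, hk => ⟨k, hk, by rw [pw_zero, one_mul, mul_one]⟩
  | i + 1, k, hk => by
    obtain ⟨k', hk', e⟩ := conj_pw hb i k hk
    obtain ⟨k'', hk'', e'⟩ := hb k' hk'
    refine ⟨k'', hk'', ?_⟩
    have hb1 : b ∈ gen b := by simpa [pw_one] using pw_mem_gen b 1
    rw [pw_succ, asc_eq (asc_gen hl hb1 (pw_mem_gen b i) k), e,
      ← asc_eq (asc_perm hl hr (asc_gen hl hb1 (pw_mem_gen b i) k')).2.1, e',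
      asc_eq (asc_perm hl hr (asc_gen hl hb1 (pw_mem_gen b i) k'')).2.2.2.1]

/-- The subgroup spanned by the products of two generated subfields. -/
def span2 (a b : V) : AddSubgroup V :=
  AddSubgroup.closure {z | ∃ k ∈ gen a, ∃ i : ℕ, z = k * pw b i}

include hl hr in
theorem gen_mul_gen {k k' k₁ : V} {i j : ℕ} (hk : k ∈ gen a) (hk' : k' ∈ gen a) (hk₁ : k₁ ∈ gen a)
    (e : pw b i * k' = k₁ * pw b i) :
    (k * pw b i) * (k' * pw b j) = (k * k₁) * pw b (i + j) := by
  have hP := pw_mem_gen b i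
  have hQ := pw_mem_gen b j
  rw [← asc_eq (asc_perm hl hr (asc_mixed hl hr hk hP hk' hQ)).2.2.2.1,
    asc_eq (asc_perm hl hr (asc_gen hl hk hk' (pw b i))).2.1, e,
    ← asc_eq (asc_gen hl hk hk₁ (pw b i)), pw_add hl,
    asc_eq (asc_perm hl hr (asc_gen hl hP hQ (k * k₁))).2.2.2.1]

include hl hr in
theorem span2_mul (hb : ∀ k ∈ gen a, ∃ k' ∈ gen a, b * k = k' * b) {x y : V}
    (hx : x ∈ span2 a b) (hy : y ∈ span2 a b) : x * y ∈ span2 a b := by
  induction hx, hy using AddSubgroup.closure_induction₂ with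
  | mem x y hx hy =>
    obtain ⟨k, hk, i, rfl⟩ := hx
    obtain ⟨k', hk', j, rfl⟩ := hy
    obtain ⟨k₁, hk₁, e⟩ := conj_pw hl hr hb i k' hk'
    rw [gen_mul_gen hl hr hk hk' hk₁ e]
    exact AddSubgroup.subset_closure ⟨_, mul_mem_gen hl hk hk₁, _, rfl⟩
  | zero_left x _ => simp
  | zero_right x _ => simp
  | add_left x y w _ _ _ h1 h2 => rw [add_mul]; exact add_mem h1 h2
  | add_right x y w _ _ _ h1 h2 => rw [mul_add]; exact add_mem h1 h2
  | neg_left x y _ _ h => rw [neg_mul]; exact neg_mem h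
  | neg_right x y _ _ h => rw [mul_neg]; exact neg_mem h

include hl hr in
theorem span2_assoc (hb : ∀ k ∈ gen a, ∃ k' ∈ gen a, b * k = k' * b) {x y z : V}
    (hx : x ∈ span2 a b) (hy : y ∈ span2 a b) (hz : z ∈ span2 a b) :
    (x * y) * z = x * (y * z) := by
  refine AddSubgroup.closure_induction (p := fun x _ => (x * y) * z = x * (y * z)) ?_ (by simp)
    (fun u v _ _ h1 h2 => by rw [add_mul, add_mul, add_mul, h1, h2])
    (fun u _ h1 => by rw [neg_mul, neg_mul, neg_mul, h1]) hx
  rintro _ ⟨k, hk, i, rfl⟩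
  refine AddSubgroup.closure_induction
    (p := fun y _ => ((k * pw b i) * y) * z = (k * pw b i) * (y * z)) ?_ (by simp)
    (fun u v _ _ h1 h2 => by rw [mul_add, add_mul, add_mul, mul_add, h1, h2])
    (fun u _ h1 => by rw [mul_neg, neg_mul, neg_mul, mul_neg, h1]) hy
  rintro _ ⟨k', hk', j, rfl⟩
  refine AddSubgroup.closure_induction
    (p := fun z _ => ((k * pw b i) * (k' * pw b j)) * z = (k * pw b i) * ((k' * pw b j) * z))
    ?_ (by simp)
    (fun u v _ _ h1 h2 => by rw [mul_add, mul_add, mul_add, h1, h2])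
    (fun u _ h1 => by rw [mul_neg, mul_neg, mul_neg, h1]) hz
  rintro _ ⟨k'', hk'', l, rfl⟩
  obtain ⟨k₁, hk₁, e1⟩ := conj_pw hl hr hb i k' hk'
  obtain ⟨k₂, hk₂, e2⟩ := conj_pw hl hr hb j k'' hk''
  obtain ⟨k₃, hk₃, e3⟩ := conj_pw hl hr hb i k₂ hk₂
  have hP := pw_mem_gen b i
  have hQ := pw_mem_gen b j
  have e4 : pw b (i + j) * k'' = k₃ * pw b (i + j) := by
    rw [pw_add hl, asc_eq (asc_gen hl hP hQ k''), e2,
      ← asc_eq (asc_perm hl hr (asc_gen hl hP hQ k₂)).2.1, e3,
      asc_eq (asc_perm hl hr (asc_gen hl hP hQ k₃)).2.2.2.1]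
  have e5 : pw b i * (k' * k₂) = (k₁ * k₃) * pw b i := by
    rw [← asc_eq (asc_perm hl hr (asc_gen hl hk' hk₂ (pw b i))).2.2.2.1, e1,
      asc_eq (asc_perm hl hr (asc_gen hl hk₁ hk₂ (pw b i))).2.1, e3,
      ← asc_eq (asc_gen hl hk₁ hk₃ (pw b i))]
  rw [gen_mul_gen hl hr hk hk' hk₁ e1,
    gen_mul_gen hl hr (mul_mem_gen hl hk hk₁) hk'' hk₃ e4,
    gen_mul_gen hl hr hk' hk'' hk₂ e2,
    gen_mul_gen hl hr hk (mul_mem_gen hl hk' hk₂) (mul_mem_gen hl hk₁ hk₃) e5,
    asc_eq (asc_gen hl hk hk₁ k₃), add_assoc]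

include hl hr in
/-- Such a span lies in one generated subfield. -/
theorem exists_gen [Nontrivial V] (hb : ∀ k ∈ gen a, ∃ k' ∈ gen a, b * k = k' * b) :
    ∃ d : V, gen a ≤ gen d ∧ b ∈ gen d := by
  let B := span2 a b
  have h1B : (1 : V) ∈ B := AddSubgroup.subset_closure
    ⟨1, by simpa [pw_zero] using pw_mem_gen a 0, 0, by rw [pw_zero, mul_one]⟩
  let _m : Mul B := ⟨fun x y => ⟨(x : V) * y, span2_mul hl hr hb x.2 y.2⟩⟩
  let _o : One B := ⟨⟨1, h1B⟩⟩
  let _r : Ring B :=
    { (inferInstance : AddCommGroup B), _m, _o with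
      left_distrib := fun x y z => Subtype.ext (mul_add _ _ _)
      right_distrib := fun x y z => Subtype.ext (add_mul _ _ _)
      zero_mul := fun x => Subtype.ext (zero_mul _)
      mul_zero := fun x => Subtype.ext (mul_zero _)
      mul_assoc := fun x y z => Subtype.ext (span2_assoc hl hr hb x.2 y.2 z.2)
      one_mul := fun x => Subtype.ext (one_mul _)
      mul_one := fun x => Subtype.ext (mul_one _) }
  haveI : Nontrivial B := ⟨⟨1, 0, fun e => one_ne_zero (α := V) (congrArg Subtype.val e)⟩⟩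
  haveI : NoZeroDivisors B := ⟨fun {x y} e => (eq_zero_of_mul hl (congrArg Subtype.val e)).imp
    Subtype.ext Subtype.ext⟩
  haveI : IsDomain B := NoZeroDivisors.to_isDomain B
  let _f : Field B := (Finite.isDomain_to_isField B).toField
  obtain ⟨g, hg⟩ := IsCyclic.exists_monoid_generator (α := Bˣ)
  have hpow : ∀ n : ℕ, (((g : B) ^ n : B) : V) = pw ((g : B) : V) n := by
    intro n
    induction n with
    | zero => rw [pow_zero]; rfl
    | succ n ih => rw [pow_succ', pw_succ, ← ih]; rfl
  have hall : ∀ x : B, (x : V) ∈ gen ((g : B) : V) := by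
    intro x
    rcases eq_or_ne x 0 with rfl | hx
    · exact zero_mem _
    obtain ⟨n, hn⟩ := Submonoid.mem_powers_iff _ _ |>.1 (hg (Units.mk0 x hx))
    have hx' := congrArg (fun u : Bˣ => ((u : B) : V)) hn
    simp only [Units.val_pow_eq_pow_val, Units.val_mk0] at hx'
    rw [← hx', hpow]
    exact pw_mem_gen _ n
  refine ⟨((g : B) : V), fun x hx => hall ⟨x, AddSubgroup.subset_closure ⟨x, hx, 0, by
    rw [pw_zero, mul_one]⟩⟩, hall ⟨b, AddSubgroup.subset_closure ⟨1, ?_, 1, by rw [pw_one, one_mul]⟩⟩⟩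
  simpa [pw_zero] using pw_mem_gen a 0

omit [Finite V] in
theorem Lm_injective : Function.Injective (Lm : V → AddMonoid.End V) := fun x y e => by
  have := DFunLike.congr_fun e 1
  simpa using this

/-- Right multiplication. -/
def Rm (x : V) : AddMonoid.End V := AddMonoidHom.mulRight x

omit [Finite V] in
@[simp] theorem Rm_apply (x y : V) : Rm x y = y * x := rfl

include hl hr in
theorem mul_pw_right (a y : V) (n : ℕ) : (Rm a ^ n : AddMonoid.End V) y = y * pw a n := by
  induction n generalizing y with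
  | zero => rw [pow_zero, pw_zero, mul_one]; rfl
  | succ n ih =>
    have ha : a ∈ gen a := by simpa [pw_one] using pw_mem_gen a 1
    rw [pow_succ]
    show (Rm a ^ n : AddMonoid.End V) (y * a) = _
    rw [ih, pw_succ, asc_eq (asc_perm hl hr (asc_gen hl ha (pw_mem_gen a n) y)).2.2.2.1]

include hl hr in
/-- A finite ring with both inverse properties is generated by one element. -/
theorem exists_gen_top [Nontrivial V] : ∃ a : V, gen a = ⊤ := by
  obtain ⟨a, -, hmax⟩ := Set.exists_max_image (Set.univ : Set V) (fun a => Nat.card (gen a))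
    Set.finite_univ ⟨0, trivial⟩
  have key : ∀ b : V, (∀ k ∈ gen a, ∃ k' ∈ gen a, b * k = k' * b) → b ∈ gen a := fun b hb => by
    obtain ⟨d, hd, hbd⟩ := exists_gen hl hr hb
    rwa [AddSubgroup.eq_of_le_of_card_ge hd (hmax d trivial)]
  have ha : a ∈ gen a := by simpa [pw_one] using pw_mem_gen a 1
  have h1 : (1 : V) ∈ gen a := by simpa [pw_zero] using pw_mem_gen a 0
  -- an eigenvector of the right multiplication by `a` normalises the subfield
  have eig : ∀ b g : V, g ∈ gen a → b * a = g * b → b ∈ gen a := by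
    intro b g hg e
    refine key b fun k hk => ?_
    induction hk using AddSubgroup.closure_induction with
    | mem k hk =>
      obtain ⟨n, rfl⟩ := hk
      induction n with
      | zero => exact ⟨1, h1, by rw [pw_zero, mul_one, one_mul]⟩
      | succ n ih =>
        obtain ⟨k', hk', e'⟩ := ih
        refine ⟨g * k', mul_mem_gen hl hg hk', ?_⟩
        rw [pw_succ, ← asc_eq (asc_perm hl hr (asc_gen hl ha (pw_mem_gen a n) b)).2.2.2.1, e,
          asc_eq (asc_perm hl hr (asc_gen hl hg (pw_mem_gen a n) b)).2.1, e',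
          ← asc_eq (asc_gen hl hg hk' b)]
    | zero => exact ⟨0, zero_mem _, by simp⟩
    | add x y _ _ h h' =>
      obtain ⟨u, hu, e1⟩ := h
      obtain ⟨w, hw, e2⟩ := h'
      exact ⟨u + w, add_mem hu hw, by rw [mul_add, add_mul, e1, e2]⟩
    | neg x _ h =>
      obtain ⟨u, hu, e1⟩ := h
      exact ⟨-u, neg_mem hu, by rw [mul_neg, neg_mul, e1]⟩
  classical
  by_contra hne
  push Not at hne
  obtain ⟨c, -, hc⟩ := SetLike.exists_of_lt (lt_top_iff_ne_top.2 (hne a))
  -- the subfield as a field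
  let K := gen a
  let _m : Mul K := ⟨fun x y => ⟨(x : V) * y, mul_mem_gen hl x.2 y.2⟩⟩
  let _o : One K := ⟨⟨1, h1⟩⟩
  let _r : CommRing K :=
    { (inferInstance : AddCommGroup K), _m, _o with
      left_distrib := fun x y z => Subtype.ext (mul_add _ _ _)
      right_distrib := fun x y z => Subtype.ext (add_mul _ _ _)
      zero_mul := fun x => Subtype.ext (zero_mul _)
      mul_zero := fun x => Subtype.ext (mul_zero _)
      mul_assoc := fun x y z => Subtype.ext (asc_eq (asc_gen hl x.2 y.2 z))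
      one_mul := fun x => Subtype.ext (one_mul _)
      mul_one := fun x => Subtype.ext (mul_one _)
      mul_comm := fun x y => Subtype.ext (comm_gen hl x.2 y.2) }
  haveI : Nontrivial K := ⟨⟨1, 0, fun e => one_ne_zero (α := V) (congrArg Subtype.val e)⟩⟩
  haveI : NoZeroDivisors K := ⟨fun {x y} e => (eq_zero_of_mul hl (congrArg Subtype.val e)).imp
    Subtype.ext Subtype.ext⟩
  haveI : IsDomain K := NoZeroDivisors.to_isDomain K
  let _f : Field K := (Finite.isDomain_to_isField K).toField
  haveI := Fintype.ofFinite K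
  let φ : K →+* AddMonoid.End V :=
    { toFun := fun k => Lm (k : V)
      map_one' := Lm_one
      map_mul' := fun x y => AddMonoidHom.ext fun z => asc_eq (asc_gen hl x.2 y.2 z)
      map_zero' := AddMonoidHom.ext fun z => zero_mul z
      map_add' := fun x y => AddMonoidHom.ext fun z => add_mul _ _ _ }
  have hcomm : ∀ k : K, Commute (φ k) (Rm a) := fun k => AddMonoidHom.ext fun z =>
    (asc_eq (asc_perm hl hr (asc_gen hl k.2 ha z)).2.1).symm
  let φX := Polynomial.eval₂RingHom' φ (Rm a) hcomm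
  have hpow : φX (Polynomial.X ^ Fintype.card K - Polynomial.X) = 0 := by
    have hpk : ∀ n : ℕ, pw a n = (((⟨a, ha⟩ : K) ^ n : K) : V) := fun n => by
      induction n with
      | zero => rw [pw_zero, pow_zero]; rfl
      | succ n ih => rw [pw_succ, pow_succ', ih]; rfl
    have e : Rm a ^ Fintype.card K = Rm a := DFunLike.ext _ _ fun z => by
      rw [mul_pw_right hl hr, hpk, FiniteField.pow_card]; rfl
    rw [map_sub, map_pow]
    show (Polynomial.eval₂ φ (Rm a) Polynomial.X) ^ Fintype.card K -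
      Polynomial.eval₂ φ (Rm a) Polynomial.X = 0
    rw [Polynomial.eval₂_X, e, sub_self]
  have hq : 1 < Fintype.card K := Fintype.one_lt_card
  have hprod : Polynomial.X ^ Fintype.card K - Polynomial.X =
      ((Finset.univ : Finset K).val.map fun g => Polynomial.X - Polynomial.C g).prod := by
    have hm : (Polynomial.X ^ Fintype.card K - Polynomial.X : Polynomial K).Monic :=
      Polynomial.monic_X_pow_sub (by rw [Polynomial.degree_X]; exact_mod_cast hq)
    have hroots := FiniteField.roots_X_pow_card_sub_X K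
    rw [← hroots]
    refine (Polynomial.prod_multiset_X_sub_C_of_monic_of_roots_card_eq hm ?_).symm
    rw [hroots, FiniteField.X_pow_card_sub_X_natDegree_eq K hq]
    rfl
  -- all other factors are injective
  let S : Submonoid (Polynomial K) :=
    { carrier := {f | Function.Injective (φX f)}
      one_mem' := by rw [Set.mem_setOf_eq, map_one]; exact fun x y e => e
      mul_mem' := fun {f g} hf hg => by rw [Set.mem_setOf_eq, map_mul]; exact hf.comp hg }
  let ga : K := ⟨a, ha⟩
  have hinj : (((Finset.univ : Finset K).erase ga).prod fun g => Polynomial.X - Polynomial.C g) ∈ S := by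
    refine prod_mem fun g hg => ?_
    show Function.Injective (φX _)
    refine (injective_iff_map_eq_zero _).2 fun x hx => ?_
    have e : x * a = (g : V) * x := by
      rw [map_sub] at hx
      change (Polynomial.eval₂ φ (Rm a) Polynomial.X - Polynomial.eval₂ φ (Rm a) (Polynomial.C g)) x = 0 at hx
      rw [Polynomial.eval₂_X, Polynomial.eval₂_C] at hx
      exact sub_eq_zero.1 hx
    have hxK := eig x g g.2 e
    rw [comm_gen hl hxK ha, ← sub_eq_zero, ← sub_mul] at e
    refine (eq_zero_of_mul hl e).resolve_left fun e0 => (Finset.mem_erase.1 hg).1 ?_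
    exact Subtype.ext (sub_eq_zero.1 e0).symm
  refine hc (eig c a ha ?_)
  have h0 : φX ((((Finset.univ : Finset K).erase ga).prod fun g => Polynomial.X - Polynomial.C g) *
      (Polynomial.X - Polynomial.C ga)) c = 0 := by
    rw [Finset.prod_erase_mul _ _ (Finset.mem_univ ga), Finset.prod_eq_multiset_prod, ← hprod, hpow]
    rfl
  rw [map_mul] at h0
  have h2 := (injective_iff_map_eq_zero _).1 hinj _ h0
  rw [map_sub] at h2
  change (Polynomial.eval₂ φ (Rm a) Polynomial.X - Polynomial.eval₂ φ (Rm a) (Polynomial.C ga)) c = 0 at h2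
  rw [Polynomial.eval₂_X, Polynomial.eval₂_C] at h2
  exact sub_eq_zero.1 h2

include hl hr in
/-- A finite ring with both inverse properties is commutative and associative. -/
theorem commutative_associative [Nontrivial V] :
    (∀ x y : V, x * y = y * x) ∧ ∀ x y z : V, (x * y) * z = x * (y * z) := by
  obtain ⟨a, ha⟩ := exists_gen_top hl hr
  have hm : ∀ x : V, x ∈ gen a := fun x => ha.symm ▸ AddSubgroup.mem_top x
  exact ⟨fun x y => comm_gen hl (hm x) (hm y), fun x y z => asc_eq (asc_gen hl (hm x) (hm y) z)⟩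

end Cfsg.Agent.Lib.ONan36.Alt
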