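import Cfsg.Agent.Lib.ONan36.Basic

/-!
# O'Nan: axes and lines

An axis is a fixed point set of maximal size; every non-trivial element of `A x` turns out to have
one.  The line of two points is the intersection of the axes through both.
-/

set_option autoImplicit false
set_option linter.style.haveILetI false

namespace Cfsg.Agent.Lib.ONan36

open MulAction Subgroup

universe u v

variable {G : Type u} {X : Type v} [Group G] [MulAction G X] {p : ℕ} {A : X → Subgroup G}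

/-- The context: in addition the subgroups are minimal normal. -/
structure Ctx (G : Type u) (X : Type v) [Group G] [MulAction G X] (p : ℕ) (A : X → Subgroup G) :
    Prop extends Pre G X p A where
  irr : ∀ (x : X) (B : Subgroup G), B ≤ A x → B ≠ ⊥ →
    (∀ g : G, g • x = x → ∀ b ∈ B, g * b * g⁻¹ ∈ B) → B = A x

/-- An axis: the fixed points of a non-trivial element, as many as possible. -/
def IsAxis (A : X → Subgroup G) (H : Set X) : Prop :=
  (∃ x, ∃ a ∈ A x, a ≠ 1 ∧ fixedBy X a = H) ∧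
    ∀ x, ∀ a ∈ A x, a ≠ 1 → (fixedBy X a).ncard ≤ H.ncard

/-- The elements of `A x` fixing `H` pointwise. -/
def tx (A : X → Subgroup G) (x : X) (H : Set X) : Subgroup G := A x ⊓ fixingSubgroup G H

theorem mem_tx {x : X} {H : Set X} {a : G} :
    a ∈ tx A x H ↔ a ∈ A x ∧ ∀ z ∈ H, a • z = z := by
  rw [tx, mem_inf, mem_fixingSubgroup_iff]

variable [Finite G]

namespace Pre

omit [Finite G] in
theorem map_A (h : Pre G X p A) (g : G) (x : X) :
    (A x).map (MulAut.conj g).toMonoidHom = A (g • x) := by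
  simpa using h.map_inf_eq g x x

omit [Finite G] in
theorem card_A (h : Pre G X p A) (x y : X) : Nat.card ↥(A x) = Nat.card ↥(A y) := by
  rcases eq_or_ne x y with rfl | hxy
  · rfl
  obtain ⟨g, hg, -⟩ := h.exists_move hxy hxy.symm
  rw [← hg, ← h.map_A, card_map_of_injective (MulAut.conj g).injective]

/-- `A y` moves every point other than `y`. -/
theorem exists_move_A (h : Pre G X p A) {x y : X} (hxy : x ≠ y) : ∃ b ∈ A y, b • x ≠ x := by
  by_contra hne
  push Not at hne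
  obtain ⟨a, ha, ha1, -⟩ := h.nsr y x hxy.symm
  refine ha1 (h.eq_one_of_fix fun z => ?_)
  rcases eq_or_ne z y with rfl | hz
  · exact h.smul_self ha
  have hc := h.card_stab_eq hxy.symm hz.symm
  rw [inf_eq_left.2 (fun b hb => (mem_stabilizer_iff.2 (hne b hb)))] at hc
  have he := Subgroup.eq_of_le_of_card_ge (inf_le_left (b := stabilizer G z)) hc.le
  exact (mem_inf.1 (he.symm ▸ ha : a ∈ A y ⊓ stabilizer G z)).2

/-- The fixed points of an element of `A x` are closed under the translations at their points. -/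
theorem fix_line (h : Pre G X p A) {x y u : X} {a b : G} (ha : a ∈ A x) (hay : a • y = y)
    (hau : a • u = u) (hb : b ∈ A y) : a • b • u = b • u := by
  rcases eq_or_ne u y with rfl | huy
  · rw [h.smul_self hb, hau]
  set w := b • u with hw
  by_contra hne
  have hwx : w ≠ x := fun e => hne (e ▸ h.smul_self ha)
  obtain ⟨q₀, hq₀, hq₀1, hq₀y⟩ := h.nsr u y huy
  set q := b * q₀ * b⁻¹ with hq
  have hqw : q ∈ A w := h.conj b u q₀ hq₀
  have hq1 : q ≠ 1 := fun e => hq₀1 (conj_eq_one_iff.1 e)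
  set α := q * q₀⁻¹ with hα
  have hαy : α ∈ A y := by
    have h0 := h.conj q₀ y b⁻¹ (inv_mem hb)
    rw [hq₀y] at h0
    convert mul_mem hb h0 using 1
    rw [hα, hq]; group
  have hαu : α • u = u := by
    have h0 := h.inv_smul_of (h.quadratic huy hq₀ hq₀y hb)
    convert h0 using 2
    rw [hα, hq]; group
  have hqy : q • y = y := by
    rw [hq, mul_smul, mul_smul, h.inv_smul_of (h.smul_self hb), hq₀y, h.smul_self hb]
  have hqq : q = α * q₀ := by rw [hα, inv_mul_cancel_right]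
  -- elements of `A y` fixing `u` and of `A u` fixing `y` commute
  have hP : ∀ {d : G}, (d ∈ A y ∧ d • u = u) ∨ (d ∈ A u ∧ d • y = y) →
      ∀ {d' : G}, (d' ∈ A y ∧ d' • u = u) ∨ (d' ∈ A u ∧ d' • y = y) → Commute d d' := by
    rintro d (⟨hd, hdu⟩ | ⟨hd, hdy⟩) d' (⟨hd', hd'u⟩ | ⟨hd', hd'y⟩)
    · exact h.comm y d hd d' hd'
    · exact h.comm_of_fix hd hd' hdu hd'y
    · exact h.comm_of_fix hd hd' hdy hd'u
    · exact h.comm u d hd d' hd'
  have hconjP : ∀ {d : G}, (d ∈ A y ∧ d • u = u) ∨ (d ∈ A u ∧ d • y = y) →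
      (a * d * a⁻¹ ∈ A y ∧ (a * d * a⁻¹) • u = u) ∨ (a * d * a⁻¹ ∈ A u ∧ (a * d * a⁻¹) • y = y) := by
    rintro d (⟨hd, hdu⟩ | ⟨hd, hdy⟩)
    · refine Or.inl ⟨?_, by rw [mul_smul, mul_smul, h.inv_smul_of hau, hdu, hau]⟩
      have := h.conj a y d hd
      rwa [hay] at this
    · refine Or.inr ⟨?_, by rw [mul_smul, mul_smul, h.inv_smul_of hay, hdy, hay]⟩
      have := h.conj a u d hd
      rwa [hau] at this
  set q' := a * q * a⁻¹ with hq'
  have hq'w : q' ∈ A (a • w) := h.conj a w q hqw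
  have hqq' : q' = (a * α * a⁻¹) * (a * q₀ * a⁻¹) := by rw [hq', hqq]; group
  have hcq : ∀ {d : G}, (d ∈ A y ∧ d • u = u) ∨ (d ∈ A u ∧ d • y = y) →
      Commute d q ∧ Commute d q' := fun {d} hd => by
    rw [hqq', hqq]
    exact ⟨(hP hd (Or.inl ⟨hαy, hαu⟩)).mul_right (hP hd (Or.inr ⟨hq₀, hq₀y⟩)),
      (hP hd (hconjP (Or.inl ⟨hαy, hαu⟩))).mul_right (hP hd (hconjP (Or.inr ⟨hq₀, hq₀y⟩)))⟩
  have hqcomm : Commute q q' := by
    conv_lhs => rw [hqq]
    exact ((hcq (Or.inl ⟨hαy, hαu⟩)).2).mul_left (hcq (Or.inr ⟨hq₀, hq₀y⟩)).2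
  have hq'1 : q' ≠ 1 := fun e => hq1 (conj_eq_one_iff.1 e)
  have hqaw : q • a • w = a • w := h.cen_fix hq'w hq'1 hqcomm
  have hqx : q • x = x := h.stab_eq_of_le (y := x) (z := a • w) hwx.symm hne
    (fun c hc hcx => h.fix_orbit hc hcx ha) hqw hqaw
  set t := q' * q⁻¹ with ht
  have htx : t ∈ A x := by
    have h0 := h.conj q x a⁻¹ (inv_mem ha)
    rw [hqx] at h0
    convert mul_mem ha h0 using 1
    rw [ht, hq']; group
  have ht1 : t = 1 := by
    by_contra hne1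
    have hfx : ∀ {d : G}, (d ∈ A y ∧ d • u = u) ∨ (d ∈ A u ∧ d • y = y) → d • x = x := fun hd =>
      h.cen_fix htx hne1 ((hcq hd).2.mul_right (hcq hd).1.inv_right)
    refine hne1 ?_
    rw [ht, mul_inv_eq_one, hq', mul_inv_eq_iff_eq_mul, hqq]
    have c1 : Commute a α := h.comm_of_fix ha hαy hay (hfx (Or.inl ⟨hαy, hαu⟩))
    have c2 : Commute a q₀ := h.comm_of_fix ha hq₀ hau (hfx (Or.inr ⟨hq₀, hq₀y⟩))
    exact (c1.mul_right c2).eq
  rw [ht, mul_inv_eq_one, hq', mul_inv_eq_iff_eq_mul] at ht1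
  exact hne (h.cen_fix hqw hq1 ht1)

theorem commutator_fix (h : Pre G X p A) {x y u : X} {a b : G} (ha : a ∈ A x) (hay : a • y = y)
    (hau : a • u = u) (hb : b ∈ A y) : (a * b * a⁻¹ * b⁻¹) • u = u := by
  have := h.inv_smul_of (h.fix_line ha hay hau (inv_mem hb))
  rw [mul_smul, mul_smul, mul_smul, this, smul_inv_smul, hau]

theorem fixedBy_eq (h : Pre G X p A) {H : Set X} (hH : IsAxis A H) {x : X} {a : G}
    (ha : a ∈ tx A x H) (ha1 : a ≠ 1) : fixedBy X a = H := by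
  haveI := h.finX
  exact (Set.eq_of_subset_of_ncard_le (fun z hz => (mem_tx.1 ha).2 z hz)
    (hH.2 x a (mem_tx.1 ha).1 ha1)).symm

/-- Every point of an axis is a centre for it. -/
theorem exists_tx (h : Pre G X p A) {H : Set X} (hH : IsAxis A H) {y : X} (hy : y ∈ H) :
    ∃ e ∈ tx A y H, e ≠ 1 := by
  obtain ⟨⟨x, a, ha, ha1, rfl⟩, -⟩ := hH
  rcases eq_or_ne x y with rfl | hxy
  · exact ⟨a, mem_tx.2 ⟨ha, fun z hz => hz⟩, ha1⟩
  obtain ⟨b, hb, hbx⟩ := h.exists_move_A hxy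
  refine ⟨a * b * a⁻¹ * b⁻¹, mem_tx.2 ⟨h.comm_mem hy hb, fun u hu => h.commutator_fix ha hy hu hb⟩,
    fun e => hbx (h.cen_fix ha ha1 ?_)⟩
  rw [mul_inv_eq_one, mul_inv_eq_iff_eq_mul] at e
  exact e.symm

theorem exists_axis (h : Pre G X p A) {x y : X} (hxy : x ≠ y) : ∃ H : Set X, IsAxis A H := by
  haveI := h.finX
  obtain ⟨a, ha, ha1, -⟩ := h.nsr x y hxy
  let S : Set (Set X) := {H | ∃ x, ∃ a ∈ A x, a ≠ 1 ∧ fixedBy X a = H}
  obtain ⟨H, hH, hmax⟩ := Set.exists_max_image S Set.ncard (Set.toFinite _) ⟨_, x, a, ha, ha1, rfl⟩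
  exact ⟨H, hH, fun x a ha ha1 => hmax _ ⟨x, a, ha, ha1, rfl⟩⟩

omit [Finite G] in
theorem exists_notMem (h : Pre G X p A) {H : Set X} (hH : IsAxis A H) : ∃ z, z ∉ H := by
  obtain ⟨⟨x, a, -, ha1, rfl⟩, -⟩ := hH
  by_contra hne
  push Not at hne
  exact ha1 (h.eq_one_of_fix hne)

theorem tx_inf_stab (h : Pre G X p A) {H : Set X} (hH : IsAxis A H) {x z : X} (hz : z ∉ H)
    {a : G} (ha : a ∈ tx A x H) (haz : a • z = z) : a = 1 :=
  by_contra fun ha1 => hz (h.fixedBy_eq hH ha ha1 ▸ haz)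

/-- The map `b ↦ a b a⁻¹ b⁻¹` on `A y`, into the elements at `y` with the axis of `a`. -/
def commHom (h : Pre G X p A) {x y : X} {a : G} (ha : a ∈ A x) (hay : a • y = y) :
    ↥(A y) →* ↥(tx A y (fixedBy X a)) :=
  MonoidHom.mk'
    (fun b => ⟨a * (b : G) * a⁻¹ * (b : G)⁻¹,
      mem_tx.2 ⟨h.comm_mem hay b.2, fun _u hu => h.commutator_fix ha hay hu b.2⟩⟩)
    fun b b' => Subtype.ext (by
      show a * ((b : G) * b') * a⁻¹ * ((b : G) * b')⁻¹ =
        (a * b * a⁻¹ * (b : G)⁻¹) * (a * b' * a⁻¹ * (b' : G)⁻¹)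
      have hc : Commute (b : G)⁻¹ (a * (b' : G) * a⁻¹) := by
        have := h.conj a y b' b'.2
        rw [hay] at this
        exact h.comm y _ (inv_mem b.2) _ this
      have hc' : Commute (b : G)⁻¹ (b' : G)⁻¹ := h.comm y _ (inv_mem b.2) _ (inv_mem b'.2)
      calc a * ((b : G) * b') * a⁻¹ * ((b : G) * b')⁻¹
          = (a * b * a⁻¹) * ((a * b' * a⁻¹) * ((b' : G)⁻¹ * (b : G)⁻¹)) := by group
        _ = (a * b * a⁻¹) * ((a * b' * a⁻¹) * ((b : G)⁻¹ * (b' : G)⁻¹)) := by rw [hc'.eq]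
        _ = (a * b * a⁻¹) * ((b : G)⁻¹ * (a * b' * a⁻¹) * (b' : G)⁻¹) := by rw [← mul_assoc (a * b' * a⁻¹), hc.eq]
        _ = _ := by group)

@[simp] theorem commHom_apply (h : Pre G X p A) {x y : X} {a : G} (ha : a ∈ A x)
    (hay : a • y = y) (b : ↥(A y)) :
    ((h.commHom ha hay b : ↥(tx A y (fixedBy X a))) : G) = a * b * a⁻¹ * (b : G)⁻¹ := rfl

theorem ker_commHom (h : Pre G X p A) {x y : X} {a : G} (ha : a ∈ A x) (ha1 : a ≠ 1)
    (hay : a • y = y) : (h.commHom ha hay).ker = (stabilizer G x).subgroupOf (A y) := by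
  ext b
  rw [MonoidHom.mem_ker, mem_subgroupOf, mem_stabilizer_iff]
  constructor
  · intro e
    have e' := congrArg Subtype.val e
    rw [commHom_apply, OneMemClass.coe_one, mul_inv_eq_one, mul_inv_eq_iff_eq_mul] at e'
    exact h.cen_fix ha ha1 e'.symm
  · intro e
    refine Subtype.ext ?_
    rw [commHom_apply, OneMemClass.coe_one, h.comm_of_fix ha b.2 hay e, mul_inv_cancel_right,
      mul_inv_cancel]

theorem card_A_eq_range (h : Pre G X p A) {x y : X} {a : G} (ha : a ∈ A x) (ha1 : a ≠ 1)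
    (hay : a • y = y) :
    Nat.card ↥(A y) = Nat.card ↥(h.commHom ha hay).range * Nat.card ↥(A y ⊓ stabilizer G x) := by
  rw [← Subgroup.index_mul_card (h.commHom ha hay).ker, Subgroup.index_ker, h.ker_commHom ha ha1 hay,
    ← inf_subgroupOf_left, Nat.card_congr (subgroupOfEquivOfLe inf_le_left).toEquiv]

/-- For an axis `H`, a centre `x` on it and a point `z` off it, `A x` is the product of the
elements with axis `H` and those fixing `z`. -/
theorem card_tx_mul (h : Pre G X p A) {H : Set X} (hH : IsAxis A H) {x z : X} (hx : x ∈ H)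
    (hz : z ∉ H) : Nat.card ↥(tx A x H) * Nat.card ↥(A x ⊓ stabilizer G z) = Nat.card ↥(A x) := by
  have hxz : x ≠ z := fun e => hz (e ▸ hx)
  apply le_antisymm
  · rw [← Nat.card_prod]
    refine Nat.card_le_card_of_injective (fun s : ↥(tx A x H) × ↥(A x ⊓ stabilizer G z) =>
      (⟨(s.1 : G) * s.2, mul_mem (mem_tx.1 s.1.2).1 s.2.2.1⟩ : ↥(A x))) ?_
    rintro ⟨t, w⟩ ⟨t', w'⟩ e
    have e' : (t : G) * w = (t' : G) * w' := congrArg Subtype.val e
    have e2 : (t' : G)⁻¹ * t = w' * (w : G)⁻¹ := by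
      calc (t' : G)⁻¹ * t = (t' : G)⁻¹ * (t * w) * (w : G)⁻¹ := by group
        _ = w' * (w : G)⁻¹ := by rw [e']; group
    have e3 : (t' : G)⁻¹ * t = 1 :=
      h.tx_inf_stab hH hz (mul_mem (inv_mem t'.2) t.2) (by
        rw [e2]
        exact (mul_mem w'.2 (inv_mem w.2) : (w' : G) * (w : G)⁻¹ ∈ A x ⊓ stabilizer G z).2)
    rw [e2] at e3
    exact Prod.ext (Subtype.ext (inv_mul_eq_one.1 (e2.trans e3)).symm)
      (Subtype.ext (mul_inv_eq_one.1 e3).symm)
  · by_cases hy : ∃ y ∈ H, y ≠ x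
    · obtain ⟨y, hy, hyx⟩ := hy
      obtain ⟨a, ha, ha1⟩ := h.exists_tx hH hy
      have hfix := h.fixedBy_eq hH ha ha1
      have hax : a • x = x := (mem_tx.1 ha).2 x hx
      rw [h.card_A_eq_range (mem_tx.1 ha).1 ha1 hax, h.card_stab_eq hxz hyx.symm]
      refine Nat.mul_le_mul_right _ ?_
      rw [← show tx A x (fixedBy X a) = tx A x H by rw [hfix]]
      exact Subgroup.card_le_card_group _
    · push Not at hy
      obtain ⟨a, ha, ha1⟩ := h.exists_tx hH hx
      obtain ⟨w, hw, hw1, hwz⟩ := h.nsr x z hxz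
      haveI := h.finX
      have h1 := hH.2 x w hw hw1
      have h2 : H ⊆ {x} := fun y hy' => hy y hy'
      have h3 : ({x, z} : Set X) ⊆ fixedBy X w := by
        rintro u (rfl | rfl)
        · exact h.smul_self hw
        · exact hwz
      have := (Set.ncard_le_ncard h3).trans (h1.trans ((Set.ncard_le_ncard h2).trans (Set.ncard_singleton x).le))
      rw [Set.ncard_pair hxz] at this
      omega

/-- The elements at two centres of axes are equally many. -/
theorem card_tx_eq (h : Pre G X p A) {H K : Set X} (hH : IsAxis A H) (hK : IsAxis A K) {x y : X}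
    (hx : x ∈ H) (hy : y ∈ K) : Nat.card ↥(tx A x H) = Nat.card ↥(tx A y K) := by
  obtain ⟨z, hz⟩ := h.exists_notMem hH
  obtain ⟨z', hz'⟩ := h.exists_notMem hK
  have h1 := h.card_tx_mul hH hx hz
  have hxz : x ≠ z := fun e => hz (e ▸ hx)
  rw [h.card_stab_eq hxz (x' := y) (y' := z') (fun e => hz' (e ▸ hy)), h.card_A x y,
    ← h.card_tx_mul hK hy hz'] at h1
  exact Nat.eq_of_mul_eq_mul_right Nat.card_pos h1

/-- Every element at `y` with axis `H` is a commutator with any given one at `x`. -/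
theorem exists_commutator (h : Pre G X p A) {H : Set X} (hH : IsAxis A H) {x y : X} (hx : x ∈ H)
    (hy : y ∈ H) (hxy : x ≠ y) {a t : G} (ha : a ∈ tx A x H) (ha1 : a ≠ 1) (ht : t ∈ tx A y H) :
    ∃ b ∈ A y, a * b * a⁻¹ * b⁻¹ = t := by
  have hfix := h.fixedBy_eq hH ha ha1
  have hay : a • y = y := (mem_tx.1 ha).2 y hy
  obtain ⟨z, hz⟩ := h.exists_notMem hH
  have h1 := h.card_A_eq_range (mem_tx.1 ha).1 ha1 hay
  rw [← h.card_tx_mul hH hy hz, h.card_stab_eq hxy.symm (x' := y) (y' := z) (fun e => hz (e ▸ hy))] at h1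
  have h2 : (h.commHom (mem_tx.1 ha).1 hay).range = ⊤ := Subgroup.eq_top_of_card_eq _ (by
    rw [← Nat.eq_of_mul_eq_mul_right Nat.card_pos h1, hfix])
  obtain ⟨b, hb⟩ := MonoidHom.range_eq_top.1 h2 ⟨t, by rwa [hfix]⟩
  exact ⟨b, b.2, congrArg Subtype.val hb⟩

/-- `A x` is the product of the elements with axis `H` and those fixing `z`. -/
theorem exists_decomp (h : Pre G X p A) {H : Set X} (hH : IsAxis A H) {x z : X} (hx : x ∈ H)
    (hz : z ∉ H) {c : G} (hc : c ∈ A x) :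
    ∃ t ∈ tx A x H, ∃ w ∈ A x, w • z = z ∧ c = t * w := by
  let f : ↥(tx A x H) × ↥(A x ⊓ stabilizer G z) → ↥(A x) := fun s =>
    ⟨(s.1 : G) * s.2, mul_mem (mem_tx.1 s.1.2).1 s.2.2.1⟩
  have hinj : Function.Injective f := by
    rintro ⟨t, w⟩ ⟨t', w'⟩ e
    have e' : (t : G) * w = (t' : G) * w' := congrArg Subtype.val e
    have e2 : (t' : G)⁻¹ * t = w' * (w : G)⁻¹ := by
      calc (t' : G)⁻¹ * t = (t' : G)⁻¹ * (t * w) * (w : G)⁻¹ := by group
        _ = w' * (w : G)⁻¹ := by rw [e']; group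
    have e3 : (t' : G)⁻¹ * t = 1 :=
      h.tx_inf_stab hH hz (mul_mem (inv_mem t'.2) t.2) (by
        rw [e2]
        exact (mul_mem w'.2 (inv_mem w.2) : (w' : G) * (w : G)⁻¹ ∈ A x ⊓ stabilizer G z).2)
    rw [e2] at e3
    exact Prod.ext (Subtype.ext (inv_mul_eq_one.1 (e2.trans e3)).symm)
      (Subtype.ext (mul_inv_eq_one.1 e3).symm)
  have hb := hinj.bijective_of_nat_card_le (le_of_eq (by rw [Nat.card_prod, h.card_tx_mul hH hx hz]))
  obtain ⟨⟨t, w⟩, e⟩ := hb.2 ⟨c, hc⟩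
  exact ⟨t, t.2, w, w.2.1, w.2.2, (congrArg Subtype.val e).symm⟩

end Pre

end Cfsg.Agent.Lib.ONan36
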