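import Mathlib

/-!
# O'Nan: an abelian normal subgroup of a point stabiliser which is not semiregular

Basic consequences: the subgroups meet trivially, act quadratically on each other, and the fixed
point sets are closed under the translations at their points.  See `notes/onan_S3410_helper36.md`.
-/

set_option autoImplicit false
set_option linter.style.haveILetI false

namespace Cfsg.Agent.Lib.ONan36

open MulAction Subgroup

universe u v

variable {G : Type u} {X : Type v} [Group G] [MulAction G X]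

/-- The elementary abelian normal subgroups of the point stabilisers. -/
structure Pre (G : Type u) (X : Type v) [Group G] [MulAction G X] (p : ℕ)
    (A : X → Subgroup G) : Prop where
  prime : p.Prime
  two : IsMultiplyPretransitive G X 2
  faithful : FaithfulSMul G X
  finX : Finite X
  le : ∀ x, A x ≤ stabilizer G x
  conj : ∀ (g : G) (x : X), ∀ a ∈ A x, g * a * g⁻¹ ∈ A (g • x)
  comm : ∀ x, ∀ a ∈ A x, ∀ b ∈ A x, a * b = b * a
  pow : ∀ x, ∀ a ∈ A x, a ^ p = 1
  nsr : ∀ x y : X, x ≠ y → ∃ a ∈ A x, a ≠ 1 ∧ a • y = y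

variable {p : ℕ} {A : X → Subgroup G}

namespace Pre

theorem exists_move (_h : Pre G X p A) {x y x' y' : X} (hxy : x ≠ y) (hxy' : x' ≠ y') :
    ∃ g : G, g • x = x' ∧ g • y = y' :=
  (is_two_pretransitive_iff (G := G) (α := X)).1 _h.two hxy hxy'

theorem eq_one_of_fix (h : Pre G X p A) {g : G} (hg : ∀ z : X, g • z = z) : g = 1 := by
  haveI := h.faithful
  exact eq_of_smul_eq_smul (α := X) fun z => by rw [hg z, one_smul]

theorem smul_self (h : Pre G X p A) {x : X} {a : G} (ha : a ∈ A x) : a • x = x := h.le x ha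

theorem inv_smul_of (_h : Pre G X p A) {a : G} {z : X} (ha : a • z = z) : a⁻¹ • z = z := by
  rw [inv_smul_eq_iff, ha]

theorem conj_iff (h : Pre G X p A) {g : G} {x : X} {a : G} :
    g * a * g⁻¹ ∈ A (g • x) ↔ a ∈ A x := by
  refine ⟨fun ha => ?_, h.conj g x a⟩
  have := h.conj g⁻¹ _ _ ha
  rwa [inv_smul_smul, show g⁻¹ * (g * a * g⁻¹) * g⁻¹⁻¹ = a by group] at this

/-- `A x ⊓ G_y`. -/
theorem map_inf_eq (h : Pre G X p A) (g : G) (x y : X) :
    (A x ⊓ A y).map (MulAut.conj g).toMonoidHom = A (g • x) ⊓ A (g • y) := by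
  ext a
  constructor
  · rintro ⟨b, ⟨hb1, hb2⟩, rfl⟩
    exact ⟨h.conj g x b hb1, h.conj g y b hb2⟩
  · rintro ⟨h1, h2⟩
    have e : a = g * (g⁻¹ * a * g) * g⁻¹ := by group
    rw [e] at h1 h2
    exact ⟨g⁻¹ * a * g, ⟨h.conj_iff.1 h1, h.conj_iff.1 h2⟩, e.symm⟩

theorem card_inf_eq (h : Pre G X p A) {x y x' y' : X} (hxy : x ≠ y) (hxy' : x' ≠ y') :
    Nat.card ↥(A x ⊓ A y) = Nat.card ↥(A x' ⊓ A y') := by
  obtain ⟨g, rfl, rfl⟩ := h.exists_move hxy hxy'
  rw [← h.map_inf_eq, card_map_of_injective (MulAut.conj g).injective]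

variable [Finite G]

/-- The subgroups at two points meet trivially. -/
theorem disjoint (h : Pre G X p A) {x y : X} (hxy : x ≠ y) {a : G} (hax : a ∈ A x)
    (hay : a ∈ A y) : a = 1 := by
  have key : ∀ {u v u' v' : X}, u ≠ v → u' ≠ v' → A u ⊓ A v ≤ A u' ⊓ A v' →
      A u ⊓ A v = A u' ⊓ A v' := fun h1 h2 hle =>
    Subgroup.eq_of_le_of_card_ge hle (h.card_inf_eq h2 h1).le
  refine h.eq_one_of_fix fun z => ?_
  by_cases hz : A x ⊓ A y ≤ A z
  · exact h.smul_self (hz ⟨hax, hay⟩)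
  by_contra hne
  have hzx : z ≠ x := fun e => hne (e ▸ h.smul_self hax)
  have hzy : z ≠ y := fun e => hne (e ▸ h.smul_self hay)
  have side : ∀ {w : X}, w ≠ z → a ∈ A w →
      A w ⊓ A z = A z ⊓ A (a • z) := by
    intro w hwz haw
    have hle : A w ⊓ A z ≤ A z ⊓ A (a • z) := fun d hd => ⟨hd.2, by
      have := h.conj a z d hd.2
      rwa [h.comm w a haw d hd.1, mul_inv_cancel_right] at this⟩
    exact key hwz (fun e => hne e.symm) hle
  have hsx := side hzx.symm hax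
  have hsy := side hzy.symm hay
  have h1 : A x ⊓ A z ≤ A x ⊓ A y := fun d hd => ⟨hd.1, by
    have : d ∈ A y ⊓ A z := by rw [hsy, ← hsx]; exact hd
    exact this.1⟩
  exact hz (fun d hd => by rw [← key hzx.symm hxy h1] at hd; exact hd.2)

/-- The centraliser of a non-trivial element of `A x` fixes `x`. -/
theorem cen_fix (h : Pre G X p A) {x : X} {a g : G} (ha : a ∈ A x) (ha1 : a ≠ 1)
    (hc : g * a = a * g) : g • x = x := by
  by_contra hne
  have := h.conj g x a ha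
  rw [hc, mul_inv_cancel_right] at this
  exact ha1 (h.disjoint (Ne.symm hne) ha this)

theorem eq_one_of_comm (h : Pre G X p A) {x : X} {a g : G} (ha : a ∈ A x)
    (hg : g • x ≠ x) (hc : g * a = a * g) : a = 1 :=
  by_contra fun ha1 => hg (h.cen_fix ha ha1 hc)

/-- Elements fixing each other's centres commute. -/
theorem comm_of_fix (h : Pre G X p A) {x y : X} {a b : G} (ha : a ∈ A x) (hb : b ∈ A y)
    (hay : a • y = y) (hbx : b • x = x) : a * b = b * a := by
  rcases eq_or_ne x y with rfl | hxy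
  · exact h.comm x a ha b hb
  have h1 : a * b * a⁻¹ * b⁻¹ ∈ A y := by
    refine mul_mem ?_ (inv_mem hb)
    have := h.conj a y b hb
    rwa [hay] at this
  have h2 : a * b * a⁻¹ * b⁻¹ ∈ A x := by
    have h0 := h.conj b x a ha
    rw [hbx] at h0
    convert mul_mem ha (inv_mem h0) using 1
    group
  have h3 := h.disjoint hxy h2 h1
  rwa [mul_inv_eq_one, mul_inv_eq_iff_eq_mul] at h3

theorem one_lt_card (h : Pre G X p A) {x y : X} (hxy : x ≠ y) :
    1 < Nat.card ↥(A x ⊓ stabilizer G y) := by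
  obtain ⟨a, ha, ha1, hay⟩ := h.nsr x y hxy
  refine Finite.one_lt_card_iff_nontrivial.2 ⟨⟨⟨a, ha, hay⟩, 1, fun e => ha1 ?_⟩⟩
  exact congrArg Subtype.val e

omit [Finite G] in
theorem map_stab_eq (h : Pre G X p A) (g : G) (x y : X) :
    (A x ⊓ stabilizer G y).map (MulAut.conj g).toMonoidHom =
      A (g • x) ⊓ stabilizer G (g • y) := by
  ext a
  constructor
  · rintro ⟨b, ⟨hb1, hb2⟩, rfl⟩
    refine ⟨h.conj g x b hb1, ?_⟩
    show (g * b * g⁻¹) • g • y = g • y
    rw [mul_smul, mul_smul, inv_smul_smul, (hb2 : b • y = y)]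
  · rintro ⟨h1, h2⟩
    have e : a = g * (g⁻¹ * a * g) * g⁻¹ := by group
    rw [e] at h1
    refine ⟨g⁻¹ * a * g, ⟨h.conj_iff.1 h1, ?_⟩, e.symm⟩
    show (g⁻¹ * a * g) • y = y
    rw [mul_smul, mul_smul, (h2 : a • g • y = g • y), inv_smul_smul]

omit [Finite G] in
theorem card_stab_eq (h : Pre G X p A) {x y x' y' : X} (hxy : x ≠ y) (hxy' : x' ≠ y') :
    Nat.card ↥(A x ⊓ stabilizer G y) = Nat.card ↥(A x' ⊓ stabilizer G y') := by
  obtain ⟨g, rfl, rfl⟩ := h.exists_move hxy hxy'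
  rw [← h.map_stab_eq, card_map_of_injective (MulAut.conj g).injective]

/-- Equality of the stabilisers in `A x` from an inclusion. -/
theorem stab_eq_of_le (h : Pre G X p A) {x y z : X} (hy : y ≠ x) (hz : z ≠ x)
    (hle : ∀ a ∈ A x, a • y = y → a • z = z) {a : G} (ha : a ∈ A x) (haz : a • z = z) :
    a • y = y := by
  have := Subgroup.eq_of_le_of_card_ge (H := A x ⊓ stabilizer G y) (K := A x ⊓ stabilizer G z)
    (fun b hb => ⟨hb.1, hle b hb.1 hb.2⟩) (h.card_stab_eq hz.symm hy.symm).le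
  have hmem : a ∈ A x ⊓ stabilizer G y := this.symm ▸ ⟨ha, haz⟩
  exact hmem.2

omit [Finite G] in
theorem isPGroup (h : Pre G X p A) (x : X) : IsPGroup p (A x) := fun a =>
  ⟨1, Subtype.ext (by rw [pow_one, SubgroupClass.coe_pow, h.pow x a a.2, OneMemClass.coe_one])⟩

/-- A `p`-group normalising a non-trivial subgroup of `A x` centralises a non-trivial element. -/
theorem exists_fixed (h : Pre G X p A) {x : X} {Q E : Subgroup G} (hQ : IsPGroup p Q)
    (hE : E ≤ A x) (hE1 : E ≠ ⊥) (hn : ∀ q ∈ Q, ∀ e ∈ E, q * e * q⁻¹ ∈ E) :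
    ∃ e ∈ E, e ≠ 1 ∧ ∀ q ∈ Q, q * e = e * q := by
  haveI := Fact.mk h.prime
  let _act : MulAction Q E :=
    { smul := fun q e => ⟨(q : G) * e * (q : G)⁻¹, hn q q.2 e e.2⟩
      one_smul := fun e => Subtype.ext (by
        show (1 : G) * e * (1 : G)⁻¹ = e
        group)
      mul_smul := fun q r e => Subtype.ext (by
        show ((q : G) * r) * e * ((q : G) * r)⁻¹ = (q : G) * ((r : G) * e * (r : G)⁻¹) * (q : G)⁻¹
        group) }
  have h1 : (1 : E) ∈ fixedPoints Q E := fun q => Subtype.ext (by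
    show (q : G) * (1 : G) * (q : G)⁻¹ = 1
    group)
  have hdvd : p ∣ Nat.card E := by
    obtain ⟨k, hk⟩ := IsPGroup.iff_card.1 ((h.isPGroup x).to_le hE)
    rcases Nat.eq_zero_or_pos k with rfl | hk0
    · exact absurd (card_eq_one.1 (by rw [hk, pow_zero])) hE1
    · exact hk ▸ dvd_pow_self p (by omega)
  obtain ⟨e, he, hne⟩ := hQ.exists_fixed_point_of_prime_dvd_card_of_fixed_point E hdvd h1
  refine ⟨e, e.2, fun e1 => hne (Subtype.ext e1.symm), fun q hq => ?_⟩
  have := congrArg Subtype.val (he ⟨q, hq⟩)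
  exact mul_inv_eq_iff_eq_mul.1 this

omit [Finite G] in
/-- `w b w⁻¹ b⁻¹` lies in `A y` when `w` fixes `y`. -/
theorem comm_mem (h : Pre G X p A) {y : X} {w v : G} (hw : w • y = y) (hv : v ∈ A y) :
    w * v * w⁻¹ * v⁻¹ ∈ A y := by
  have := h.conj w y v hv
  rw [hw] at this
  exact mul_mem this (inv_mem hv)

omit [Finite G] in
/-- Conjugation commutators by commuting elements commute on an abelian subgroup. -/
theorem comm_comm (h : Pre G X p A) {y : X} {e w v : G} (he : e • y = y) (hw : w • y = y)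
    (hv : v ∈ A y) (hew : e * w = w * e) :
    e * (w * v * w⁻¹ * v⁻¹) * e⁻¹ * (w * v * w⁻¹ * v⁻¹)⁻¹ =
      w * (e * v * e⁻¹ * v⁻¹) * w⁻¹ * (e * v * e⁻¹ * v⁻¹)⁻¹ := by
  have hmem : ∀ {g : G}, g • y = y → ∀ {u : G}, u ∈ A y → g * u * g⁻¹ ∈ A y := fun {g} hg {u} hu => by
    have := h.conj g y u hu
    rwa [hg] at this
  have hc : ∀ {u u' : G}, u ∈ A y → u' ∈ A y → Commute u u' := fun hu hu' => h.comm y _ hu _ hu'
  set P := e * (w * v * w⁻¹) * e⁻¹ with hP
  set E := e * v * e⁻¹ with hE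
  set W := w * v * w⁻¹ with hW
  have hPm : P ∈ A y := hmem he (hmem hw hv)
  have hEm : E ∈ A y := hmem he hv
  have hWm : W ∈ A y := hmem hw hv
  have hP' : w * (e * v * e⁻¹) * w⁻¹ = P := by
    rw [hP]
    calc w * (e * v * e⁻¹) * w⁻¹ = (w * e) * v * (w * e)⁻¹ := by group
      _ = (e * w) * v * (e * w)⁻¹ := by rw [hew]
      _ = e * (w * v * w⁻¹) * e⁻¹ := by group
  have l : e * (W * v⁻¹) * e⁻¹ * (W * v⁻¹)⁻¹ = P * E⁻¹ * (v * W⁻¹) := by
    rw [hP, hE]; group
  have r : w * (E * v⁻¹) * w⁻¹ * (E * v⁻¹)⁻¹ = P * W⁻¹ * (v * E⁻¹) := by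
    rw [← hP', hE, hW]; group
  rw [l, r, mul_assoc P E⁻¹, mul_assoc P W⁻¹]
  congr 1
  calc E⁻¹ * (v * W⁻¹) = (v * W⁻¹) * E⁻¹ :=
        (hc (inv_mem hEm) (mul_mem hv (inv_mem hWm))).eq
    _ = v * (W⁻¹ * E⁻¹) := by group
    _ = v * (E⁻¹ * W⁻¹) := by rw [(hc (inv_mem hWm) (inv_mem hEm)).eq]
    _ = (v * E⁻¹) * W⁻¹ := by group
    _ = W⁻¹ * (v * E⁻¹) := (hc (mul_mem hv (inv_mem hEm)) (inv_mem hWm)).eq

/-- A non-trivial subgroup of `A x` invariant under `G_x` has a non-trivial element fixing `y`. -/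
theorem exists_fix_of_invariant (h : Pre G X p A) {x y : X} (hxy : x ≠ y) {B : Subgroup G}
    (hB : B ≤ A x) (hB1 : B ≠ ⊥) (hn : ∀ g : G, g • x = x → ∀ b ∈ B, g * b * g⁻¹ ∈ B) :
    ∃ b ∈ B, b ≠ 1 ∧ b • y = y := by
  obtain ⟨u, hu, hu1, hux⟩ := h.nsr y x hxy.symm
  obtain ⟨e, heB, he1, he⟩ := h.exists_fixed (Q := A y ⊓ stabilizer G x)
    ((h.isPGroup y).to_le inf_le_left) hB hB1 (fun q hq b hb => hn q hq.2 b hb)
  exact ⟨e, heB, he1, h.cen_fix hu hu1 (he u ⟨hu, hux⟩).symm⟩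

/-- An element of `A x` fixing `y` centralises the commutators of its action on `A y`. -/
theorem quadratic (h : Pre G X p A) {x y : X} (hxy : x ≠ y) {w v : G} (hw : w ∈ A x)
  (hwy : w • y = y) (hv : v ∈ A y) : (w * v * w⁻¹ * v⁻¹) • x = x := by
  -- a non-trivial `e` in `A x` fixing `y` and `v • x`
  obtain ⟨e, he, he1, hey, hez⟩ : ∃ e ∈ A x, e ≠ 1 ∧ e • y = y ∧ e • v • x = v • x := by
    rcases eq_or_ne (v • x) x with hvx | hvx
    · obtain ⟨e, he, he1, hey⟩ := h.nsr x y hxy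
      exact ⟨e, he, he1, hey, by rw [hvx, h.smul_self he]⟩
    obtain ⟨e₀, he₀, he₀1, he₀z⟩ := h.nsr x (v • x) hvx.symm
    obtain ⟨u, hu, hu1, hux⟩ := h.nsr y x hxy.symm
    have hfix : ∀ q ∈ A y, q • x = x → q • v • x = v • x := fun q hq hqx => by
      rw [← mul_smul, h.comm y q hq v hv, mul_smul, hqx]
    obtain ⟨e, heE, he1, hec⟩ := h.exists_fixed (Q := A y ⊓ stabilizer G x)
      (E := A x ⊓ stabilizer G (v • x)) ((h.isPGroup y).to_le inf_le_left) inf_le_left
      (fun hb => he₀1 (Subgroup.mem_bot.1 (hb ▸ ⟨he₀, he₀z⟩)))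
      (fun q hq e he => ⟨by
        have := h.conj q x e he.1
        rwa [(hq.2 : q • x = x)] at this, by
        show (q * e * q⁻¹) • v • x = v • x
        rw [mul_smul, mul_smul, h.inv_smul_of (hfix q hq.1 hq.2), (he.2 : e • v • x = v • x),
          hfix q hq.1 hq.2]⟩)
    exact ⟨e, heE.1, he1, h.cen_fix hu hu1 (hec u ⟨hu, hux⟩).symm, heE.2⟩
  set d := w * v * w⁻¹ * v⁻¹ with hd
  have hdy : d ∈ A y := h.comm_mem hwy hv
  -- the commutator with `e` fixes `x`
  have hevx : (e * v * e⁻¹ * v⁻¹) • x = x := by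
    have h1 : e * v * e⁻¹ * v⁻¹ = v⁻¹ * (e * v * e⁻¹) := by
      have hm : e * v * e⁻¹ ∈ A y := by
        have := h.conj e y v hv
        rwa [hey] at this
      exact h.comm y _ hm _ (inv_mem hv)
    rw [h1, mul_smul, mul_smul, mul_smul, h.inv_smul_of (h.smul_self he), hez, inv_smul_smul]
  have hde : e * d * e⁻¹ * d⁻¹ = 1 := by
    rw [hd, h.comm_comm hey hwy hv (h.comm x e he w hw)]
    have hc := h.comm_of_fix hw (h.comm_mem hey hv) hwy hevx
    rw [hc, mul_inv_cancel_right, mul_inv_cancel]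
  exact h.cen_fix he he1 (by rw [mul_inv_eq_one, mul_inv_eq_iff_eq_mul] at hde; exact hde.symm)

/-- `A x ⊓ G_y` fixes the orbit of `x` under `A y`. -/
theorem fix_orbit (h : Pre G X p A) {x y : X} {w v : G} (hw : w ∈ A x) (hwy : w • y = y)
    (hv : v ∈ A y) : w • v • x = v • x := by
  rcases eq_or_ne x y with rfl | hxy
  · rw [h.smul_self hv, h.smul_self hw]
  have hc := h.quadratic hxy hw hwy hv
  set c := w * v * w⁻¹ * v⁻¹ with hcdef
  have hcm : c ∈ A y := h.comm_mem hwy hv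
  have : w * v = c * v * w := by rw [hcdef]; group
  rw [← mul_smul, this, mul_smul, h.smul_self hw, h.comm y c hcm v hv, mul_smul, hc]

end Pre

end Cfsg.Agent.Lib.ONan36
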