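import Cfsg.Agent.Lib.ONan36.Frame

/-!
# O'Nan: coordinates on the translations of an axis
-/

set_option autoImplicit false
set_option linter.style.haveILetI false

namespace Cfsg.Agent.Lib.ONan36

open MulAction Subgroup Pointwise
open scoped IsMulCommutative

universe u v

variable {G : Type u} {X : Type v} [Group G] [MulAction G X] {p : ℕ} {A : X → Subgroup G}

/-- A base point off the axis and a basis on it. -/
structure Basis (A : X → Subgroup G) (H : Set X) (z : X) {m : ℕ} (pt : Fin m → X) : Prop where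
  two : 2 ≤ m
  inj : Function.Injective pt
  mem : ∀ i, pt i ∈ H
  notMem : z ∉ H
  span : Ctx.trans A H ≤ ⨆ u ∈ Set.range pt, tx A u H
  indep : ∀ i, tx A (pt i) H ⊓ (⨆ u ∈ pt '' {i}ᶜ, tx A u H) = ⊥

/-- The elements at `pt k` fixing `z` and every basis point but `pt j`. -/
def dd (A : X → Subgroup G) (z : X) {m : ℕ} (pt : Fin m → X) (j k : Fin m) : Subgroup G :=
  A (pt k) ⊓ fixingSubgroup G (insert z (pt '' {j}ᶜ))

/-- The axial elements at `u`, inside the translations. -/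
def part (A : X → Subgroup G) (H : Set X) (u : X) : AddSubgroup (Additive ↥(Ctx.trans A H)) :=
  Subgroup.toAddSubgroup ((tx A u H).subgroupOf (Ctx.trans A H))

theorem mem_part {H : Set X} {u : X} {t : Additive ↥(Ctx.trans A H)} :
    t ∈ part A H u ↔ (t.toMul : G) ∈ tx A u H := Iff.rfl

variable [Finite G]

namespace Ctx

theorem exists_frame (h : Ctx G X p A) {x y : X} (hxy : x ≠ y) :
    ∃ (H : Set X) (z : X) (m : ℕ) (pt : Fin m → X), IsAxis A H ∧ Basis A H z pt := by
  obtain ⟨H, hH⟩ := h.exists_axis hxy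
  obtain ⟨z, hz⟩ := h.exists_notMem hH
  obtain ⟨m, pt, h1, h2, h3, h4, h5⟩ := h.exists_basis hH
  exact ⟨H, z, m, pt, hH, h1, h2, h3, hz, h4, h5⟩

variable (h : Ctx G X p A) {H : Set X} (hH : IsAxis A H) {z : X} {m : ℕ} {pt : Fin m → X}
  (hB : Basis A H z pt)

omit [Finite G] in
theorem mem_dd {j k : Fin m} {b : G} :
    b ∈ dd A z pt j k ↔ b ∈ A (pt k) ∧ b • z = z ∧ ∀ i, i ≠ j → b • pt i = pt i := by
  simp [dd, mem_inf, mem_fixingSubgroup_iff]

variable [IsMulCommutative ↥(trans A H)]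

/-- Commutation with an element at a point of the axis. -/
def de {w : X} (hw : w ∈ H) : Additive ↥(A w) →+ AddMonoid.End (Additive ↥(trans A H)) :=
  biHom (h.comm w)
    (fun _b hb t ht => by
      obtain ⟨u, hu, htu⟩ := h.trans_exists_tx hH ht
      exact tx_le_trans hw (h.commutator_mem_tx hH hu hw hb htu))
    (fun _s hs _t ht => h.trans_comm hs ht)
    (fun _s hs _t ht => h.trans_comm hs ht)
    (fun b hb b' hb' t ht => by
      obtain ⟨u, hu, htu⟩ := h.trans_exists_tx hH ht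
      exact h.comm w b hb _ (mem_tx.1 (h.commutator_mem_tx hH hu hw hb' htu)).1)

theorem de_coe {w : X} (hw : w ∈ H) (b : Additive ↥(A w)) (t : Additive ↥(trans A H)) :
    (((h.de hH hw b t).toMul : ↥(trans A H)) : G) =
      (b.toMul : G) * t.toMul * (b.toMul : G)⁻¹ * (t.toMul : G)⁻¹ := rfl

theorem conj_eq {w : X} (hw : w ∈ H) (b : Additive ↥(A w)) (t : Additive ↥(trans A H)) :
    (b.toMul : G) * t.toMul * (b.toMul : G)⁻¹ = ((h.de hH hw b t + t).toMul : G) := by
  show _ = (((h.de hH hw b t).toMul : ↥(trans A H)) : G) * t.toMul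
  rw [de_coe, inv_mul_cancel_right]

theorem de_mem {w : X} (hw : w ∈ H) (b : Additive ↥(A w)) (t : Additive ↥(trans A H)) :
    h.de hH hw b t ∈ part A H w := by
  obtain ⟨u, hu, htu⟩ := h.trans_exists_tx hH t.toMul.2
  refine mem_part.2 ?_
  rw [de_coe]
  exact h.commutator_mem_tx hH hu hw b.toMul.2 htu

theorem de_eq_zero {w u : X} (hw : w ∈ H) (b : Additive ↥(A w)) (hbu : (b.toMul : G) • u = u)
    {t : Additive ↥(trans A H)} (ht : t ∈ part A H u) : h.de hH hw b t = 0 := by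
  refine Additive.toMul.injective (Subtype.ext ?_)
  show _ = (1 : G)
  rw [de_coe, h.comm_of_fix b.toMul.2 (mem_tx.1 (mem_part.1 ht)).1 hbu
    ((mem_tx.1 (mem_part.1 ht)).2 w hw), mul_inv_cancel_right, mul_inv_cancel]

theorem de_inj {w u : X} (hw : w ∈ H) (b : Additive ↥(A w)) (hbu : (b.toMul : G) • u ≠ u)
    {t : Additive ↥(trans A H)} (ht : t ∈ part A H u) (e : h.de hH hw b t = 0) : t = 0 := by
  have e1 : (((h.de hH hw b t).toMul : ↥(trans A H)) : G) = 1 := by rw [e]; rfl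
  rw [de_coe, mul_inv_eq_one, mul_inv_eq_iff_eq_mul] at e1
  exact Additive.toMul.injective (Subtype.ext (h.eq_one_of_comm (mem_tx.1 (mem_part.1 ht)).1 hbu e1))

include h hH hB

/-- The sum map of the coordinates. -/
theorem sum_bijective :
    Function.Bijective fun c : (i : Fin m) → ↥(part A H (pt i)) =>
      ∑ i, (c i : Additive ↥(trans A H)) := by
  classical
  refine ⟨?_, ?_⟩
  · intro c c' e
    funext i
    by_contra hne
    have hd : (c i : Additive ↥(trans A H)) - c' i ≠ 0 := fun e => hne (Subtype.ext (sub_eq_zero.1 e))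
    have e2 : (c i : Additive ↥(trans A H)) - c' i =
        -∑ k ∈ Finset.univ.erase i, ((c k : Additive ↥(trans A H)) - c' k) := by
      rw [eq_neg_iff_add_eq_zero,
        Finset.add_sum_erase Finset.univ
          (fun k => (c k : Additive ↥(trans A H)) - (c' k : Additive ↥(trans A H))) (Finset.mem_univ i),
        Finset.sum_sub_distrib]
      exact sub_eq_zero.2 e
    have hmem : (((c i : Additive ↥(trans A H)) - c' i).toMul : G) ∈
        (⨆ u ∈ pt '' {i}ᶜ, tx A u H) := by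
      rw [e2]
      show -∑ k ∈ Finset.univ.erase i, ((c k : Additive ↥(trans A H)) - c' k) ∈
        Subgroup.toAddSubgroup ((⨆ u ∈ pt '' {i}ᶜ, tx A u H).subgroupOf (trans A H))
      refine neg_mem (sum_mem fun k hk => ?_)
      exact le_iSup₂ (f := fun u (_ : u ∈ pt '' {i}ᶜ) => tx A u H) (pt k)
        ⟨k, (Finset.mem_erase.1 hk).1, rfl⟩ (mem_part.1 (sub_mem (c k).2 (c' k).2))
    have hbot := hB.indep i
    have : (((c i : Additive ↥(trans A H)) - c' i).toMul : G) ∈
        tx A (pt i) H ⊓ (⨆ u ∈ pt '' {i}ᶜ, tx A u H) :=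
      ⟨mem_part.1 (sub_mem (c i).2 (c' i).2), hmem⟩
    rw [hbot, mem_bot] at this
    exact hd (Additive.toMul.injective (Subtype.ext this))
  · intro t
    have key : ∀ g ∈ ⨆ u ∈ Set.range pt, tx A u H, ∃ c : (i : Fin m) → ↥(part A H (pt i)),
        (((∑ i, (c i : Additive ↥(trans A H))).toMul : ↥(trans A H)) : G) = g := by
      intro g hg
      rw [iSup_range] at hg
      induction hg using Subgroup.iSup_induction' with
      | hp i x hx =>
        refine ⟨Pi.single i ⟨Additive.ofMul ⟨x, tx_le_trans (hB.mem i) hx⟩, mem_part.2 hx⟩, ?_⟩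
        rw [Finset.sum_eq_single i]
        · rw [Pi.single_eq_same]; rfl
        · intro k _ hk
          rw [Pi.single_eq_of_ne hk]; rfl
        · exact fun e => absurd (Finset.mem_univ i) e
      | h1 =>
        refine ⟨0, ?_⟩
        simp
      | hmul x y _ _ hx hy =>
        obtain ⟨c, rfl⟩ := hx
        obtain ⟨c', rfl⟩ := hy
        refine ⟨c + c', ?_⟩
        simp [Finset.sum_add_distrib]
    obtain ⟨c, hc⟩ := key _ (hB.span t.toMul.2)
    exact ⟨c, Additive.toMul.injective (Subtype.ext hc)⟩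

theorem ext_part {φ ψ : AddMonoid.End (Additive ↥(trans A H))}
    (e : ∀ i, ∀ t ∈ part A H (pt i), φ t = ψ t) : φ = ψ := by
  refine DFunLike.ext _ _ fun t => ?_
  obtain ⟨c, rfl⟩ := (h.sum_bijective hH hB).2 t
  dsimp only
  rw [map_sum, map_sum]
  exact Finset.sum_congr rfl fun i _ => e i _ (c i).2

theorem card_part (i : Fin m) (k : Fin m) :
    Nat.card ↥(part A H (pt i)) = Nat.card ↥(tx A (pt k) H) := by
  rw [h.card_tx_eq hH hH (hB.mem k) (hB.mem i)]
  exact Nat.card_congr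
    { toFun := fun t => ⟨(t : Additive ↥(trans A H)).toMul, mem_part.1 t.2⟩
      invFun := fun t => ⟨Additive.ofMul ⟨t, tx_le_trans (hB.mem i) t.2⟩, t.2⟩
      left_inv := fun t => rfl
      right_inv := fun t => rfl }

theorem card_trans_pow (k : Fin m) :
    Nat.card ↥(trans A H) = Nat.card ↥(tx A (pt k) H) ^ m := by
  rw [← Nat.card_congr (Additive.toMul (α := ↥(trans A H))),
    ← Nat.card_congr (Equiv.ofBijective _ (h.sum_bijective hH hB)), Nat.card_pi,
    Finset.prod_congr rfl fun i _ => h.card_part hH hB i k, Finset.prod_const, Finset.card_univ,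
    Fintype.card_fin]

/-- An element of `dd j k` fixing `pt j` is trivial. -/
theorem dd_eq_one {j k : Fin m} {b : G} (hb : b ∈ dd A z pt j k) (hbj : b • pt j = pt j) :
    b = 1 := by
  obtain ⟨hbA, hbz, hbi⟩ := mem_dd.1 hb
  refine h.tx_inf_stab hH hB.notMem (x := pt k) (mem_tx.2 ⟨hbA, fun v hv => ?_⟩) hbz
  refine h.fix_of_span hH (S := Set.range pt) (Set.range_subset_iff.2 hB.mem) hB.span hbA ?_ hv
  rintro _ ⟨i, rfl⟩
  rcases eq_or_ne i j with rfl | hij
  · exact hbj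
  · exact hbi i hij

theorem card_le_dd {j k : Fin m} (hjk : j ≠ k) :
    Nat.card ↥(tx A (pt k) H) ≤ Nat.card ↥(dd A z pt j k) := by
  classical
  haveI := h.finX
  set r := Nat.card ↥(tx A (pt k) H)
  set x := pt k
  have step : ∀ s : Finset X, x ∉ s →
      Nat.card ↥(A x) ≤ r ^ s.card * Nat.card ↥(A x ⊓ fixingSubgroup G (↑s : Set X)) := by
    intro s
    induction s using Finset.induction_on with
    | empty =>
      intro _
      rw [Finset.card_empty, pow_zero, one_mul, Finset.coe_empty, fixingSubgroup_empty, inf_top_eq]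
    | insert y s hy ih =>
      intro hxs
      rw [Finset.mem_insert, not_or] at hxs
      refine (ih hxs.2).trans ?_
      rw [Finset.card_insert_of_notMem hy, pow_succ, mul_assoc]
      refine Nat.mul_le_mul_left _ ?_
      set B := A x ⊓ fixingSubgroup G (↑s : Set X) with hBdef
      set W := A x ⊓ stabilizer G y with hW
      have e1 : A x ⊓ fixingSubgroup G (↑(insert y s) : Set X) = W ⊓ B := by
        ext g
        simp only [hW, hBdef, mem_inf, mem_fixingSubgroup_iff, Finset.coe_insert,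
          Set.forall_mem_insert, mem_stabilizer_iff]
        tauto
      have e2 : (W.subgroupOf B).index * Nat.card ↥(W ⊓ B : Subgroup G) = Nat.card ↥B := by
        rw [← Nat.card_congr (subgroupOfEquivOfLe (H := W ⊓ B) (K := B) inf_le_right).toEquiv,
          inf_subgroupOf_right, Subgroup.index_mul_card]
      have e3 : W.relIndex (A x) * Nat.card ↥W = Nat.card ↥(A x) := by
        rw [← Nat.card_congr (subgroupOfEquivOfLe (H := W) (K := A x) inf_le_left).toEquiv]
        exact Subgroup.index_mul_card _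
      have e4 : W.relIndex (A x) = r := by
        have h2 := h.card_tx_mul hH (hB.mem k) hB.notMem
        rw [h.card_stab_eq (x' := x) (y' := y) (fun (e : x = z) => hB.notMem (e ▸ hB.mem k)) hxs.1, ← hW,
          ← e3] at h2
        exact (Nat.eq_of_mul_eq_mul_right Nat.card_pos h2).symm
      rw [e1, ← e2, ← e4]
      exact Nat.mul_le_mul_right _ (Subgroup.relIndex_le_of_le_right inf_le_left
        (fun e => Subgroup.index_ne_zero_of_finite e))
  let s : Finset X := insert z ((Finset.univ.erase j).erase k |>.image pt)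
  have hxs : x ∉ s := by
    simp only [s, Finset.mem_insert, Finset.mem_image, Finset.mem_erase, not_or, not_exists, not_and]
    refine ⟨fun e => hB.notMem (e ▸ hB.mem k), fun i hi e => hi.1 (hB.inj e)⟩
  have hs : s.card = m - 1 := by
    rw [Finset.card_insert_of_notMem, Finset.card_image_of_injective _ hB.inj,
      Finset.card_erase_of_mem (Finset.mem_erase.2 ⟨hjk.symm, Finset.mem_univ k⟩),
      Finset.card_erase_of_mem (Finset.mem_univ j), Finset.card_univ, Fintype.card_fin]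
    · have := hB.two
      omega
    · intro hm
      obtain ⟨i, -, rfl⟩ := Finset.mem_image.1 hm
      exact hB.notMem (hB.mem i)
  have h1 := step s hxs
  rw [hs, h.card_A_eq_trans hH x hB.notMem, h.card_trans_pow hH hB k,
    show r ^ m = r ^ (m - 1) * r by rw [← pow_succ, Nat.sub_add_cancel (by have := hB.two; omega)]] at h1
  have e : A x ⊓ fixingSubgroup G (↑s : Set X) = dd A z pt j k := by
    ext g
    simp only [mem_dd, mem_inf, mem_fixingSubgroup_iff, s, Finset.coe_insert, Finset.coe_image,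
      Set.forall_mem_insert, Set.forall_mem_image, Finset.mem_coe, Finset.mem_erase]
    constructor
    · rintro ⟨hg, hgz, hgi⟩
      refine ⟨hg, hgz, fun i hij => ?_⟩
      rcases eq_or_ne i k with rfl | hik
      · exact h.smul_self hg
      · exact hgi ⟨hik, hij, Finset.mem_univ i⟩
    · rintro ⟨hg, hgz, hgi⟩
      exact ⟨hg, hgz, fun {i} hi => hgi i hi.2.1⟩
  rw [e] at h1
  exact Nat.le_of_mul_le_mul_left h1 (pow_pos Nat.card_pos _)

/-- The shears of `dd j k` realise every shear from `pt j` to `pt k`. -/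
theorem exists_dd {j k : Fin m} (hjk : j ≠ k) (b : Additive ↥(A (pt k))) :
    ∃ d : Additive ↥(A (pt k)), (d.toMul : G) ∈ dd A z pt j k ∧
      ∀ t ∈ part A H (pt j), h.de hH (hB.mem k) d t = h.de hH (hB.mem k) b t := by
  obtain ⟨t₀, ht₀, ht₀1⟩ := h.exists_tx hH (hB.mem j)
  set T₀ : Additive ↥(trans A H) := Additive.ofMul ⟨t₀, tx_le_trans (hB.mem j) ht₀⟩
  have hT₀ : T₀ ∈ part A H (pt j) := ht₀
  have hT₀0 : T₀ ≠ 0 := fun e => ht₀1 (congrArg Subtype.val (congrArg Additive.toMul e))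
  let D := (dd A z pt j k).subgroupOf (A (pt k))
  let f : ↥D → ↥(part A H (pt k)) := fun d =>
    ⟨h.de hH (hB.mem k) (Additive.ofMul d.1) T₀, h.de_mem hH (hB.mem k) _ _⟩
  have hf : Function.Injective f := by
    intro d d' e
    have e' : h.de hH (hB.mem k) (Additive.ofMul d.1 - Additive.ofMul d'.1) T₀ = 0 := by
      rw [map_sub]
      exact sub_eq_zero.2 (congrArg Subtype.val e)
    by_contra hne
    refine hT₀0 (h.de_inj hH (hB.mem k) _ (fun hfix => hne (Subtype.ext ?_)) hT₀ e')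
    have h1 := h.dd_eq_one hH hB (b := ((d.1 / d'.1 : ↥(A (pt k))) : G))
      (by rw [Subgroup.coe_div]; exact div_mem d.2 d'.2) hfix
    exact div_eq_one.1 (Subtype.ext h1)
  obtain ⟨d, hd⟩ := (hf.bijective_of_nat_card_le (by
    rw [h.card_part hH hB k k]
    refine (h.card_le_dd hH hB hjk).trans (le_of_eq ?_)
    exact (Nat.card_congr (subgroupOfEquivOfLe (fun g hg => (mem_dd.1 hg).1)).toEquiv).symm)).2
      ⟨h.de hH (hB.mem k) b T₀, h.de_mem hH (hB.mem k) _ _⟩
  refine ⟨Additive.ofMul d.1, d.2, fun t ht => ?_⟩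
  have hfix : ((Additive.ofMul d.1 - b).toMul : G) • pt j = pt j := by
    by_contra hne
    refine hT₀0 (h.de_inj hH (hB.mem k) _ hne hT₀ ?_)
    rw [map_sub]
    exact sub_eq_zero.2 (congrArg Subtype.val hd)
  have := h.de_eq_zero hH (hB.mem k) _ hfix ht
  rw [map_sub] at this
  exact sub_eq_zero.1 this

/-- The endomorphisms given by `dd j k`. -/
def em (j k : Fin m) : AddSubgroup (AddMonoid.End (Additive ↥(trans A H))) :=
  (Subgroup.toAddSubgroup ((dd A z pt j k).subgroupOf (A (pt k)))).map (h.de hH (hB.mem k))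

theorem mem_em {j k : Fin m} {φ : AddMonoid.End (Additive ↥(trans A H))} :
    φ ∈ h.em hH hB j k ↔
      ∃ d : Additive ↥(A (pt k)), (d.toMul : G) ∈ dd A z pt j k ∧ h.de hH (hB.mem k) d = φ :=
  Iff.rfl

theorem em_range {j k : Fin m} {φ : AddMonoid.End (Additive ↥(trans A H))}
    (hφ : φ ∈ h.em hH hB j k) (t : Additive ↥(trans A H)) : φ t ∈ part A H (pt k) := by
  obtain ⟨d, -, rfl⟩ := (h.mem_em hH hB).1 hφ
  exact h.de_mem hH _ _ _

theorem em_zero {i j k : Fin m} {φ : AddMonoid.End (Additive ↥(trans A H))}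
    (hφ : φ ∈ h.em hH hB j k) (hij : i ≠ j) {t : Additive ↥(trans A H)}
    (ht : t ∈ part A H (pt i)) : φ t = 0 := by
  obtain ⟨d, hd, rfl⟩ := (h.mem_em hH hB).1 hφ
  exact h.de_eq_zero hH _ _ ((mem_dd.1 hd).2.2 i hij) ht

theorem em_ext {j k : Fin m} {φ ψ : AddMonoid.End (Additive ↥(trans A H))}
    (hφ : φ ∈ h.em hH hB j k) (hψ : ψ ∈ h.em hH hB j k)
    (e : ∀ t ∈ part A H (pt j), φ t = ψ t) : φ = ψ := by
  refine h.ext_part hH hB fun i t ht => ?_
  rcases eq_or_ne i j with rfl | hij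
  · exact e t ht
  · rw [h.em_zero hH hB hφ hij ht, h.em_zero hH hB hψ hij ht]

theorem em_eq_of_eq {j k : Fin m} {φ ψ : AddMonoid.End (Additive ↥(trans A H))}
    (hφ : φ ∈ h.em hH hB j k) (hψ : ψ ∈ h.em hH hB j k) {t : Additive ↥(trans A H)}
    (ht : t ∈ part A H (pt j)) (ht0 : t ≠ 0) (e : φ t = ψ t) : φ = ψ := by
  rw [← sub_eq_zero]
  obtain ⟨d, hd, hde⟩ := (h.mem_em hH hB).1 (sub_mem hφ hψ)
  rcases eq_or_ne ((d.toMul : G) • pt j) (pt j) with hfix | hfix
  · have : d = 0 := Additive.toMul.injective (Subtype.ext (h.dd_eq_one hH hB hd hfix))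
    rw [← hde, this, map_zero]
  · refine absurd (h.de_inj hH (hB.mem k) d hfix ht ?_) ht0
    rw [hde]
    exact sub_eq_zero.2 e

/-- Shears between two fixed points take every value. -/
theorem em_surj {j k : Fin m} (hjk : j ≠ k) {t s : Additive ↥(trans A H)}
    (ht : t ∈ part A H (pt j)) (ht0 : t ≠ 0) (hs : s ∈ part A H (pt k)) :
    ∃ φ ∈ h.em hH hB j k, φ t = s := by
  obtain ⟨c, hc, e⟩ := h.exists_commutator hH (hB.mem j) (hB.mem k) (fun e => hjk (hB.inj e))
    (mem_part.1 ht) (fun e => ht0 (Additive.toMul.injective (Subtype.ext e)))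
    (inv_mem (mem_part.1 hs))
  obtain ⟨d, hd, hdt⟩ := h.exists_dd hH hB hjk (Additive.ofMul ⟨c, hc⟩)
  refine ⟨_, (h.mem_em hH hB).2 ⟨d, hd, rfl⟩, ?_⟩
  rw [hdt t ht]
  refine Additive.toMul.injective (Subtype.ext ?_)
  rw [de_coe]
  have e' := congrArg (fun g : G => g⁻¹) e
  rw [inv_inv] at e'
  rw [← e']
  show c * _ * c⁻¹ * _ = _
  group

theorem em_inverse {j k : Fin m} (hjk : j ≠ k) {φ : AddMonoid.End (Additive ↥(trans A H))}
    (hφ : φ ∈ h.em hH hB j k) (hφ0 : φ ≠ 0) :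
    ∃ ψ ∈ h.em hH hB k j, (∀ t ∈ part A H (pt j), ψ (φ t) = t) ∧
      ∀ t ∈ part A H (pt k), φ (ψ t) = t := by
  haveI : ∀ i, IsMulCommutative ↥(tx A (pt i) H) := fun i => .of_comm fun s t =>
    Subtype.ext (h.comm (pt i) _ (mem_tx.1 s.2).1 _ (mem_tx.1 t.2).1)
  obtain ⟨d, hd, rfl⟩ := (h.mem_em hH hB).1 hφ
  have hne : (d.toMul : G) • pt j ≠ pt j := fun e => hφ0 (by
    rw [show d = 0 from Additive.toMul.injective (Subtype.ext (h.dd_eq_one hH hB hd e)), map_zero])
  obtain ⟨t₀, ht₀, ht₀1⟩ := h.exists_tx hH (hB.mem j)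
  have hsh : h.sh hH (hB.mem j) (hB.mem k) d ≠ 0 := fun e => ht₀1 (congrArg Subtype.val
    (congrArg Additive.toMul (h.sh_injective hH (hB.mem j) (hB.mem k) d hne
      (a₁ := Additive.ofMul ⟨t₀, ht₀⟩) (a₂ := 0) (by rw [e]; rfl))))
  obtain ⟨b', h1, h2⟩ := h.sh_inverse hH (hB.mem j) (hB.mem k) (fun e => hjk (hB.inj e)) d hsh
  obtain ⟨d', hd', hd't⟩ := h.exists_dd hH hB hjk.symm b'
  refine ⟨_, (h.mem_em hH hB).2 ⟨d', hd', rfl⟩, fun t ht => ?_, fun t ht => ?_⟩
  · rw [hd't _ (h.de_mem hH _ _ _)]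
    refine Additive.toMul.injective (Subtype.ext ?_)
    exact congrArg (fun s => (s.toMul : ↥(tx A (pt j) H)).1)
      (h1 (Additive.ofMul ⟨t.toMul, mem_part.1 ht⟩))
  · rw [hd't t ht]
    refine Additive.toMul.injective (Subtype.ext ?_)
    exact congrArg (fun s => (s.toMul : ↥(tx A (pt k) H)).1)
      (h2 (Additive.ofMul ⟨t.toMul, mem_part.1 ht⟩))

theorem em_comp {j k l : Fin m} (hjl : j ≠ l) (hkl : k ≠ l)
    {φ ψ : AddMonoid.End (Additive ↥(trans A H))} (hφ : φ ∈ h.em hH hB j k)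
    (hψ : ψ ∈ h.em hH hB k l) : ψ * φ ∈ h.em hH hB j l := by
  obtain ⟨b, hb, rfl⟩ := (h.mem_em hH hB).1 hφ
  obtain ⟨c, hc, rfl⟩ := (h.mem_em hH hB).1 hψ
  obtain ⟨hbA, hbz, hbi⟩ := mem_dd.1 hb
  obtain ⟨hcA, hcz, hci⟩ := mem_dd.1 hc
  set g := (c.toMul : G) * b.toMul * (c.toMul : G)⁻¹ * (b.toMul : G)⁻¹ with hg
  have hgA : g ∈ A (pt l) := by
    have h0 := h.conj (b.toMul : G) (pt l) (c.toMul : G)⁻¹ (inv_mem hcA)
    rw [hbi l hjl.symm] at h0
    convert mul_mem hcA h0 using 1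
    rw [hg]; group
  have key : ∀ t : Additive ↥(trans A H), g * t.toMul * g⁻¹ =
      ((h.de hH (hB.mem l) c (h.de hH (hB.mem k) b t) + t).toMul : G) := by
    intro t
    set β := h.de hH (hB.mem k) b
    set γ := h.de hH (hB.mem l) c
    have hbβ : ∀ s, β (β s) = 0 := fun s => h.de_eq_zero hH _ _ (h.smul_self hbA) (h.de_mem hH _ _ _)
    have hcγ : ∀ s, γ (γ s) = 0 := fun s => h.de_eq_zero hH _ _ (h.smul_self hcA) (h.de_mem hH _ _ _)
    have hβγ : ∀ s, β (γ s) = 0 := fun s =>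
      h.de_eq_zero hH _ _ (hbi l hjl.symm) (h.de_mem hH _ _ _)
    have e1 : (b.toMul : G)⁻¹ * t.toMul * (b.toMul : G) = ((-β t + t).toMul : G) := by
      have := h.conj_eq hH (hB.mem k) (-b) t
      rw [map_neg (h.de hH (hB.mem k)), show (((-b).toMul : ↥(A (pt k))) : G) = (b.toMul : G)⁻¹ from rfl, inv_inv] at this
      exact this
    have e2 : (c.toMul : G)⁻¹ * ((-β t + t).toMul : G) * (c.toMul : G) =
        ((-γ (-β t + t) + (-β t + t)).toMul : G) := by
      have := h.conj_eq hH (hB.mem l) (-c) (-β t + t)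
      rw [map_neg (h.de hH (hB.mem l)), show (((-c).toMul : ↥(A (pt l))) : G) = (c.toMul : G)⁻¹ from rfl, inv_inv] at this
      exact this
    calc g * t.toMul * g⁻¹
        = (c.toMul : G) * ((b.toMul : G) * ((c.toMul : G)⁻¹ * ((b.toMul : G)⁻¹ * t.toMul *
            (b.toMul : G)) * (c.toMul : G)) * (b.toMul : G)⁻¹) * (c.toMul : G)⁻¹ := by rw [hg]; group
      _ = ((γ (β (-γ (-β t + t) + (-β t + t)) + (-γ (-β t + t) + (-β t + t))) +
            (β (-γ (-β t + t) + (-β t + t)) + (-γ (-β t + t) + (-β t + t)))).toMul : G) := by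
          rw [e1, e2, h.conj_eq hH (hB.mem k) b, h.conj_eq hH (hB.mem l) c]
      _ = ((γ (β t) + t).toMul : G) := by
          refine congrArg (fun s : Additive ↥(trans A H) => (s.toMul : G)) ?_
          simp only [map_add, map_neg, map_zero, hbβ, hcγ, hβγ, neg_zero]
          abel
  refine (h.mem_em hH hB).2 ⟨Additive.ofMul ⟨g, hgA⟩, mem_dd.2 ⟨hgA, ?_, fun i hij => ?_⟩, ?_⟩
  · show g • z = z
    rw [hg]
    simp only [mul_smul]
    rw [h.inv_smul_of hbz, h.inv_smul_of hcz, hbz, hcz]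
  · show g • pt i = pt i
    obtain ⟨e, he, he1⟩ := h.exists_tx hH (hB.mem i)
    have k1 := key (Additive.ofMul ⟨e, tx_le_trans (hB.mem i) he⟩)
    rw [h.de_eq_zero hH (hB.mem k) b (hbi i hij) (t := Additive.ofMul ⟨e, tx_le_trans (hB.mem i) he⟩) he,
      map_zero, zero_add] at k1
    exact h.cen_fix (mem_tx.1 he).1 he1 (mul_inv_eq_iff_eq_mul.1 k1)
  · refine DFunLike.ext _ _ fun t => ?_
    refine Additive.toMul.injective (Subtype.ext ?_)
    rw [de_coe]
    show g * t.toMul * g⁻¹ * _ = _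
    rw [key t]
    show ((h.de hH (hB.mem l) c (h.de hH (hB.mem k) b t)).toMul : G) * t.toMul * _ = _
    rw [mul_inv_cancel_right]
    rfl

/-- The sandwich product of two shears. -/
theorem em_sandwich {j k : Fin m} (hjk : j ≠ k)
    {φ₀ φ₁ φ₂ ψ : AddMonoid.End (Additive ↥(trans A H))} (h₀ : φ₀ ∈ h.em hH hB j k)
    (h₁ : φ₁ ∈ h.em hH hB j k) (h₂ : φ₂ ∈ h.em hH hB j k) (hψ : ψ ∈ h.em hH hB k j) (h₀0 : φ₀ ≠ 0)
    (hinv : ∀ t ∈ part A H (pt k), φ₀ (ψ t) = t) :
    φ₁ * ψ * φ₂ ∈ h.em hH hB j k ∧ φ₁ * ψ * φ₂ = φ₂ * ψ * φ₁ := by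
  haveI : ∀ i, IsMulCommutative ↥(tx A (pt i) H) := fun i => .of_comm fun s t =>
    Subtype.ext (h.comm (pt i) _ (mem_tx.1 s.2).1 _ (mem_tx.1 t.2).1)
  obtain ⟨b₀, hb₀, rfl⟩ := (h.mem_em hH hB).1 h₀
  obtain ⟨b₁, hb₁, rfl⟩ := (h.mem_em hH hB).1 h₁
  obtain ⟨b₂, hb₂, rfl⟩ := (h.mem_em hH hB).1 h₂
  have hne : (b₀.toMul : G) • pt j ≠ pt j := fun e => h₀0 (by
    rw [show b₀ = 0 from Additive.toMul.injective (Subtype.ext (h.dd_eq_one hH hB hb₀ e)), map_zero])
  obtain ⟨b₃, hb₃⟩ := h.sh_field hH (hB.mem j) (hB.mem k) (fun e => hjk (hB.inj e)) b₀ b₁ b₂ hne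
  obtain ⟨d, hd, hdt⟩ := h.exists_dd hH hB hjk b₃
  have key : ∀ t ∈ part A H (pt j),
      h.de hH (hB.mem k) b₁ (ψ (h.de hH (hB.mem k) b₂ t)) = h.de hH (hB.mem k) d t ∧
        h.de hH (hB.mem k) b₂ (ψ (h.de hH (hB.mem k) b₁ t)) = h.de hH (hB.mem k) d t := by
    intro t ht
    have hψm := fun s => h.em_range hH hB hψ s
    have hs := hb₃ (Additive.ofMul ⟨t.toMul, mem_part.1 ht⟩)
      (Additive.ofMul ⟨(ψ (h.de hH (hB.mem k) b₂ t)).toMul, mem_part.1 (hψm _)⟩)
      (Additive.ofMul ⟨(ψ (h.de hH (hB.mem k) b₁ t)).toMul, mem_part.1 (hψm _)⟩) ?_ ?_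
    · refine ⟨?_, ?_⟩ <;> rw [hdt t ht] <;> refine Additive.toMul.injective (Subtype.ext ?_)
      · exact congrArg (fun s => (s.toMul : ↥(tx A (pt k) H)).1) hs.1
      · exact congrArg (fun s => (s.toMul : ↥(tx A (pt k) H)).1) hs.2
    all_goals
      refine Additive.toMul.injective (Subtype.ext ?_)
      exact congrArg (fun s => (s.toMul : ↥(trans A H)).1) (hinv _ (h.de_mem hH _ _ _))
  have hdm : h.de hH (hB.mem k) d ∈ h.em hH hB j k := (h.mem_em hH hB).2 ⟨d, hd, rfl⟩
  have e1 : h.de hH (hB.mem k) b₁ * ψ * h.de hH (hB.mem k) b₂ = h.de hH (hB.mem k) d := by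
    refine h.ext_part hH hB fun i t ht => ?_
    rcases eq_or_ne i j with rfl | hij
    · exact (key t ht).1
    · show h.de hH (hB.mem k) b₁ (ψ (h.de hH (hB.mem k) b₂ t)) = _
      rw [h.em_zero hH hB hdm hij ht, h.em_zero hH hB h₂ hij ht, map_zero, map_zero]
  have e2 : h.de hH (hB.mem k) b₂ * ψ * h.de hH (hB.mem k) b₁ = h.de hH (hB.mem k) d := by
    refine h.ext_part hH hB fun i t ht => ?_
    rcases eq_or_ne i j with rfl | hij
    · exact (key t ht).2
    · show h.de hH (hB.mem k) b₂ (ψ (h.de hH (hB.mem k) b₁ t)) = _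
      rw [h.em_zero hH hB hdm hij ht, h.em_zero hH hB h₁ hij ht, map_zero, map_zero]
  exact ⟨e1 ▸ hdm, e1.trans e2.symm⟩

end Ctx

end Cfsg.Agent.Lib.ONan36
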