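import Cfsg.Agent.Lib.ONan36.Lines

/-!
# O'Nan: the parameters

`n - 1 = r h`, the lines have `r + 1` points and every line meets every axis.
-/

set_option autoImplicit false
set_option linter.style.haveILetI false

namespace Cfsg.Agent.Lib.ONan36

open MulAction Subgroup Finset

universe u v

variable {G : Type u} {X : Type v} [Group G] [MulAction G X] {p : ℕ} {A : X → Subgroup G}
  [Finite G]

namespace Ctx

theorem smul_mem_line_of_off (h : Ctx G X p A) {x z : X} {b : G} (hb : b ∈ A x) (hxz : x ≠ z) :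
    b • z ∈ line A x z := h.smul_mem_line hb hxz (right_mem_line x z)

/-- Two classes at `x` meet in index `r`. -/
theorem card_two_stab (h : Ctx G X p A) {x y y' : X} (hyx : y ≠ x) (hy' : y' ∉ line A x y)
    {H₀ : Set X} (hH₀ : IsAxis A H₀) {x₀ : X} (hx₀ : x₀ ∈ H₀) :
    Nat.card ↥(tx A x₀ H₀) * Nat.card ↥(A x ⊓ stabilizer G y ⊓ stabilizer G y') =
      Nat.card ↥(A x ⊓ stabilizer G y) := by
  simp only [line, Set.mem_setOf_eq] at hy'
  push Not at hy'
  obtain ⟨H, hH, hx, hy, hy'H⟩ := hy'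
  rw [h.card_tx_eq hH₀ hH hx₀ hx, ← Nat.card_prod]
  let f : ↥(tx A x H) × ↥(A x ⊓ stabilizer G y ⊓ stabilizer G y') → ↥(A x ⊓ stabilizer G y) :=
    fun s => ⟨(s.1 : G) * s.2, mul_mem ⟨(mem_tx.1 s.1.2).1, (mem_tx.1 s.1.2).2 y hy⟩
      (mem_inf.1 s.2.2).1⟩
  refine Nat.card_congr (Equiv.ofBijective f ⟨?_, ?_⟩)
  · rintro ⟨t, w⟩ ⟨t', w'⟩ e
    have e' : (t : G) * w = (t' : G) * w' := congrArg Subtype.val e
    have e2 : (t' : G)⁻¹ * t = w' * (w : G)⁻¹ := by
      calc (t' : G)⁻¹ * t = (t' : G)⁻¹ * (t * w) * (w : G)⁻¹ := by group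
        _ = w' * (w : G)⁻¹ := by rw [e']; group
    have e3 : (t' : G)⁻¹ * t = 1 :=
      h.tx_inf_stab hH hy'H (mul_mem (inv_mem t'.2) t.2) (by
        rw [e2]
        exact (mul_mem (mem_inf.1 w'.2).2 (inv_mem (mem_inf.1 w.2).2) :
          (w' : G) * (w : G)⁻¹ ∈ stabilizer G y'))
    rw [e2] at e3
    exact Prod.ext (Subtype.ext (inv_mul_eq_one.1 (e2.trans e3)).symm)
      (Subtype.ext (mul_inv_eq_one.1 e3).symm)
  · rintro ⟨c, hc, hcy⟩
    obtain ⟨t, ht, w, hw, hwy', rfl⟩ := h.exists_decomp hH hx hy'H hc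
    refine ⟨(⟨t, ht⟩, ⟨w, ⟨hw, ?_⟩, hwy'⟩), rfl⟩
    show w • y = y
    have hty := h.inv_smul_of ((mem_tx.1 ht).2 y hy)
    have hc' : (t * w) • y = y := hcy
    calc w • y = t⁻¹ • (t * w) • y := by rw [mul_smul, inv_smul_smul]
      _ = y := by rw [hc', hty]

omit [Finite G] in
theorem count_sub {S B : Subgroup G} [Fintype ↥S] [DecidableEq ↥S] (hBS : B ≤ S)
    (P : ↥S → Prop) [DecidablePred P] (hP : ∀ a : ↥S, P a ↔ (a : G) ∈ B) :
    (#({a : ↥S | a ≠ 1 ∧ P a} : Finset ↥S)) + 1 = Nat.card ↥B := by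
  have e : Nat.card ↥B = #({a : ↥S | P a} : Finset ↥S) := by
    rw [← Fintype.card_subtype, ← Nat.card_eq_fintype_card]
    exact Nat.card_congr
      { toFun := fun b => ⟨⟨b, hBS b.2⟩, (hP _).2 b.2⟩
        invFun := fun a => ⟨a.1, (hP _).1 a.2⟩
        left_inv := fun b => rfl
        right_inv := fun a => rfl }
  rw [e]
  have : ({a : ↥S | a ≠ 1 ∧ P a} : Finset ↥S) = ({a : ↥S | P a} : Finset ↥S).erase 1 := by
    ext a
    simp [and_comm]
  rw [this, card_erase_add_one]
  simp [hP, one_mem]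

/-- The first moment of the fixed point counts. -/
theorem moment (h : Ctx G X p A) {H : Set X} (hH : IsAxis A H) {x y : X} (hxy : x ≠ y) :
    ((Nat.card ↥(A x) : ℤ) - 1) * (H.ncard - 1 : ℕ) =
      (Nat.card X - 1 : ℕ) * ((Nat.card ↥(A x ⊓ stabilizer G y) : ℤ) - 1) := by
  classical
  haveI := h.finX
  haveI := Fintype.ofFinite X
  haveI := Fintype.ofFinite ↥(A x)
  set S : Finset X := {u | u ≠ x}
  have hS : #S = Nat.card X - 1 := by
    rw [Nat.card_eq_fintype_card, ← card_univ, ← card_erase_of_mem (mem_univ x)]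
    congr 1
    ext u
    simp [S]
  set E : Finset ↥(A x) := {a | a ≠ 1}
  have hE : #E + 1 = Nat.card ↥(A x) := by
    rw [Nat.card_eq_fintype_card, ← card_univ, ← card_erase_add_one (mem_univ (1 : ↥(A x)))]
    congr 2
    ext a
    simp [E]
  have hP : ∀ a ∈ E, #({u ∈ S | (a : G) • u = u}) = H.ncard - 1 := by
    intro a ha
    have ha1 : (a : G) ≠ 1 := fun e => (mem_filter.1 ha).2 (Subtype.ext e)
    rw [← h.card_axis_eq (h.isAxis_fix a.2 ha1) hH, Set.ncard_eq_toFinset_card',
      ← card_erase_of_mem (a := x) (by simp [h.smul_self a.2])]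
    congr 1
    ext u
    simp [S, and_comm]
  have hone : ∀ u ∈ S, (#(E.filter fun a : ↥(A x) => (a : G) • u = u) : ℤ) =
      Nat.card ↥(A x ⊓ stabilizer G y) - 1 := by
    intro u hu
    have hux : u ≠ x := (mem_filter.1 hu).2
    have := count_sub (S := A x) (B := A x ⊓ stabilizer G u) inf_le_left (fun a => (a : G) • u = u)
      (fun a => by simp [a.2])
    rw [h.card_stab_eq hux.symm hxy] at this
    rw [filter_filter]
    omega
  have e := sum_card_bipartiteAbove_eq_sum_card_bipartiteBelow (s := E) (t := S)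
    (fun (a : ↥(A x)) u => (a : G) • u = u)
  simp only [bipartiteAbove, bipartiteBelow] at e
  have e' := congrArg (fun n : ℕ => (n : ℤ)) e
  rw [sum_congr rfl hP, Nat.cast_sum, Nat.cast_sum, sum_congr rfl hone] at e'
  simp only [sum_const, hS, nsmul_eq_mul] at e'
  have hE' : (#E : ℤ) = Nat.card ↥(A x) - 1 := by
    have := congrArg (fun n : ℕ => (n : ℤ)) hE
    push_cast at this
    linarith
  rw [hE'] at e'
  exact e'

/-- The basic equation: `n - 1 = r (h - 1) + c`. -/
theorem card_eq (h : Ctx G X p A) {H : Set X} (hH : IsAxis A H) {x y : X} (hx : x ∈ H)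
    (hxy : x ≠ y) :
    Nat.card X - 1 = Nat.card ↥(tx A x H) * (H.ncard - 1) + ((line A x y).ncard - 1) := by
  classical
  haveI := h.finX
  haveI := Fintype.ofFinite X
  haveI := Fintype.ofFinite ↥(A x)
  set r := Nat.card ↥(tx A x H)
  set w := Nat.card ↥(A x ⊓ stabilizer G y) with hwdef
  set c := (line A x y).ncard - 1 with hcdef
  set N := Nat.card X - 1 with hNdef
  set P := H.ncard - 1 with hPdef
  obtain ⟨z, hz⟩ := h.exists_notMem hH
  have hrw : Nat.card ↥(A x) = r * w := by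
    rw [← h.card_tx_mul hH hx hz, hwdef, h.card_stab_eq hxy (fun e => hz (e ▸ hx) : x ≠ z)]
  set S : Finset X := {u | u ≠ x}
  have hS : #S = N := by
    rw [hNdef, Nat.card_eq_fintype_card, ← card_univ, ← card_erase_of_mem (mem_univ x)]
    congr 1
    ext u
    simp [S]
  set E : Finset ↥(A x) := {a | a ≠ 1}
  have hE : #E + 1 = r * w := by
    rw [← hrw, Nat.card_eq_fintype_card, ← card_univ, ← card_erase_add_one (mem_univ (1 : ↥(A x)))]
    congr 2
    ext a
    simp [E]
  have hP : ∀ a ∈ E, #({u ∈ S | (a : G) • u = u}) = P := by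
    intro a ha
    have ha1 : (a : G) ≠ 1 := fun e => (mem_filter.1 ha).2 (Subtype.ext e)
    rw [hPdef, ← h.card_axis_eq (h.isAxis_fix a.2 ha1) hH, Set.ncard_eq_toFinset_card',
      ← card_erase_of_mem (a := x) (by simp [h.smul_self a.2])]
    congr 1
    ext u
    simp [S, and_comm]
  have hone : ∀ u ∈ S, (#(E.filter fun a : ↥(A x) => (a : G) • u = u) : ℤ) = w - 1 := by
    intro u hu
    have hux : u ≠ x := (mem_filter.1 hu).2
    have := count_sub (S := A x) (B := A x ⊓ stabilizer G u) inf_le_left (fun a => (a : G) • u = u)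
      (fun a => by simp [a.2])
    rw [h.card_stab_eq hux.symm hxy, ← hwdef] at this
    rw [filter_filter]
    omega
  have h1 : ((r : ℤ) * w - 1) * P = N * (w - 1) := by
    have := h.moment hH hxy
    rw [hrw, Nat.cast_mul] at this
    exact this
  -- second moment
  have htwo : ∀ u ∈ S, ∀ u' ∈ S, (r : ℤ) * #(E.filter fun a : ↥(A x) => (a : G) • u = u ∧ (a : G) • u' = u') =
      if u' ∈ line A x u then (r : ℤ) * (w - 1) else (w : ℤ) - r := by
    intro u hu u' hu'
    have hux : u ≠ x := (mem_filter.1 hu).2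
    split_ifs with hl
    · rw [← hone u hu]
      congr 3
      refine filter_congr fun a _ => ⟨fun e => e.1, fun e => ⟨e, ?_⟩⟩
      exact (h.mem_line_iff hux.symm).1 hl a a.2 e
    · have := count_sub (S := A x) (B := A x ⊓ stabilizer G u ⊓ stabilizer G u')
        (inf_le_left.trans inf_le_left) (fun a => (a : G) • u = u ∧ (a : G) • u' = u')
        (fun a => by simp [a.2])
      have h2 := h.card_two_stab hux hl hH hx
      rw [h.card_stab_eq hux.symm hxy, ← hwdef, ← this] at h2
      rw [filter_filter]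
      have h3 := congrArg (fun n : ℕ => (n : ℤ)) h2
      push_cast at h3
      linear_combination h3
  have hline : ∀ u ∈ S, (#({u' ∈ S | u' ∈ line A x u}) : ℤ) = c := by
    intro u hu
    have hux : u ≠ x := (mem_filter.1 hu).2
    rw [hcdef, h.card_line_eq hxy hux.symm, Set.ncard_eq_toFinset_card',
      ← card_erase_of_mem (a := x) (by simp [left_mem_line])]
    congr 2
    ext u'
    simp [S, and_comm]
  have h2 : ((r : ℤ) * w - 1) * P * P * r = N * (c * (r * (w - 1)) + (N - c) * (w - r)) := by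
    have e : ∑ a ∈ E, ((#({u ∈ S | (a : G) • u = u}) : ℤ) * #({u ∈ S | (a : G) • u = u})) * r =
        ∑ u ∈ S, ∑ u' ∈ S, (r : ℤ) * #(E.filter fun a : ↥(A x) => (a : G) • u = u ∧ (a : G) • u' = u') := by
      simp only [card_filter, Nat.cast_sum, sum_mul, mul_sum]
      rw [sum_comm]
      refine sum_congr rfl fun u _ => ?_
      rw [sum_comm]
      refine sum_congr rfl fun u' _ => sum_congr rfl fun a _ => ?_
      by_cases e1 : (a : G) • u = u <;> by_cases e2 : (a : G) • u' = u' <;> simp [e1, e2]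
    rw [sum_congr rfl fun a ha => by rw [hP a ha], sum_congr rfl fun u hu =>
      sum_congr rfl (htwo u hu)] at e
    simp only [sum_const, nsmul_eq_mul] at e
    have e2 : ∀ u ∈ S, ∑ u' ∈ S, (if u' ∈ line A x u then (r : ℤ) * (w - 1) else (w : ℤ) - r) =
        c * (r * (w - 1)) + (N - c) * (w - r) := by
      intro u hu
      rw [sum_ite, sum_const, sum_const, nsmul_eq_mul, nsmul_eq_mul, hline u hu]
      have h3 := card_filter_add_card_filter_not (s := S) (fun u' => u' ∈ line A x u)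
      rw [hS] at h3
      have h3' := congrArg (fun n : ℕ => (n : ℤ)) h3
      push_cast at h3'
      rw [hline u hu] at h3'
      rw [← h3']; ring
    rw [sum_congr rfl e2, sum_const, hS, nsmul_eq_mul] at e
    have hE' : (#E : ℤ) = r * w - 1 := by
      have := congrArg (fun n : ℕ => (n : ℤ)) hE
      push_cast at this
      linarith
    rw [hE'] at e
    linear_combination e
  have hw1 : 1 < w := h.one_lt_card hxy
  have hN : 0 < N := hS ▸ card_pos.2 ⟨y, by simp [S, hxy.symm]⟩
  have hr : 1 < r := by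
    obtain ⟨e, he, he1⟩ := h.exists_tx hH hx
    exact Finite.one_lt_card_iff_nontrivial.2 ⟨⟨⟨e, he⟩, 1, fun q => he1 (congrArg Subtype.val q)⟩⟩
  have hw0 : (0 : ℤ) < w := by exact_mod_cast (by omega : 0 < w)
  have hr1 : (1 : ℤ) < r := by exact_mod_cast hr
  have hrw1 : (1 : ℤ) < r * w := by nlinarith
  -- solve
  have h4 : (N : ℤ) * (r - 1) = c * (r * w - 1) := by
    have h5 : (N : ℤ) * ((N : ℤ) * (r - 1) * (w * (r - 1)) - c * (r * w - 1) * (w * (r - 1))) = 0 := by
      have h1' : (((r : ℤ) * w - 1) * P) ^ 2 = (N * (w - 1)) ^ 2 := by rw [h1]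
      linear_combination ((r : ℤ) * w - 1) * h2 - (r : ℤ) * h1'
    have hN' : (N : ℤ) ≠ 0 := by exact_mod_cast (by omega : N ≠ 0)
    have h6 := (mul_eq_zero.1 h5).resolve_left hN'
    rw [← sub_mul] at h6
    exact sub_eq_zero.1 ((mul_eq_zero.1 h6).resolve_right (ne_of_gt (mul_pos hw0 (by linarith))))
  have h7 : ((r : ℤ) * w - 1) * ((N : ℤ) - (r * P + c)) = 0 := by
    linear_combination (-(r : ℤ)) * h1 + h4
  have h8 := (mul_eq_zero.1 h7).resolve_left (by linarith)
  exact_mod_cast (by linarith : (N : ℤ) = r * P + c)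

end Ctx

end Cfsg.Agent.Lib.ONan36
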