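import Cfsg.Agent.Lib.ONan36.Model

/-!
# O'Nan: the subgroup at the base point consists of the elations with that centre
-/

set_option autoImplicit false
set_option linter.style.haveILetI false

namespace Cfsg.Agent.Lib.ONan36

open MulAction Subgroup Pointwise

universe u v

variable {G : Type u} {X : Type v} [Group G] [MulAction G X] {p : ℕ} {A : X → Subgroup G}

namespace Space

variable {F : Type} [Field F] (S : Space G X p A F) [Finite G]

theorem vec_nsmul (v : Fin S.dim → F) : ∀ n : ℕ, S.vec (n • v) = S.vec v ^ n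
  | 0 => by rw [zero_nsmul, vec_zero, pow_zero]
  | n + 1 => by rw [succ_nsmul, vec_add, vec_nsmul v n, pow_succ]

theorem charP (S : Space G X p A F) : CharP F p := by
  rw [CharP.charP_iff_prime_eq_zero S.ctx.prime]
  have i₀ : Fin S.dim := ⟨0, by have := S.basis.two; omega⟩
  obtain ⟨u, -, hu⟩ := S.ctx.trans_exists_tx S.axis (S.chart.mem (Pi.single i₀ 1))
  have e : S.vec (p • (Pi.single i₀ 1 : Fin S.dim → F)) = S.vec 0 := by
    rw [vec_nsmul, vec_zero]
    exact S.ctx.pow u _ (mem_tx.1 hu).1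
  simpa using congrFun (S.chart.injective e) i₀

theorem pm_base_of_tail {r : Fin (S.dim + 1) → F} (hr : r ≠ 0) (h : Fin.tail r = 0) :
    S.pm r = S.base := by
  have h0 : r 0 ≠ 0 := fun e => tail_ne_zero hr e h
  rw [S.pm_fin h0, h, smul_zero, vec_zero, one_smul]

theorem pm_mem_line_base {r : Fin (S.dim + 1) → F} (hv : Fin.tail r ≠ 0) :
    S.pm r ∈ line A S.base (S.dir (Fin.tail r)) := by
  rw [S.mem_line_base hv]
  by_cases h0 : r 0 = 0
  · exact Or.inl (S.pm_inf h0)
  · exact Or.inr ⟨(r 0)⁻¹, S.pm_fin h0⟩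

/-- Two independent vectors. -/
def Ind {n : ℕ} (v w : Fin n → F) : Prop := ∀ α β : F, α • v + β • w = 0 → α = 0 ∧ β = 0

theorem Ind.symm {n : ℕ} {v w : Fin n → F} (h : Ind v w) : Ind w v := fun α β e =>
  (h β α (by rwa [add_comm])).symm

theorem Ind.neg {n : ℕ} {v w : Fin n → F} (h : Ind v w) : Ind v (-w) := fun α β e => by
  obtain ⟨h1, h2⟩ := h α (-β) (by rwa [neg_smul, ← smul_neg])
  exact ⟨h1, neg_eq_zero.1 h2⟩

theorem Ind.sub {n : ℕ} {v w : Fin n → F} (h : Ind v w) : Ind (v - w) w := fun α β e => by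
  obtain ⟨h1, h2⟩ := h α (β - α) (by rw [← e, smul_sub, sub_smul]; abel)
  exact ⟨h1, by rwa [h1, sub_zero] at h2⟩

theorem Ind.left_ne {n : ℕ} {v w : Fin n → F} (h : Ind v w) : v ≠ 0 := fun e =>
  one_ne_zero (h 1 0 (by rw [e, smul_zero, zero_smul, add_zero])).1

theorem Ind.add_ne {n : ℕ} {v w : Fin n → F} (h : Ind v w) : v + w ≠ 0 := fun e =>
  one_ne_zero (h 1 1 (by rwa [one_smul, one_smul])).1

theorem ind_or {n : ℕ} (v : Fin n → F) {w : Fin n → F} (hw : w ≠ 0) :
    Ind v w ∨ ∃ c : F, v = c • w := by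
  by_cases h : ∃ c : F, v = c • w
  · exact Or.inr h
  refine Or.inl fun α β e => ?_
  have hα : α = 0 := by
    by_contra hα
    refine h ⟨-(β / α), ?_⟩
    have e' := congrArg (fun u => α⁻¹ • u) e
    simp only [smul_add, smul_smul, inv_mul_cancel₀ hα, one_smul, smul_zero] at e'
    rw [div_eq_inv_mul, neg_smul]
    exact eq_neg_of_add_eq_zero_left e'
  rw [hα, zero_smul, zero_add] at e
  exact ⟨hα, (smul_eq_zero.1 e).resolve_right hw⟩

/-- An element at the base point adds a linear functional of the other coordinates to coordinate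
`0`. -/
theorem exists_functional {a : G} (ha : a ∈ A S.base) :
    ∃ l : Fin S.dim → F, ∀ r : Fin (S.dim + 1) → F, r ≠ 0 →
      a • S.pm r = S.pm (Fin.cons (r 0 + ∑ i, Fin.tail r i * l i) (Fin.tail r)) := by
  classical
  haveI := S.charP
  haveI := Fact.mk S.ctx.prime
  have hza : a • S.base = S.base := S.ctx.smul_self ha
  have hpt : ∀ r : Fin (S.dim + 1) → F, ∃ μ : F, Fin.tail r ≠ 0 →
      a • S.pm r = S.pm (Fin.cons μ (Fin.tail r)) := by
    intro r
    by_cases hv : Fin.tail r = 0
    · exact ⟨0, fun h => absurd hv h⟩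
    have hne : S.base ≠ S.dir (Fin.tail r) := fun e => S.basis.notMem (e ▸ S.dir_mem hv)
    rcases (S.mem_line_base hv).1 (S.ctx.smul_mem_line ha hne (S.pm_mem_line_base hv)) with e | ⟨c, hc⟩
    · exact ⟨0, fun _ => by rw [e, pm_cons_zero]⟩
    · have hc0 : c ≠ 0 := by
        rintro rfl
        rw [zero_smul, vec_zero, one_smul] at hc
        have e : S.pm r = S.base := MulAction.injective a (hc.trans hza.symm)
        have hr : r ≠ 0 := fun e' => hv (by rw [e']; rfl)
        rw [← S.pm_base] at e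
        obtain ⟨d, -, hd⟩ := (S.pm_eq_iff (cons_ne_zero_of_head one_ne_zero 0) hr).1 e.symm
        exact hv (by rw [hd, tail_smul, Fin.tail_cons, smul_zero])
      refine ⟨c⁻¹, fun _ => ?_⟩
      rw [hc, ← pm_cons_one, ← S.pm_smul (cons_ne_zero_of_tail c⁻¹ hv) hc0]
      exact congrArg S.pm (ext_tail (by simp [hc0]) (by rw [tail_smul, Fin.tail_cons, Fin.tail_cons]))
  choose φ hφ using hpt
  have huniq : ∀ (v : Fin S.dim → F) (μ μ' : F), v ≠ 0 →
      S.pm (Fin.cons μ v) = S.pm (Fin.cons μ' v) → μ = μ' := by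
    intro v μ μ' hv e
    obtain ⟨c, -, hc⟩ :=
      (S.pm_eq_iff (cons_ne_zero_of_tail μ hv) (cons_ne_zero_of_tail μ' hv)).1 e
    have h1 : v = c • v := by
      have := congrArg Fin.tail hc
      rwa [tail_smul, Fin.tail_cons, Fin.tail_cons] at this
    have hc1 : c = 1 := by
      have h2 : (c - 1) • v = 0 := by rw [sub_smul, one_smul, ← h1, sub_self]
      exact sub_eq_zero.1 ((smul_eq_zero.1 h2).resolve_right hv)
    have := congrFun hc 0
    simp [hc1] at this
    exact this.symm
  have hhom : ∀ r : Fin (S.dim + 1) → F, Fin.tail r ≠ 0 → ∀ c : F, c ≠ 0 → φ (c • r) = c * φ r := by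
    intro r hv c hc
    have hv' : Fin.tail (c • r) ≠ 0 := by rw [tail_smul]; exact smul_ne_zero hc hv
    refine huniq _ _ _ hv' ?_
    rw [← hφ _ hv', S.pm_smul (fun e => hv (by rw [e]; rfl)) hc, hφ r hv,
      ← S.pm_smul (cons_ne_zero_of_tail _ hv) hc]
    exact congrArg S.pm (ext_tail (by simp) (by simp [tail_smul]))
  have hadd : ∀ r s : Fin (S.dim + 1) → F, Ind (Fin.tail r) (Fin.tail s) → r 0 ≠ 0 →
      φ (r + s) = φ r + φ s := by
    intro r s hind hr0
    have hv := hind.left_ne
    have hw := hind.symm.left_ne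
    have hvw : Fin.tail (r + s) ≠ 0 := hind.add_ne
    have hne : S.pm r ≠ S.pm s := fun e => by
      obtain ⟨c, -, hc⟩ := (S.pm_eq_iff (fun e' => hv (by rw [e']; rfl))
        (fun e' => hw (by rw [e']; rfl))).1 e
      refine one_ne_zero (hind (-c) 1 ?_).2
      rw [hc, tail_smul, one_smul, neg_smul, neg_add_cancel]
    have hrs : r + s ≠ 0 := fun e => hvw (by rw [e]; rfl)
    have hm : S.pm (r + s) ∈ line A (S.pm r) (S.pm s) :=
      (S.mem_line hr0 (fun e' => hw (by rw [e']; rfl)) hne).2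
        ⟨r + s, hrs, ⟨1, 1, by rw [one_smul, one_smul]⟩, rfl⟩
    have hm' := Set.smul_mem_smul_set (a := a) hm
    rw [S.ctx.line_smul, hφ _ hv, hφ _ hw, hφ _ hvw] at hm'
    have key : ∀ μ ν : F, ∀ v w : Fin S.dim → F, Ind v w → μ ≠ 0 → ∀ η : F,
        S.pm (Fin.cons η (v + w)) ∈ line A (S.pm (Fin.cons μ v)) (S.pm (Fin.cons ν w)) →
          η = μ + ν := by
      intro μ ν v w hi hμ η hη
      have hne' : S.pm (Fin.cons μ v) ≠ S.pm (Fin.cons ν w) := fun e => by
        obtain ⟨c, -, hc⟩ := (S.pm_eq_iff (cons_ne_zero_of_tail μ hi.left_ne)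
          (cons_ne_zero_of_tail ν hi.symm.left_ne)).1 e
        have hc' := congrArg Fin.tail hc
        rw [tail_smul, Fin.tail_cons, Fin.tail_cons] at hc'
        exact one_ne_zero (hi (-c) 1 (by rw [hc', one_smul, neg_smul, neg_add_cancel])).2
      obtain ⟨t, ht, ⟨α, β, htαβ⟩, hte⟩ := (S.mem_line (by rwa [Fin.cons_zero])
        (cons_ne_zero_of_tail ν hi.symm.left_ne) hne').1 hη
      obtain ⟨c, hc0, hc⟩ := (S.pm_eq_iff (cons_ne_zero_of_tail η hi.add_ne) ht).1 hte.symm
      rw [htαβ] at hc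
      have h1 := congrArg Fin.tail hc
      rw [tail_add, tail_smul, tail_smul, tail_smul, Fin.tail_cons, Fin.tail_cons, Fin.tail_cons,
        smul_add, ← sub_eq_zero] at h1
      obtain ⟨hα, hβ⟩ := hi (α - c) (β - c) (by rw [sub_smul, sub_smul, ← h1]; abel)
      rw [sub_eq_zero.1 hα, sub_eq_zero.1 hβ] at hc
      have h2 := congrFun hc 0
      simp only [Pi.add_apply, Pi.smul_apply, smul_eq_mul, Fin.cons_zero, ← mul_add] at h2
      exact (mul_left_cancel₀ hc0 h2).symm
    rw [tail_add] at hm'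
    by_cases hr' : φ r = 0
    · by_cases hs' : φ s = 0
      · have := line_subset S.axis
          ((S.pm_mem_iff (cons_ne_zero_of_tail _ hv)).2 (by rw [Fin.cons_zero, hr']))
          ((S.pm_mem_iff (cons_ne_zero_of_tail _ hw)).2 (by rw [Fin.cons_zero, hs'])) hm'
        rw [S.pm_mem_iff (cons_ne_zero_of_tail _ hind.add_ne), Fin.cons_zero] at this
        rw [this, hr', hs', add_zero]
      · rw [line_comm, add_comm (Fin.tail r)] at hm'
        rw [key _ _ _ _ hind.symm hs' _ hm', add_comm]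
    · exact key _ _ _ _ hind hr' _ hm'
  -- the affine form
  set lam : (Fin S.dim → F) → F := fun v => φ (Fin.cons 0 v) with hlam
  set g : (Fin S.dim → F) → F := fun v => φ (Fin.cons 1 v) - lam v with hgdef
  have hlh : ∀ v : Fin S.dim → F, v ≠ 0 → ∀ c : F, c ≠ 0 → lam (c • v) = c * lam v := by
    intro v hv c hc
    rw [hlam]
    dsimp only
    rw [← hhom _ (by rwa [Fin.tail_cons]) c hc]
    exact congrArg φ (ext_tail (by simp) (by simp [tail_smul]))
  have e12 : ∀ v w : Fin S.dim → F, Ind v w →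
      g (v + w) + lam (v + w) = g v + lam v + lam w ∧
        lam (v + w) = g v + lam v - g (-w) + lam w := by
    intro v w hi
    have h1 := hadd (Fin.cons 1 v) (Fin.cons 0 w) (by rwa [Fin.tail_cons, Fin.tail_cons])
      (by rw [Fin.cons_zero]; exact one_ne_zero)
    have h2 := hadd (Fin.cons 1 v) (Fin.cons (-1) w) (by rwa [Fin.tail_cons, Fin.tail_cons])
      (by rw [Fin.cons_zero]; exact one_ne_zero)
    rw [show (Fin.cons 1 v + Fin.cons 0 w : Fin (S.dim + 1) → F) = Fin.cons 1 (v + w) from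
      ext_tail (by simp) (by simp [tail_add])] at h1
    rw [show (Fin.cons 1 v + Fin.cons (-1) w : Fin (S.dim + 1) → F) = Fin.cons 0 (v + w) from
      ext_tail (by simp) (by simp [tail_add]),
      show (Fin.cons (-1) w : Fin (S.dim + 1) → F) = (-1 : F) • Fin.cons 1 (-w) from
        ext_tail (by simp) (by rw [tail_smul, Fin.tail_cons, Fin.tail_cons, neg_one_smul, neg_neg]),
      hhom _ (by rw [Fin.tail_cons]; exact neg_ne_zero.2 hi.symm.left_ne) _
        (neg_ne_zero.2 one_ne_zero)] at h2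
    have h3 : lam (-w) = - lam w := by
      have := hlh w hi.symm.left_ne (-1) (neg_ne_zero.2 one_ne_zero)
      rwa [neg_one_smul, neg_one_mul] at this
    simp only [hgdef, hlam] at h1 h2 h3 ⊢
    refine ⟨?_, ?_⟩
    · rw [sub_add_cancel, sub_add_cancel]
      exact h1
    · rw [sub_add_cancel, h3]
      linear_combination h2
  clear_value g lam
  have hg : ∀ u w : Fin S.dim → F, Ind u w → g u = g w := by
    intro u w hi
    obtain ⟨h1, h2⟩ := e12 _ _ hi.neg.sub
    rw [sub_add_cancel] at h1 h2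
    rw [neg_neg] at h2
    linear_combination h1 - h2
  have hla : ∀ v w : Fin S.dim → F, Ind v w → lam (v + w) = lam v + lam w := by
    intro v w hi
    have h3 := hg v (-w) hi.neg
    linear_combination (e12 v w hi).2 + h3
  have h2 := S.basis.two
  let i₀ : Fin S.dim := ⟨0, by omega⟩
  let i₁ : Fin S.dim := ⟨1, by omega⟩
  have h01 : i₀ ≠ i₁ := fun e => absurd (congrArg Fin.val e) zero_ne_one
  have hE : Ind (Pi.single i₀ (1 : F)) (Pi.single i₁ 1) := fun α β e => by
    constructor
    · simpa [Pi.single_eq_of_ne h01] using congrFun e i₀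
    · simpa [Pi.single_eq_of_ne h01.symm] using congrFun e i₁
  have hgc : ∀ v : Fin S.dim → F, v ≠ 0 → g v = g (Pi.single i₀ 1) := by
    intro v hv
    rcases ind_or v hE.left_ne with hi | ⟨c, rfl⟩
    · exact hg _ _ hi
    · rw [hg _ _ hE]
      refine hg _ _ fun α β e => ?_
      rw [smul_smul] at e
      obtain ⟨h1, h2⟩ := hE _ _ e
      exact ⟨(mul_eq_zero.1 h1).resolve_right (fun e' => hv (by rw [e', zero_smul])), h2⟩
  set μ := g (Pi.single i₀ 1) with hμ
  -- linearity
  let L : (Fin S.dim → F) →ₗ[F] F :=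
    { toFun := fun v => if v = 0 then 0 else lam v
      map_add' := fun v w => by
        rcases eq_or_ne v 0 with rfl | hv
        · simp
        rcases eq_or_ne w 0 with rfl | hw
        · simp
        rw [if_neg hv, if_neg hw]
        rcases ind_or v hw with hi | ⟨c, rfl⟩
        · rw [if_neg hi.add_ne, hla _ _ hi]
        · have hc : c ≠ 0 := fun e => hv (by rw [e, zero_smul])
          rw [hlh w hw c hc]
          by_cases h1 : c + 1 = 0
          · rw [if_pos (by rw [show c • w + w = (c + 1) • w by rw [add_smul, one_smul], h1, zero_smul])]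
            linear_combination (-(lam w)) * h1
          · have e : c • w + w = (c + 1) • w := by rw [add_smul, one_smul]
            rw [e, if_neg (smul_ne_zero h1 hw), hlh w hw _ h1]
            ring
      map_smul' := fun c v => by
        rcases eq_or_ne v 0 with rfl | hv
        · simp
        rcases eq_or_ne c 0 with rfl | hc
        · simp
        rw [if_neg (smul_ne_zero hc hv), if_neg hv, RingHom.id_apply, smul_eq_mul, hlh v hv c hc] }
  have hL : ∀ v : Fin S.dim → F, v ≠ 0 → L v = lam v := fun v hv => if_neg hv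
  clear_value L
  have hform : ∀ r : Fin (S.dim + 1) → F, Fin.tail r ≠ 0 → φ r = μ * r 0 + L (Fin.tail r) := by
    intro r hv
    rw [hL _ hv]
    by_cases h0 : r 0 = 0
    · rw [h0, mul_zero, zero_add, hlam]
      exact congrArg φ (ext_tail (by rw [h0, Fin.cons_zero]) (by rw [Fin.tail_cons]))
    · have hv' : (r 0)⁻¹ • Fin.tail r ≠ 0 := smul_ne_zero (inv_ne_zero h0) hv
      have e : r = r 0 • (Fin.cons 1 ((r 0)⁻¹ • Fin.tail r) : Fin (S.dim + 1) → F) :=
        ext_tail (by simp) (by rw [tail_smul, Fin.tail_cons, smul_smul, mul_inv_cancel₀ h0, one_smul])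
      conv_lhs => rw [e, hhom _ (by rwa [Fin.tail_cons]) _ h0]
      have h3 := hgc _ hv'
      rw [hgdef] at h3
      dsimp only at h3
      rw [sub_eq_iff_eq_add.1 h3, hlh _ hv _ (inv_ne_zero h0), mul_add, ← mul_assoc,
        mul_inv_cancel₀ h0, one_mul, mul_comm]
  -- the multiplier is one
  obtain ⟨v₀, hv₀, hLv⟩ : ∃ v : Fin S.dim → F, v ≠ 0 ∧ L v = 0 := by
    by_cases h : L (Pi.single i₀ 1) = 0
    · exact ⟨_, hE.left_ne, h⟩
    refine ⟨L (Pi.single i₁ 1) • Pi.single i₀ 1 - L (Pi.single i₀ 1) • Pi.single i₁ 1,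
      fun e => h ?_, ?_⟩
    · have e' := congrFun e i₁
      simp only [Pi.sub_apply, Pi.smul_apply, smul_eq_mul, Pi.single_eq_same,
        Pi.single_eq_of_ne h01.symm, mul_zero, zero_sub, mul_one, neg_eq_zero, Pi.zero_apply] at e'
      exact e'
    · rw [map_sub, map_smul, map_smul, smul_eq_mul, smul_eq_mul, mul_comm, sub_self]
  have hiter : ∀ n : ℕ, a ^ n • S.pm (Fin.cons 1 v₀) = S.pm (Fin.cons (μ ^ n) v₀) := by
    intro n
    induction n with
    | zero => rw [pow_zero, one_smul, pow_zero]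
    | succ n ih =>
      rw [pow_succ', mul_smul, ih, hφ _ (by rwa [Fin.tail_cons]), hform _ (by rwa [Fin.tail_cons]),
        Fin.tail_cons, hLv, add_zero, Fin.cons_zero, pow_succ']
  have hμ1 : μ = 1 := by
    have h1 := hiter p
    rw [S.ctx.pow _ a ha, one_smul] at h1
    have h3 : μ ^ p = 1 := (huniq _ _ _ hv₀ h1).symm
    have h4 : (μ - 1) ^ p = 0 := by rw [sub_pow_char, h3, one_pow, sub_self]
    exact sub_eq_zero.1 (pow_eq_zero_iff S.ctx.prime.ne_zero |>.1 h4)
  refine ⟨fun i => L (Pi.single i 1), fun r hr => ?_⟩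
  have hsum : ∀ v : Fin S.dim → F, ∑ i, v i * L (Pi.single i 1) = L v := by
    intro v
    conv_rhs => rw [← Finset.univ_sum_single v]
    rw [map_sum]
    exact Finset.sum_congr rfl fun i _ => by
      rw [← smul_eq_mul, ← map_smul, ← Pi.single_smul', smul_eq_mul, mul_one]
  rw [hsum]
  by_cases hv : Fin.tail r = 0
  · rw [hv, map_zero, add_zero, ← hv, Fin.cons_self_tail, S.pm_base_of_tail hr hv, hza]
  · rw [hφ r hv, hform r hv, hμ1, one_mul]

/-- Every elation with centre the base point is realised. -/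
theorem exists_elation (l : Fin S.dim → F) :
    ∃ a ∈ A S.base, ∀ r : Fin (S.dim + 1) → F, r ≠ 0 →
      a • S.pm r = S.pm (Fin.cons (r 0 + ∑ i, Fin.tail r i * l i) (Fin.tail r)) := by
  choose L hL using fun a : ↥(A S.base) => S.exists_functional a.2
  haveI : Finite (Fin S.dim → F) := Finite.of_injective _ S.chart.injective
  have hinj : Function.Injective L := by
    intro a b e
    refine Subtype.ext (inv_mul_eq_one.1 (S.ctx.eq_one_of_fix fun x => ?_)).symm
    obtain ⟨r, hr, rfl⟩ := S.pm_surj x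
    rw [mul_smul, inv_smul_eq_iff, hL a r hr, hL b r hr, e]
  have hcard : Nat.card (Fin S.dim → F) ≤ Nat.card ↥(A S.base) := by
    rw [S.ctx.card_A_eq_trans S.axis S.base S.basis.notMem]
    exact Nat.card_le_card_of_injective (fun v => (⟨S.vec v, S.chart.mem v⟩ : ↥(Ctx.trans A S.axisSet)))
      fun v w e => S.chart.injective (congrArg Subtype.val e)
  obtain ⟨a, rfl⟩ := (hinj.bijective_of_nat_card_le hcard).2 l
  exact ⟨a, a.2, hL a⟩

end Space

end Cfsg.Agent.Lib.ONan36
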