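import Cfsg.Agent.Lib.ONan36.Coord

/-!
# O'Nan: the coordinate field
-/

set_option autoImplicit false
set_option linter.style.haveILetI false

namespace Cfsg.Agent.Lib.ONan36

open MulAction Subgroup
open scoped IsMulCommutative

universe u v

variable {G : Type u} {X : Type v} [Group G] [MulAction G X] {p : ℕ} {A : X → Subgroup G}

/-- Coordinates on the translations of an axis in which the shears are elementary transvections. -/
structure Chart (A : X → Subgroup G) (H : Set X) (z : X) {m : ℕ} (pt : Fin m → X) (F : Type)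
    [Field F] where
  vec : (Fin m → F) → G
  map_add : ∀ v w, vec (v + w) = vec v * vec w
  mem : ∀ v, vec v ∈ Ctx.trans A H
  injective : Function.Injective vec
  surj : ∀ t ∈ Ctx.trans A H, ∃ v, vec v = t
  point : ∀ j v, vec v ∈ tx A (pt j) H ↔ ∀ i, i ≠ j → v i = 0
  shear : ∀ j k, j ≠ k → ∀ c : F, ∃ b ∈ dd A z pt j k,
    ∀ v, b * vec v * b⁻¹ = vec (v + Pi.single k (c * v j))

variable [Finite G]

/-- A small type to carry the field. -/
def Carrier (n : ℕ) : Type := Fin n

namespace Ctx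

theorem exists_chart (h : Ctx G X p A) {H : Set X} (hH : IsAxis A H) {z : X} {m : ℕ}
    {pt : Fin m → X} (hB : Basis A H z pt) :
    ∃ (F : Type) (_ : Field F) (_ : Fintype F), Nonempty (Chart A H z pt F) := by
  classical
  haveI : IsMulCommutative ↥(trans A H) := .of_comm fun s t =>
    Subtype.ext (h.trans_comm s.2 t.2)
  haveI : Finite (AddMonoid.End (Additive ↥(trans A H))) := Finite.of_injective
    (fun f => (f : Additive ↥(trans A H) → Additive ↥(trans A H))) DFunLike.coe_injective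
  have h2 := hB.two
  let i₀ : Fin m := ⟨0, by omega⟩
  let i₁ : Fin m := ⟨1, by omega⟩
  have h01 : i₀ ≠ i₁ := fun e => absurd (congrArg Fin.val e) zero_ne_one
  have hne : ∀ i, ∃ e : Additive ↥(trans A H), e ∈ part A H (pt i) ∧ e ≠ 0 := fun i => by
    obtain ⟨t, ht, ht1⟩ := h.exists_tx hH (hB.mem i)
    exact ⟨Additive.ofMul ⟨t, tx_le_trans (hB.mem i) ht⟩, ht,
      fun e => ht1 (congrArg Subtype.val (congrArg Additive.toMul e))⟩
  choose e he he0 using hne
  -- the chosen shears and their inverses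
  have hg : ∀ i, i ≠ i₀ → ∃ φ ∈ h.em hH hB i₀ i, φ ≠ 0 ∧ ∃ ψ ∈ h.em hH hB i i₀,
      (∀ t ∈ part A H (pt i₀), ψ (φ t) = t) ∧ ∀ t ∈ part A H (pt i), φ (ψ t) = t := by
    intro i hi
    obtain ⟨φ, hφ, hφe⟩ := h.em_surj hH hB hi.symm (he i₀) (he0 i₀) (he i)
    have hφ0 : φ ≠ 0 := fun e' => he0 i (by rw [← hφe, e']; rfl)
    exact ⟨φ, hφ, hφ0, h.em_inverse hH hB hi.symm hφ hφ0⟩
  choose g hgm hg0 g' hg'm hg'g hgg' using hg
  set g₁ := g i₁ h01.symm with hg₁
  set g₁' := g' i₁ h01.symm with hg₁'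
  -- the field
  let E := h.em hH hB i₀ i₁
  have hinv : ∀ t ∈ part A H (pt i₁), g₁ (g₁' t) = t := hgg' i₁ h01.symm
  have hinv' : ∀ t ∈ part A H (pt i₀), g₁' (g₁ t) = t := hg'g i₁ h01.symm
  have hsand : ∀ φ ∈ E, ∀ ψ ∈ E, φ * g₁' * ψ ∈ E ∧ φ * g₁' * ψ = ψ * g₁' * φ := fun φ hφ ψ hψ =>
    h.em_sandwich hH hB h01 (hgm i₁ h01.symm) hφ hψ (hg'm i₁ h01.symm) (hg0 i₁ h01.symm) hinv
  let _m : Mul E := ⟨fun φ ψ => ⟨(φ : AddMonoid.End (Additive ↥(trans A H))) * g₁' * ψ,
    (hsand _ φ.2 _ ψ.2).1⟩⟩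
  let _o : One E := ⟨⟨g₁, hgm i₁ h01.symm⟩⟩
  have hone : ∀ ψ ∈ E, g₁ * g₁' * ψ = ψ := fun ψ hψ =>
    DFunLike.ext _ _ fun t => hinv _ (h.em_range hH hB hψ t)
  let _r : CommRing E :=
    { (inferInstance : AddCommGroup E), _m, _o with
      left_distrib := fun x y w => Subtype.ext (mul_add _ _ _)
      right_distrib := fun x y w => Subtype.ext (by
        show ((x : AddMonoid.End (Additive ↥(trans A H))) + (y : AddMonoid.End (Additive ↥(trans A H)))) * g₁' *
          (w : AddMonoid.End (Additive ↥(trans A H))) = _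
        rw [add_mul, add_mul]
        rfl)
      zero_mul := fun x => Subtype.ext (by
        show (0 : AddMonoid.End (Additive ↥(trans A H))) * g₁' * (x : AddMonoid.End _) = 0
        rw [zero_mul, zero_mul])
      mul_zero := fun x => Subtype.ext (mul_zero _)
      mul_assoc := fun x y w => Subtype.ext (by
        show (x : AddMonoid.End (Additive ↥(trans A H))) * g₁' * y * g₁' * w =
          (x : AddMonoid.End (Additive ↥(trans A H))) * g₁' * (y * g₁' * w)
        simp only [mul_assoc])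
      one_mul := fun x => Subtype.ext (hone _ x.2)
      mul_one := fun x => Subtype.ext ((hsand _ x.2 _ (hgm i₁ h01.symm)).2.trans (hone _ x.2))
      mul_comm := fun x y => Subtype.ext (hsand _ x.2 _ y.2).2 }
  have hval : ∀ φ : E, (φ : AddMonoid.End (Additive ↥(trans A H))) (e i₀) = 0 → φ = 0 := fun φ hφ =>
    Subtype.ext (h.em_eq_of_eq hH hB φ.2 (zero_mem _) (he i₀) (he0 i₀) hφ)
  haveI : Nontrivial E := ⟨⟨1, 0, fun e' => hg0 i₁ h01.symm (congrArg Subtype.val e')⟩⟩
  haveI : NoZeroDivisors E := ⟨fun {φ ψ} e' => by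
    by_contra hne
    rw [not_or] at hne
    have e1 : (φ : AddMonoid.End (Additive ↥(trans A H)))
        (g₁' ((ψ : AddMonoid.End (Additive ↥(trans A H))) (e i₀))) = 0 :=
      DFunLike.congr_fun (congrArg Subtype.val e') (e i₀)
    have hs : g₁' ((ψ : AddMonoid.End (Additive ↥(trans A H))) (e i₀)) ≠ 0 := fun e2 => by
      refine hne.2 (hval ψ ?_)
      have := hinv _ (h.em_range hH hB ψ.2 (e i₀))
      rw [e2, map_zero] at this
      exact this.symm
    exact hne.1 (Subtype.ext (h.em_eq_of_eq hH hB φ.2 (zero_mem _)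
      (h.em_range hH hB (hg'm i₁ h01.symm) _) hs e1))⟩
  haveI : IsDomain E := NoZeroDivisors.to_isDomain E
  let _f : Field E := (Finite.isDomain_to_isField E).toField
  -- coordinates on the parts
  let h₀ : E →+ Additive ↥(trans A H) := AddMonoidHom.mk'
    (fun c => g₁' ((c : AddMonoid.End (Additive ↥(trans A H))) (e i₀)))
    fun c d => map_add g₁' _ _
  have h₀m : ∀ c, h₀ c ∈ part A H (pt i₀) := fun c => h.em_range hH hB (hg'm i₁ h01.symm) _
  have h₀inj : Function.Injective h₀ := (injective_iff_map_eq_zero h₀).2 fun c hc => by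
    refine hval c ?_
    have := hinv _ (h.em_range hH hB c.2 (e i₀))
    rw [show g₁' ((c : AddMonoid.End (Additive ↥(trans A H))) (e i₀)) = 0 from hc, map_zero] at this
    exact this.symm
  have h₀surj : ∀ t ∈ part A H (pt i₀), ∃ c, h₀ c = t := fun t ht => by
    obtain ⟨φ, hφ, hφe⟩ := h.em_surj hH hB h01 (he i₀) (he0 i₀)
      (h.em_range hH hB (hgm i₁ h01.symm) t)
    refine ⟨⟨φ, hφ⟩, ?_⟩
    show g₁' (φ (e i₀)) = t
    rw [hφe, hinv' t ht]
  let hc : Fin m → (E →+ Additive ↥(trans A H)) := fun i =>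
    if hi : i = i₀ then h₀ else (g i hi : Additive ↥(trans A H) →+ Additive ↥(trans A H)).comp h₀
  have hc0 : hc i₀ = h₀ := dif_pos rfl
  have hci : ∀ (i : Fin m) (hi : i ≠ i₀) (c : E), hc i c = g i hi (h₀ c) := fun i hi c => by
    simp only [hc, dif_neg hi]
    rfl
  have hcm : ∀ i c, hc i c ∈ part A H (pt i) := by
    intro i c
    rcases eq_or_ne i i₀ with rfl | hi
    · rw [hc0]; exact h₀m c
    · rw [hci i hi]; exact h.em_range hH hB (hgm i hi) _
  have hcinj : ∀ i, Function.Injective (hc i) := by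
    intro i c d e'
    rcases eq_or_ne i i₀ with rfl | hi
    · rw [hc0] at e'; exact h₀inj e'
    · rw [hci i hi, hci i hi] at e'
      have := congrArg (g' i hi) e'
      rw [hg'g i hi _ (h₀m c), hg'g i hi _ (h₀m d)] at this
      exact h₀inj this
  have hcsurj : ∀ i, ∀ t ∈ part A H (pt i), ∃ c, hc i c = t := by
    intro i t ht
    rcases eq_or_ne i i₀ with rfl | hi
    · rw [hc0]; exact h₀surj t ht
    · obtain ⟨c, hc'⟩ := h₀surj _ (h.em_range hH hB (hg'm i hi) t)
      exact ⟨c, by rw [hci i hi, hc', hgg' i hi t ht]⟩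
  -- every shear is a multiplication
  have hlin : ∀ j k, j ≠ k → ∀ φ ∈ h.em hH hB j k,
      ∃ c : E, ∀ d : E, φ (hc j d) = hc k (c * d) := by
    intro j k hjk φ hφ
    have hmul : ∀ c d : E, h₀ (c * d) = g₁' ((c : AddMonoid.End (Additive ↥(trans A H))) (h₀ d)) :=
      fun c d => rfl
    rcases eq_or_ne k i₀ with rfl | hk
    · -- `j ≠ i₀`
      suffices hE : g₁ * φ * g j hjk ∈ E by
        refine ⟨⟨_, hE⟩, fun d => ?_⟩
        rw [hci j hjk, hc0, hmul]
        show φ (g j hjk (h₀ d)) = g₁' (g₁ (φ (g j hjk (h₀ d))))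
        rw [hinv' _ (h.em_range hH hB hφ _)]
      rcases eq_or_ne φ 0 with rfl | hφ0
      · rw [mul_zero, zero_mul]; exact zero_mem _
      rcases eq_or_ne j i₁ with rfl | hj
      · obtain ⟨ψ, hψ, hψ1, hψ2⟩ := h.em_inverse hH hB hjk hφ hφ0
        refine (h.em_sandwich hH hB h01 hψ (hgm i₁ hjk) (hgm i₁ hjk) hφ (fun e' => he0 i₁ ?_) hψ1).1
        rw [← hψ1 _ (he i₁), e']; rfl
      · exact h.em_comp hH hB h01 hj (hgm j hjk) (h.em_comp hH hB hj h01 hφ (hgm i₁ h01.symm))
    · obtain ⟨φ₀, hφ₀, hφ₀j⟩ : ∃ φ₀ ∈ h.em hH hB i₀ k, ∀ d, φ (hc j d) = φ₀ (h₀ d) := by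
        rcases eq_or_ne j i₀ with rfl | hj
        · exact ⟨φ, hφ, fun d => by rw [hc0]⟩
        · exact ⟨φ * g j hj, h.em_comp hH hB hk.symm hjk (hgm j hj) hφ,
            fun d => by rw [hci j hj]; rfl⟩
      rcases eq_or_ne k i₁ with rfl | hk1
      · refine ⟨⟨φ₀, hφ₀⟩, fun d => ?_⟩
        rw [hci i₁ hk, hmul, hφ₀j]
        exact (hinv _ (h.em_range hH hB hφ₀ _)).symm
      · refine ⟨⟨g₁ * g' k hk * φ₀, h.em_comp hH hB h01 hk1 hφ₀
          (h.em_comp hH hB hk1 h01 (hg'm k hk) (hgm i₁ h01.symm))⟩, fun d => ?_⟩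
        rw [hci k hk, hmul, hφ₀j]
        show φ₀ (h₀ d) = g k hk (g₁' (g₁ (g' k hk (φ₀ (h₀ d)))))
        rw [hinv' _ (h.em_range hH hB (hg'm k hk) _), hgg' k hk _ (h.em_range hH hB hφ₀ _)]
  -- transfer to a small type
  let F : Type := Carrier (Nat.card E)
  let ε : E ≃ F := Finite.equivFin E
  let _ff : Field F := ε.symm.field
  haveI : Finite F := Finite.of_equiv E ε
  haveI : Fintype F := Fintype.ofFinite F
  let ε' : F ≃+* E := ε.symm.ringEquiv
  let val : (Fin m → F) →+ Additive ↥(trans A H) :=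
    AddMonoidHom.mk' (fun v => ∑ i, hc i (ε' (v i))) fun v w => by
      simp [Finset.sum_add_distrib]
  have hbij : Function.Bijective val := by
    constructor
    · intro v w e'
      funext i
      have := congrFun ((h.sum_bijective hH hB).1 (a₁ := fun i => ⟨_, hcm i (ε' (v i))⟩)
        (a₂ := fun i => ⟨_, hcm i (ε' (w i))⟩) e') i
      exact ε'.injective (hcinj i (congrArg Subtype.val this))
    · intro t
      obtain ⟨c, rfl⟩ := (h.sum_bijective hH hB).2 t
      choose d hd using fun i => hcsurj i _ (c i).2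
      exact ⟨fun i => ε'.symm (d i), show ∑ i, hc i (ε' (ε'.symm (d i))) = ∑ i, (c i : Additive ↥(trans A H)) from Finset.sum_congr rfl fun i _ => by
        rw [RingEquiv.apply_symm_apply, hd]⟩
  refine ⟨F, inferInstance, inferInstance, ⟨{
    vec := fun v => ((val v).toMul : G)
    map_add := fun v w => by rw [map_add]; rfl
    mem := fun v => (val v).toMul.2
    injective := fun v w e' => hbij.1 (Additive.toMul.injective (Subtype.ext e'))
    surj := fun t ht => by
      obtain ⟨v, hv⟩ := hbij.2 (Additive.ofMul ⟨t, ht⟩)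
      exact ⟨v, by rw [hv]; rfl⟩
    point := fun j v => ?_
    shear := fun j k hjk c => ?_ }⟩⟩
  · constructor
    · intro hm i hij
      let cv : (i : Fin m) → ↥(part A H (pt i)) := fun i => ⟨_, hcm i (ε' (v i))⟩
      let cw : (i : Fin m) → ↥(part A H (pt i)) := Pi.single j ⟨val v, mem_part.2 hm⟩
      have e' := congrFun ((h.sum_bijective hH hB).1 (a₁ := cv) (a₂ := cw) (by
        show val v = ∑ i, (cw i : Additive ↥(trans A H))
        rw [Finset.sum_eq_single j]
        · simp [cw]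
        · intro k _ hk; simp [cw, Pi.single_eq_of_ne hk]
        · simp)) i
      have e2 : hc i (ε' (v i)) = 0 := by
        have := congrArg Subtype.val e'
        simpa [cv, cw, Pi.single_eq_of_ne hij] using this
      exact ε'.injective (by rw [map_zero]; exact hcinj i (e2.trans (map_zero _).symm))
    · intro hv
      have e' : val v = hc j (ε' (v j)) := by
        show ∑ i, hc i (ε' (v i)) = _
        rw [Finset.sum_eq_single j (fun k _ hk => by rw [hv k hk, map_zero, map_zero]) (by simp)]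
      show ((val v).toMul : G) ∈ tx A (pt j) H
      rw [e']
      exact mem_part.1 (hcm j _)
  · have h1 : hc j 1 ≠ 0 := fun e' => one_ne_zero (hcinj j (e'.trans (map_zero _).symm))
    obtain ⟨φ, hφ, hφ1⟩ := h.em_surj hH hB hjk (hcm j 1) h1 (hcm k (ε' c))
    obtain ⟨c', hc'⟩ := hlin j k hjk φ hφ
    have hcc : c' = ε' c := hcinj k (by rw [← hφ1, hc', mul_one])
    obtain ⟨b, hb, rfl⟩ := (h.mem_em hH hB).1 hφ
    refine ⟨b.toMul, hb, fun v => ?_⟩
    show (b.toMul : G) * (val v).toMul * (b.toMul : G)⁻¹ = _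
    rw [h.conj_eq hH (hB.mem k)]
    refine congrArg (fun s : Additive ↥(trans A H) => (s.toMul : G)) ?_
    rw [map_add val, add_comm]
    congr 1
    have e3 : h.de hH (hB.mem k) b (val v) = hc k (ε' (c * v j)) := by
      show h.de hH (hB.mem k) b (∑ i, hc i (ε' (v i))) = _
      rw [map_sum, Finset.sum_eq_single j
        (fun i _ hij => h.em_zero hH hB hφ hij (hcm i _)) (by simp), hc', hcc, map_mul ε']
    rw [e3]
    show _ = ∑ i, hc i (ε' ((Pi.single k (c * v j) : Fin m → F) i))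
    rw [Finset.sum_eq_single k
      (fun i _ hik => by rw [Pi.single_eq_of_ne hik, map_zero, map_zero]) (by simp), Pi.single_eq_same]

end Ctx

end Cfsg.Agent.Lib.ONan36
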