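import Cfsg.Agent.Lib.ONan36.Shear

/-!
# O'Nan: bases of the translations of an axis
-/

set_option autoImplicit false
set_option linter.style.haveILetI false

namespace Cfsg.Agent.Lib.ONan36

open MulAction Subgroup Pointwise

universe u v

variable {G : Type u} {X : Type v} [Group G] [MulAction G X] {p : ℕ} {A : X → Subgroup G}
  [Finite G]

namespace Ctx

variable (h : Ctx G X p A) {H : Set X} (hH : IsAxis A H)

include h hH

theorem one_lt_ncard {u : X} (hu : u ∈ H) : 1 < H.ncard := by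
  haveI := h.finX
  obtain ⟨z, hz⟩ := h.exists_notMem hH
  obtain ⟨w, hw, hw1, hwz⟩ := h.nsr u z (fun e => hz (e ▸ hu))
  refine lt_of_lt_of_le ?_ (hH.2 u w hw hw1)
  have h5 : ({u, z} : Set X) ⊆ fixedBy X w := by
    rintro y (rfl | rfl)
    · exact h.smul_self hw
    · exact hwz
  have := Set.ncard_le_ncard h5
  rw [Set.ncard_pair (fun (e : u = z) => hz (e ▸ hu))] at this
  omega

/-- The translations act regularly on the complement of the axis. -/
theorem card_trans {z : X} (hz : z ∉ H) : Nat.card ↥(trans A H) = Nat.card X - H.ncard := by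
  haveI := h.finX
  rw [← Set.ncard_compl, ← Nat.card_coe_set_eq]
  refine Nat.card_congr (Equiv.ofBijective
    (fun t : ↥(trans A H) => (⟨(t : G) • z, h.smul_notMem t.2 hz⟩ : ↥Hᶜ)) ⟨?_, ?_⟩)
  · intro s t e
    have e' : (s : G) • z = (t : G) • z := congrArg Subtype.val e
    exact Subtype.ext (inv_mul_eq_one.1 (h.trans_semiregular hH (mul_mem (inv_mem t.2) s.2) hz
      (by rw [mul_smul, e', inv_smul_smul]))).symm
  · rintro ⟨w, hw⟩
    obtain ⟨u, hu, a, ha, e⟩ := h.exists_translate hH hz hw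
    exact ⟨⟨a, tx_le_trans hu ha⟩, Subtype.ext e⟩

/-- `A x` is as large as the group of translations. -/
theorem card_A_eq_trans (x : X) {z : X} (hz : z ∉ H) :
    Nat.card ↥(A x) = Nat.card ↥(trans A H) := by
  haveI := h.finX
  obtain ⟨⟨u, a, ha, ha1, e⟩, -⟩ := id hH
  have hu : u ∈ H := e ▸ h.smul_self ha
  have huz : u ≠ z := fun e => hz (e ▸ hu)
  rw [h.card_A x u, h.card_trans hH hz]
  have h1 := h.moment hH huz
  have hN := (h.params hH hu hz).1
  have h2 := h.card_tx_mul hH hu hz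
  rw [← h2] at h1 ⊢
  have hP := h.one_lt_ncard hH hu
  have hle : H.ncard ≤ Nat.card X := Set.ncard_le_card H
  set r := Nat.card ↥(tx A u H)
  set w := Nat.card ↥(A u ⊓ stabilizer G z)
  set k := H.ncard
  set n := Nat.card X
  rw [hN] at h1
  have hn : (n : ℤ) = r * k + 1 := by
    have : n = r * k + 1 := by omega
    exact_mod_cast this
  push_cast [Nat.cast_sub (by omega : 1 ≤ k)] at h1
  have h3 : ((r * w : ℕ) : ℤ) = ((n - k : ℕ) : ℤ) := by
    rw [Nat.cast_sub hle, Nat.cast_mul, hn]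
    linear_combination -h1
  exact_mod_cast h3

/-- The products of two axial elements. -/
theorem exists_line_tx {a b : X} (ha : a ∈ H) (hb : b ∈ H) (hab : a ≠ b) {s t : G}
    (hs : s ∈ tx A a H) (hs1 : s ≠ 1) (ht : t ∈ tx A b H) :
    ∃ w ∈ line A a b, w ∈ H ∧ t * s ∈ tx A w H ∧ tx A w H ≤ tx A a H ⊔ tx A b H := by
  obtain ⟨c, hc, e⟩ := h.exists_commutator hH ha hb hab hs hs1 (inv_mem ht)
  have e2 : c * s * c⁻¹ * s⁻¹ = t := by
    rw [← inv_inv t, ← e]
    group
  refine ⟨c • a, ?_, h.smul_mem_axis hH hc hb ha, ?_, ?_⟩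
  · rw [line_comm]; exact h.smul_mem_line_of_off hc hab.symm
  · have := h.tx_conj (h.smul_axis hH hc hb) hs
    rwa [← e2, inv_mul_cancel_right]
  · intro g hg
    have hg' : c⁻¹ * g * c ∈ tx A a H := by
      have := h.tx_conj (h.smul_axis hH (inv_mem hc) hb) hg
      rwa [inv_smul_smul, inv_inv] at this
    have e3 : g = (c * (c⁻¹ * g * c) * c⁻¹ * (c⁻¹ * g * c)⁻¹) * (c⁻¹ * g * c) := by group
    rw [e3]
    exact mul_mem (mem_sup_right (h.commutator_mem_tx hH ha hb hc hg')) (mem_sup_left hg')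

/-- Translations at a set of points closed under lines form a group. -/
theorem mem_closed_of_span {C S : Set X} (hC : C ⊆ H)
    (hcl : ∀ a ∈ C, ∀ b ∈ C, a ≠ b → line A a b ⊆ C) (hS : S ⊆ C) {t : G}
    (ht : t ∈ ⨆ u ∈ S, tx A u H) :
    t = 1 ∨ ∃ u ∈ C, t ∈ tx A u H ∧ ∀ B : Subgroup G, (∀ w ∈ S, tx A w H ≤ B) → tx A u H ≤ B := by
  rw [← iSup_subtype''] at ht
  induction ht using Subgroup.iSup_induction' with
  | hp i x hx => exact Or.inr ⟨i, hS i.2, hx, fun B hB => hB i i.2⟩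
  | h1 => exact Or.inl rfl
  | hmul x y _ _ hx hy =>
    rcases hx with rfl | ⟨a, ha, hax, hA⟩
    · rwa [one_mul]
    rcases hy with rfl | ⟨b, hb, hby, hB'⟩
    · rw [mul_one]; exact Or.inr ⟨a, ha, hax, hA⟩
    rcases eq_or_ne b a with rfl | hba
    · exact Or.inr ⟨b, hb, mul_mem hax hby, hA⟩
    rcases eq_or_ne y 1 with rfl | hy1
    · rw [mul_one]; exact Or.inr ⟨a, ha, hax, hA⟩
    obtain ⟨w, hwl, -, hwm, hwle⟩ := h.exists_line_tx hH (hC hb) (hC ha) hba hby hy1 hax
    exact Or.inr ⟨w, hcl b hb a ha hba hwl, hwm,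
      fun B hB => hwle.trans (sup_le (hB' B hB) (hA B hB))⟩

/-- A point whose elements lie in a span is in the closed set. -/
theorem mem_closed {C S : Set X} (hC : C ⊆ H)
    (hcl : ∀ a ∈ C, ∀ b ∈ C, a ≠ b → line A a b ⊆ C) (hS : S ⊆ C) {v : X} {t : G}
    (htv : t ∈ tx A v H) (ht1 : t ≠ 1) (ht : t ∈ ⨆ u ∈ S, tx A u H) :
    v ∈ C ∧ tx A v H ≤ ⨆ u ∈ S, tx A u H := by
  obtain ⟨u, hu, htu, hle⟩ := (h.mem_closed_of_span hH hC hcl hS ht).resolve_left ht1
  obtain rfl : u = v := by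
    by_contra hne
    exact ht1 (h.tx_disjoint hne htu htv)
  exact ⟨hu, hle _ fun w hw => le_iSup₂ (f := fun u (_ : u ∈ S) => tx A u H) w hw⟩

theorem line_closed : ∀ a ∈ H, ∀ b ∈ H, a ≠ b → line A a b ⊆ H :=
  fun _ ha _ hb _ => line_subset hH ha hb

/-- An element fixing a spanning set of points fixes the axis. -/
theorem fix_of_span {S : Set X} (hS : S ⊆ H) (hspan : trans A H ≤ ⨆ u ∈ S, tx A u H) {x : X}
    {a : G} (ha : a ∈ A x) (hfix : ∀ u ∈ S, a • u = u) {v : X} (hv : v ∈ H) : a • v = v := by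
  rcases eq_or_ne a 1 with rfl | ha1
  · rw [one_smul]
  obtain ⟨t, ht, ht1⟩ := h.exists_tx hH hv
  exact ((h.mem_closed hH (C := H ∩ fixedBy X a) Set.inter_subset_left
    (fun y hy y' hy' _ => Set.subset_inter (line_subset hH hy.1 hy'.1)
      (line_subset (h.isAxis_fix ha ha1) hy.2 hy'.2))
    (fun u hu => ⟨hS hu, hfix u hu⟩) ht ht1 (hspan (tx_le_trans hv ht))).1).2

/-- A basis: points of the axis whose axial subgroups decompose the translations. -/
theorem exists_basis : ∃ (m : ℕ) (pt : Fin m → X), 2 ≤ m ∧ Function.Injective pt ∧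
    (∀ i, pt i ∈ H) ∧ trans A H ≤ ⨆ u ∈ Set.range pt, tx A u H ∧
    ∀ i, tx A (pt i) H ⊓ (⨆ u ∈ pt '' {i}ᶜ, tx A u H) = ⊥ := by
  classical
  haveI := h.finX
  obtain ⟨S, ⟨hSH, hS⟩, hmin⟩ := Set.exists_min_image
    {S : Set X | S ⊆ H ∧ trans A H ≤ ⨆ u ∈ S, tx A u H} Set.ncard (Set.toFinite _)
    ⟨H, subset_rfl, le_rfl⟩
  obtain ⟨m, ⟨e⟩⟩ : ∃ m, Nonempty (S ≃ Fin m) := ⟨_, ⟨Finite.equivFin S⟩⟩
  let pt : Fin m → X := fun i => (e.symm i : X)
  have hinj : Function.Injective pt := Subtype.val_injective.comp e.symm.injective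
  have hrange : Set.range pt = S := by
    show Set.range (Subtype.val ∘ e.symm) = S
    rw [EquivLike.range_comp, Subtype.range_coe]
  refine ⟨m, pt, ?_, hinj, fun i => hSH (e.symm i).2, hrange.symm ▸ hS, fun i => ?_⟩
  · obtain ⟨⟨u, a, ha, ha1, eq⟩, -⟩ := id hH
    have hu : u ∈ H := eq ▸ h.smul_self ha
    by_contra hm
    have hsub : ∀ v ∈ H, ∃ i, pt i = v := by
      intro v hv
      obtain ⟨t, ht, ht1⟩ := h.exists_tx hH hv
      have := (h.mem_closed hH hSH (fun y hy y' hy' hne => absurd (by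
        rw [← hrange] at hy hy'
        obtain ⟨i, rfl⟩ := hy
        obtain ⟨j, rfl⟩ := hy'
        congr 1
        exact Fin.ext (by omega)) hne) subset_rfl ht ht1 (hS (tx_le_trans hv ht))).1
      rwa [← hrange] at this
    have h2 := h.one_lt_ncard hH hu
    have h3 : H.ncard ≤ S.ncard := Set.ncard_le_ncard fun v hv => by
      obtain ⟨i, rfl⟩ := hsub v hv
      exact hrange ▸ Set.mem_range_self i
    rw [← Nat.card_coe_set_eq S, Nat.card_congr e, Nat.card_eq_fintype_card, Fintype.card_fin] at h3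
    omega
  · rw [eq_bot_iff]
    rintro t ⟨ht, ht'⟩
    by_contra ht1
    have hle := (h.mem_closed hH (C := H) subset_rfl (h.line_closed hH)
      (S := pt '' {i}ᶜ) (by rintro u ⟨j, -, rfl⟩; exact hSH (e.symm j).2) ht (fun e => ht1 (mem_bot.2 e)) ht').2
    have hnew : trans A H ≤ ⨆ u ∈ pt '' {i}ᶜ, tx A u H := hS.trans (iSup₂_le fun u hu => by
      rw [← hrange] at hu
      obtain ⟨j, rfl⟩ := hu
      rcases eq_or_ne j i with rfl | hji
      · exact hle
      · exact le_iSup₂ (f := fun u (_ : u ∈ pt '' {i}ᶜ) => tx A u H) (pt j) ⟨j, hji, rfl⟩)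
    have := hmin (pt '' {i}ᶜ) ⟨by rintro u ⟨j, -, rfl⟩; exact hSH (e.symm j).2, hnew⟩
    rw [← hrange, ← Set.image_univ, Set.ncard_image_of_injective _ hinj,
      Set.ncard_image_of_injective _ hinj, Set.compl_eq_univ_diff, Set.ncard_diff_singleton_of_mem
      (Set.mem_univ i)] at this
    have : 0 < (Set.univ : Set (Fin m)).ncard := (Set.ncard_pos).2 ⟨i, trivial⟩
    omega

end Ctx

end Cfsg.Agent.Lib.ONan36
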