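import Cfsg.Agent.Lib.ONan36.Axes

/-!
# O'Nan: every non-trivial element has an axis; lines
-/

set_option autoImplicit false
set_option linter.style.haveILetI false

namespace Cfsg.Agent.Lib.ONan36

open MulAction Subgroup Pointwise

universe u v

variable {G : Type u} {X : Type v} [Group G] [MulAction G X] {p : ℕ} {A : X → Subgroup G}

/-- The points lying on every axis through `x` and `y`. -/
def line (A : X → Subgroup G) (x y : X) : Set X :=
  {z | ∀ H, IsAxis A H → x ∈ H → y ∈ H → z ∈ H}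

theorem left_mem_line (x y : X) : x ∈ line A x y := fun _ _ h _ => h

theorem right_mem_line (x y : X) : y ∈ line A x y := fun _ _ _ h => h

theorem line_subset {H : Set X} (hH : IsAxis A H) {x y : X} (hx : x ∈ H) (hy : y ∈ H) :
    line A x y ⊆ H := fun _ hz => hz H hH hx hy

theorem line_comm (x y : X) : line A x y = line A y x :=
  Set.ext fun _ => ⟨fun h H hH h1 h2 => h H hH h2 h1, fun h H hH h1 h2 => h H hH h2 h1⟩

variable [Finite G]

namespace Pre

omit [Finite G] in
theorem fixedBy_conj (g a : G) : fixedBy X (g * a * g⁻¹) = g • fixedBy X a :=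
  (MulAction.smul_fixedBy X a g).symm

omit [Finite G] in
theorem ncard_fixedBy_conj (g a : G) :
    (fixedBy X (g * a * g⁻¹)).ncard = (fixedBy X a).ncard := by
  rw [fixedBy_conj, Set.ncard_smul_set]

omit [Finite G] in
theorem isAxis_smul (h : Pre G X p A) {H : Set X} (hH : IsAxis A H) (g : G) :
    IsAxis A (g • H) := by
  obtain ⟨⟨x, a, ha, ha1, rfl⟩, hmax⟩ := hH
  refine ⟨⟨g • x, g * a * g⁻¹, h.conj g x a ha, fun e => ha1 (conj_eq_one_iff.1 e), fixedBy_conj g a⟩,
    fun y b hb hb1 => ?_⟩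
  rw [Set.ncard_smul_set]
  exact hmax y b hb hb1

theorem card_axis_eq (h : Pre G X p A) {H K : Set X} (hH : IsAxis A H) (hK : IsAxis A K) :
    H.ncard = K.ncard := by
  obtain ⟨⟨x, a, ha, ha1, rfl⟩, hmax⟩ := hH
  obtain ⟨⟨y, b, hb, hb1, rfl⟩, hmax'⟩ := hK
  exact le_antisymm (hmax' x a ha ha1) (hmax y b hb hb1)

end Pre

namespace Ctx

/-- Every non-trivial element of `A x` has an axis. -/
theorem isAxis_fix (h : Ctx G X p A) {x : X} {a : G} (ha : a ∈ A x) (ha1 : a ≠ 1) :
    IsAxis A (fixedBy X a) := by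
  haveI := h.finX
  let B : Subgroup G :=
    { carrier := {a | a ∈ A x ∧ (a = 1 ∨ IsAxis A (fixedBy X a))}
      one_mem' := ⟨one_mem _, Or.inl rfl⟩
      inv_mem' := fun {a} ha => ⟨inv_mem ha.1, ha.2.imp (fun e => by rw [e, inv_one]) fun e => by
        rwa [fixedBy_inv]⟩
      mul_mem' := fun {a b} ha hb => by
        refine ⟨mul_mem ha.1 hb.1, ?_⟩
        rcases eq_or_ne (a * b) 1 with hab | hab
        · exact Or.inl hab
        refine Or.inr ?_
        rcases eq_or_ne a 1 with rfl | ha1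
        · rw [one_mul] at hab ⊢
          exact hb.2.resolve_left hab
        rcases eq_or_ne b 1 with rfl | hb1
        · rw [mul_one] at hab ⊢
          exact ha.2.resolve_left hab
        have h1 := ha.2.resolve_left ha1
        have h2 := hb.2.resolve_left hb1
        by_cases hsub : fixedBy X b ⊆ fixedBy X a
        · have e := Set.eq_of_subset_of_ncard_le hsub (h.card_axis_eq h1 h2).le
          have hm : a * b ∈ tx A x (fixedBy X a) := mul_mem (mem_tx.2 ⟨ha.1, fun z hz => hz⟩)
            (mem_tx.2 ⟨hb.1, fun z hz => by rw [← e] at hz; exact hz⟩)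
          rwa [h.fixedBy_eq h1 hm hab]
        obtain ⟨y, hy2, hy1⟩ := Set.not_subset.1 hsub
        have hxy : x ≠ y := fun e => hy1 (e ▸ h.smul_self ha.1)
        -- the commutators of `a` with the elements at `y` with the axis of `b`
        let f : ↥(tx A y (fixedBy X b)) → ↥(tx A x (fixedBy X b)) := fun t =>
          ⟨t * a * (t : G)⁻¹ * a⁻¹, mem_tx.2 ⟨h.comm_mem ((mem_tx.1 t.2).2 x (h.smul_self hb.1)) ha.1,
            fun u hu => h.commutator_fix (mem_tx.1 t.2).1 ((mem_tx.1 t.2).2 x (h.smul_self hb.1))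
              ((mem_tx.1 t.2).2 u hu) ha.1⟩⟩
        have hinj : Function.Injective f := by
          intro t t' e
          have e' : (t : G) * a * (t : G)⁻¹ = (t' : G) * a * (t' : G)⁻¹ :=
            mul_right_cancel (congrArg Subtype.val e)
          refine Subtype.ext (inv_mul_eq_one.1 (h.eq_one_of_comm
            (mem_tx.1 (mul_mem (inv_mem t'.2) t.2)).1 (g := a) (fun e => hy1 e) ?_)).symm
          calc a * ((t' : G)⁻¹ * t) = (t' : G)⁻¹ * ((t' : G) * a * (t' : G)⁻¹) * t := by group
            _ = (t' : G)⁻¹ * ((t : G) * a * (t : G)⁻¹) * t := by rw [e']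
            _ = (t' : G)⁻¹ * t * a := by group
        have hb' : b ∈ tx A x (fixedBy X b) := mem_tx.2 ⟨hb.1, fun z hz => hz⟩
        obtain ⟨t, e⟩ := (hinj.bijective_of_nat_card_le
          (le_of_eq (h.card_tx_eq h2 h2 (h.smul_self hb.1) hy2))).2 ⟨b, hb'⟩
        have e' : (t : G) * a * (t : G)⁻¹ * a⁻¹ = b := congrArg Subtype.val e
        have e'' : a * b = (t : G) * a * (t : G)⁻¹ := by
          calc a * b = b * a := h.comm x a ha.1 b hb.1
            _ = (t : G) * a * (t : G)⁻¹ * a⁻¹ * a := congrArg (· * a) e'.symm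
            _ = (t : G) * a * (t : G)⁻¹ := inv_mul_cancel_right _ _
        rw [e'', Pre.fixedBy_conj]
        exact h.isAxis_smul h1 _ }
  have hB1 : B ≠ ⊥ := by
    obtain ⟨y, hxy⟩ : ∃ y, x ≠ y := by
      by_contra hne
      push Not at hne
      exact ha1 (h.eq_one_of_fix fun z => by rw [← hne z]; exact h.smul_self ha)
    obtain ⟨H, hH⟩ := h.exists_axis hxy
    obtain ⟨⟨u, e, he, he1, rfl⟩, -⟩ := id hH
    obtain ⟨g, hg⟩ : ∃ g : G, g • u = x := by
      rcases eq_or_ne u x with rfl | hux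
      · exact ⟨1, one_smul _ _⟩
      · obtain ⟨g, hg, -⟩ := h.exists_move hux hux.symm
        exact ⟨g, hg⟩
    intro hbot
    have hm : g * e * g⁻¹ ∈ B := ⟨hg ▸ h.conj g u e he, Or.inr (by
      rw [Pre.fixedBy_conj]; exact h.isAxis_smul hH g)⟩
    rw [hbot, mem_bot, conj_eq_one_iff] at hm
    exact he1 hm
  have hBA := h.irr x B (fun c hc => hc.1) hB1 fun g hg c hc =>
    ⟨by have := h.conj g x c hc.1; rwa [hg] at this, hc.2.imp (fun e => by rw [e, mul_one, mul_inv_cancel])
      fun e => by rw [Pre.fixedBy_conj]; exact h.isAxis_smul e g⟩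
  exact ((hBA.symm ▸ ha : a ∈ B) : a ∈ A x ∧ _).2.resolve_left ha1

theorem mem_line_iff (h : Ctx G X p A) {x y z : X} (hxy : x ≠ y) :
    z ∈ line A x y ↔ ∀ w ∈ A x, w • y = y → w • z = z := by
  constructor
  · intro hz w hw hwy
    rcases eq_or_ne w 1 with rfl | hw1
    · rw [one_smul]
    exact hz (fixedBy X w) (h.isAxis_fix hw hw1) (h.smul_self hw) hwy
  · intro hz H hH hx hy
    obtain ⟨e, he, he1⟩ := h.exists_tx hH hx
    rw [← h.fixedBy_eq hH he he1]
    exact hz e (mem_tx.1 he).1 ((mem_tx.1 he).2 y hy)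

theorem line_smul (h : Ctx G X p A) (g : G) (x y : X) :
    g • line A x y = line A (g • x) (g • y) := by
  ext z
  rw [Set.mem_smul_set_iff_inv_smul_mem]
  constructor
  · intro hz H hH hx hy
    have := hz _ (h.isAxis_smul hH g⁻¹)
      (by rw [Set.mem_smul_set_iff_inv_smul_mem, inv_inv]; exact hx)
      (by rw [Set.mem_smul_set_iff_inv_smul_mem, inv_inv]; exact hy)
    rwa [Set.smul_mem_smul_set_iff] at this
  · intro hz H hH hx hy
    rw [← Set.mem_smul_set_iff_inv_smul_mem]
    exact hz _ (h.isAxis_smul hH g) (Set.smul_mem_smul_set hx) (Set.smul_mem_smul_set hy)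

theorem card_line_eq (h : Ctx G X p A) {x y u v : X} (hxy : x ≠ y) (huv : u ≠ v) :
    (line A x y).ncard = (line A u v).ncard := by
  obtain ⟨g, rfl, rfl⟩ := h.exists_move hxy huv
  rw [← h.line_smul, Set.ncard_smul_set]

/-- Two points determine their line. -/
theorem line_eq (h : Ctx G X p A) {x y u v : X} (hxy : x ≠ y) (huv : u ≠ v)
    (hu : u ∈ line A x y) (hv : v ∈ line A x y) : line A u v = line A x y := by
  haveI := h.finX
  exact Set.eq_of_subset_of_ncard_le
    (fun z hz H hH hx hy => hz H hH (hu H hH hx hy) (hv H hH hx hy)) (h.card_line_eq hxy huv).le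

theorem smul_mem_line (h : Ctx G X p A) {x y z : X} {b : G} (hb : b ∈ A x) (hxy : x ≠ y)
    (hz : z ∈ line A x y) : b • z ∈ line A x y :=
  (h.mem_line_iff hxy).2 fun w hw hwy => by
    rw [← mul_smul, h.comm x w hw b hb, mul_smul, (h.mem_line_iff hxy).1 hz w hw hwy]

/-- `A x` stabilises the axes through `x`. -/
theorem smul_mem_axis (h : Ctx G X p A) {H : Set X} (hH : IsAxis A H) {x z : X} {b : G}
    (hb : b ∈ A x) (hx : x ∈ H) (hz : z ∈ H) : b • z ∈ H := by
  rcases eq_or_ne x z with rfl | hxz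
  · rwa [h.smul_self hb]
  exact line_subset hH hx hz (h.smul_mem_line hb hxz (right_mem_line x z))

theorem smul_axis (h : Ctx G X p A) {H : Set X} (hH : IsAxis A H) {x : X} {b : G}
    (hb : b ∈ A x) (hx : x ∈ H) : b • H = H := by
  haveI := h.finX
  refine Set.eq_of_subset_of_ncard_le ?_ (by rw [Set.ncard_smul_set])
  rintro _ ⟨z, hz, rfl⟩
  exact h.smul_mem_axis hH hb hx hz

end Ctx

end Cfsg.Agent.Lib.ONan36
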