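import Cfsg.Agent.Lib.ONan36.Field

/-!
# O'Nan: the points as a projective space

`pm` sends a non-zero vector of `Fin (m + 1) → F` to a point; coordinate `0` vanishes on the axis.
-/

set_option autoImplicit false
set_option linter.style.haveILetI false

namespace Cfsg.Agent.Lib.ONan36

open MulAction Subgroup Pointwise

universe u v

variable {G : Type u} {X : Type v} [Group G] [MulAction G X] {p : ℕ} {A : X → Subgroup G}

/-- A context together with coordinates. -/
structure Space (G : Type u) (X : Type v) [Group G] [MulAction G X] (p : ℕ)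
    (A : X → Subgroup G) (F : Type) [Field F] where
  ctx : Ctx G X p A
  axisSet : Set X
  base : X
  dim : ℕ
  pt : Fin dim → X
  axis : IsAxis A axisSet
  basis : Basis A axisSet base pt
  chart : Chart A axisSet base pt F

namespace Space

variable {F : Type} [Field F] (S : Space G X p A F)

/-- The translations. -/
abbrev vec : (Fin S.dim → F) → G := S.chart.vec

theorem vec_add (v w : Fin S.dim → F) : S.vec (v + w) = S.vec v * S.vec w := S.chart.map_add v w

theorem vec_zero : S.vec 0 = 1 := by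
  have e := S.vec_add 0 0
  rw [add_zero] at e
  exact mul_left_cancel (a := S.vec 0) (by rw [mul_one, ← e])

theorem vec_ne_one {v : Fin S.dim → F} (hv : v ≠ 0) : S.vec v ≠ 1 := fun e =>
  hv (S.chart.injective (e.trans S.vec_zero.symm))

theorem ext_tail {n : ℕ} {r s : Fin (n + 1) → F} (h0 : r 0 = s 0)
    (h1 : Fin.tail r = Fin.tail s) : r = s := by
  rw [← Fin.cons_self_tail r, ← Fin.cons_self_tail s, h0, h1]

theorem tail_add {n : ℕ} (r s : Fin (n + 1) → F) : Fin.tail (r + s) = Fin.tail r + Fin.tail s := rfl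

theorem tail_smul {n : ℕ} (c : F) (r : Fin (n + 1) → F) : Fin.tail (c • r) = c • Fin.tail r := rfl

theorem tail_ne_zero {n : ℕ} {r : Fin (n + 1) → F} (hr : r ≠ 0) (h0 : r 0 = 0) :
    Fin.tail r ≠ 0 := fun e => hr (ext_tail h0 e)

theorem cons_ne_zero_of_tail {n : ℕ} (s : F) {v : Fin n → F} (hv : v ≠ 0) :
    (Fin.cons s v : Fin (n + 1) → F) ≠ 0 := fun e => hv (by
  have := congrArg Fin.tail e
  rwa [Fin.tail_cons] at this)

theorem cons_ne_zero_of_head {n : ℕ} {s : F} (hs : s ≠ 0) (v : Fin n → F) :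
    (Fin.cons s v : Fin (n + 1) → F) ≠ 0 := fun e => hs (by
  have := congrFun e 0
  rwa [Fin.cons_zero] at this)

variable [Finite G]

/-- The image of a shear. -/
theorem good_shear {v : Fin S.dim → F} {j k : Fin S.dim} (hjk : j ≠ k) (c : F)
    (hv : ∃ u ∈ S.axisSet, ∀ w, S.vec w ∈ tx A u S.axisSet ↔ ∃ d : F, w = d • v) :
    ∃ u ∈ S.axisSet, ∀ w, S.vec w ∈ tx A u S.axisSet ↔
      ∃ d : F, w = d • (v + Pi.single k (c * v j)) := by
  obtain ⟨u, hu, huv⟩ := hv
  obtain ⟨b, hb, hbv'⟩ := S.chart.shear j k hjk c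
  have hbv : ∀ v, b * S.vec v * b⁻¹ = S.vec (v + Pi.single k (c * v j)) := hbv'
  have hbA := (Ctx.mem_dd.1 hb).1
  refine ⟨b • u, S.ctx.smul_mem_axis S.axis hbA (S.basis.mem k) hu, fun w => ?_⟩
  set w' := w + Pi.single k (-(c * w j)) with hw'
  have hw'j : w' j = w j := by simp [hw', Pi.single_eq_of_ne hjk]
  have hww : w = w' + Pi.single k (c * w' j) := by
    rw [hw'j, hw', add_assoc, ← Pi.single_add, neg_add_cancel, Pi.single_zero, add_zero]
  have hH' := S.ctx.smul_axis S.axis hbA (S.basis.mem k)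
  have e : S.vec w ∈ tx A (b • u) S.axisSet ↔ S.vec w' ∈ tx A u S.axisSet := by
    constructor
    · intro hm
      have := S.ctx.tx_conj (g := b⁻¹) (by
        conv_lhs => rw [← hH']
        rw [inv_smul_smul]) hm
      rw [inv_smul_smul, hww, ← hbv w', inv_inv] at this
      convert this using 1
      show S.chart.vec w' = _
      group
    · intro hm
      have := S.ctx.tx_conj hH' hm
      rwa [hbv w', ← hww] at this
  rw [e, huv]
  constructor
  · rintro ⟨d, hd⟩
    refine ⟨d, ?_⟩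
    rw [hww, hd, smul_add, ← Pi.single_smul']
    simp [mul_left_comm]
  · rintro ⟨d, hd⟩
    refine ⟨d, ?_⟩
    rw [hw', hd]
    simp only [Pi.add_apply, Pi.smul_apply, smul_eq_mul, Pi.single_eq_of_ne hjk, add_zero,
      smul_add, add_assoc]
    rw [← Pi.single_smul', ← Pi.single_add]
    simp [mul_left_comm]

/-- Every line of coordinates is the axial subgroup of one point. -/
theorem exists_dir {v : Fin S.dim → F} (hv : v ≠ 0) :
    ∃ u ∈ S.axisSet, ∀ w, S.vec w ∈ tx A u S.axisSet ↔ ∃ d : F, w = d • v := by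
  classical
  obtain ⟨j, hj⟩ := Function.ne_iff.1 hv
  rw [Pi.zero_apply] at hj
  suffices H : ∀ s : Finset (Fin S.dim), ∃ u ∈ S.axisSet, ∀ w, S.vec w ∈ tx A u S.axisSet ↔
      ∃ d : F, w = d • (fun i => if i = j ∨ i ∈ s then v i else 0) by
    simpa using H Finset.univ
  intro s
  induction s using Finset.induction_on with
  | empty =>
    refine ⟨S.pt j, S.basis.mem j, fun w => (S.chart.point j w).trans ⟨fun hw => ⟨w j / v j, ?_⟩, ?_⟩⟩
    · funext i
      rcases eq_or_ne i j with rfl | hij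
      · simp [hj]
      · simp [hij, hw i hij]
    · rintro ⟨d, rfl⟩ i hi
      simp [hi]
  | insert k s hk ih =>
    rcases eq_or_ne k j with rfl | hkj
    · convert ih using 8 with u w d
      funext i
      by_cases h1 : i = k <;> simp [h1]
    · have := S.good_shear hkj.symm (v k / v j) ih
      convert this using 8 with u w d
      funext i
      rcases eq_or_ne i k with rfl | hik
      · simp [hkj, hk, div_mul_cancel₀ _ hj]
      · simp [hik, Pi.single_eq_of_ne hik]

open Classical in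
/-- The point of the axis of a vector. -/
noncomputable def dir (v : Fin S.dim → F) : X :=
  if hv : v ≠ 0 then (S.exists_dir hv).choose else S.base

theorem dir_mem {v : Fin S.dim → F} (hv : v ≠ 0) : S.dir v ∈ S.axisSet := by
  rw [dir, dif_pos hv]
  exact (S.exists_dir hv).choose_spec.1

theorem dir_iff {v : Fin S.dim → F} (hv : v ≠ 0) (w : Fin S.dim → F) :
    S.vec w ∈ tx A (S.dir v) S.axisSet ↔ ∃ d : F, w = d • v := by
  rw [dir, dif_pos hv]
  exact (S.exists_dir hv).choose_spec.2 w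

theorem dir_eq {v : Fin S.dim → F} (hv : v ≠ 0) {u : X}
    (h : S.vec v ∈ tx A u S.axisSet) : S.dir v = u := by
  by_contra hne
  exact S.vec_ne_one hv
    (S.ctx.tx_disjoint hne ((S.dir_iff hv v).2 ⟨1, (one_smul F v).symm⟩) h)

theorem dir_smul {v : Fin S.dim → F} (hv : v ≠ 0) {c : F} (hc : c ≠ 0) :
    S.dir (c • v) = S.dir v :=
  S.dir_eq (smul_ne_zero hc hv) ((S.dir_iff hv _).2 ⟨c, rfl⟩)

open Classical in
/-- The point of a vector. -/
noncomputable def pm (r : Fin (S.dim + 1) → F) : X :=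
  if r 0 = 0 then S.dir (Fin.tail r) else S.vec ((r 0)⁻¹ • Fin.tail r) • S.base

theorem pm_fin {r : Fin (S.dim + 1) → F} (h : r 0 ≠ 0) :
    S.pm r = S.vec ((r 0)⁻¹ • Fin.tail r) • S.base := by rw [pm, if_neg h]

theorem pm_inf {r : Fin (S.dim + 1) → F} (h : r 0 = 0) : S.pm r = S.dir (Fin.tail r) := by
  rw [pm, if_pos h]

theorem pm_cons_zero (v : Fin S.dim → F) : S.pm (Fin.cons 0 v) = S.dir v := by
  rw [S.pm_inf (Fin.cons_zero _ _), Fin.tail_cons]

theorem pm_cons_one (v : Fin S.dim → F) : S.pm (Fin.cons 1 v) = S.vec v • S.base := by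
  rw [S.pm_fin (by rw [Fin.cons_zero]; exact one_ne_zero), Fin.cons_zero, Fin.tail_cons, inv_one,
    one_smul]

theorem pm_base : S.pm (Fin.cons 1 0) = S.base := by rw [pm_cons_one, vec_zero, one_smul]

theorem pm_mem_iff {r : Fin (S.dim + 1) → F} (hr : r ≠ 0) : S.pm r ∈ S.axisSet ↔ r 0 = 0 := by
  constructor
  · intro hm
    by_contra h0
    rw [S.pm_fin h0] at hm
    exact S.ctx.smul_notMem (S.chart.mem _) S.basis.notMem hm
  · intro h0
    rw [S.pm_inf h0]
    exact S.dir_mem (tail_ne_zero hr h0)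

theorem pm_smul {r : Fin (S.dim + 1) → F} (hr : r ≠ 0) {c : F} (hc : c ≠ 0) :
    S.pm (c • r) = S.pm r := by
  by_cases h0 : r 0 = 0
  · rw [S.pm_inf h0, S.pm_inf (by simp [h0]), tail_smul, S.dir_smul (tail_ne_zero hr h0) hc]
  · rw [S.pm_fin h0, S.pm_fin (by simp [h0, hc]), tail_smul, Pi.smul_apply, smul_eq_mul, smul_smul,
      mul_inv, mul_right_comm, inv_mul_cancel₀ hc, one_mul]

theorem pm_eq_iff {r s : Fin (S.dim + 1) → F} (hr : r ≠ 0) (hs : s ≠ 0) :
    S.pm r = S.pm s ↔ ∃ c : F, c ≠ 0 ∧ s = c • r := by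
  refine ⟨fun e => ?_, fun ⟨c, hc, e⟩ => by rw [e, S.pm_smul hr hc]⟩
  have h0 : r 0 = 0 ↔ s 0 = 0 := by rw [← S.pm_mem_iff hr, ← S.pm_mem_iff hs, e]
  by_cases hr0 : r 0 = 0
  · have hs0 := h0.1 hr0
    rw [S.pm_inf hr0, S.pm_inf hs0] at e
    have hm := (S.dir_iff (tail_ne_zero hs hs0) (Fin.tail s)).2 ⟨1, (one_smul F _).symm⟩
    rw [← e, S.dir_iff (tail_ne_zero hr hr0)] at hm
    obtain ⟨c, hc⟩ := hm
    refine ⟨c, fun c0 => tail_ne_zero hs hs0 (by rw [hc, c0, zero_smul]), ext_tail ?_ hc⟩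
    simp [hr0, hs0]
  · have hs0 : s 0 ≠ 0 := fun e' => hr0 (h0.2 e')
    rw [S.pm_fin hr0, S.pm_fin hs0] at e
    have h1 := S.ctx.trans_semiregular S.axis (mul_mem (inv_mem (S.chart.mem _)) (S.chart.mem _))
      S.basis.notMem (t := (S.vec ((s 0)⁻¹ • Fin.tail s))⁻¹ * S.vec ((r 0)⁻¹ • Fin.tail r))
      (by rw [mul_smul, e, inv_smul_smul])
    have h2 := S.chart.injective (inv_mul_eq_one.1 h1)
    refine ⟨s 0 / r 0, div_ne_zero hs0 hr0, ext_tail ?_ ?_⟩
    · simp [hr0]
    · rw [tail_smul, div_eq_mul_inv, mul_smul, ← h2, smul_smul, mul_inv_cancel₀ hs0, one_smul]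

theorem pm_surj (x : X) : ∃ r : Fin (S.dim + 1) → F, r ≠ 0 ∧ S.pm r = x := by
  by_cases hx : x ∈ S.axisSet
  · obtain ⟨t, ht, ht1⟩ := S.ctx.exists_tx S.axis hx
    obtain ⟨v, rfl⟩ := S.chart.surj t (Ctx.tx_le_trans hx ht)
    have hv : v ≠ 0 := fun e => ht1 (by rw [e]; exact S.vec_zero)
    exact ⟨Fin.cons 0 v, cons_ne_zero_of_tail 0 hv, by rw [pm_cons_zero, S.dir_eq hv ht]⟩
  · obtain ⟨u, hu, a, ha, rfl⟩ := S.ctx.exists_translate S.axis S.basis.notMem hx
    obtain ⟨v, rfl⟩ := S.chart.surj a (Ctx.tx_le_trans hu ha)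
    exact ⟨Fin.cons 1 v, cons_ne_zero_of_head one_ne_zero v, S.pm_cons_one v⟩

/-- The translations are transvections. -/
theorem vec_smul_pm (a : Fin S.dim → F) (r : Fin (S.dim + 1) → F) (hr : r ≠ 0) :
    S.vec a • S.pm r = S.pm (Fin.cons (r 0) (Fin.tail r + r 0 • a)) := by
  by_cases h0 : r 0 = 0
  · rw [h0, zero_smul, add_zero, pm_cons_zero, S.pm_inf h0]
    exact Ctx.trans_fix (S.chart.mem a) (S.dir_mem (tail_ne_zero hr h0))
  · rw [S.pm_fin h0, S.pm_fin (by rw [Fin.cons_zero]; exact h0), Fin.cons_zero, Fin.tail_cons,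
      smul_add, smul_smul ((r 0)⁻¹) (r 0) a, inv_mul_cancel₀ h0, one_smul, vec_add, ← mul_smul,
      S.ctx.trans_comm (S.chart.mem a) (S.chart.mem _)]

/-- The shears are transvections. -/
theorem exists_shear {j k : Fin S.dim} (hjk : j ≠ k) (c : F) :
    ∃ b : G, ∀ r : Fin (S.dim + 1) → F, r ≠ 0 →
      b • S.pm r = S.pm (Fin.cons (r 0) (Fin.tail r + Pi.single k (c * Fin.tail r j))) := by
  obtain ⟨b, hb, hbv⟩ := S.chart.shear j k hjk c
  obtain ⟨hbA, hbz, -⟩ := Ctx.mem_dd.1 hb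
  refine ⟨b, fun r hr => ?_⟩
  by_cases h0 : r 0 = 0
  · have hv := tail_ne_zero hr h0
    have hm := S.ctx.tx_conj (S.ctx.smul_axis S.axis hbA (S.basis.mem k))
      ((S.dir_iff hv (Fin.tail r)).2 ⟨1, (one_smul F _).symm⟩)
    rw [hbv] at hm
    rw [h0, pm_cons_zero, S.pm_inf h0]
    refine (S.dir_eq (fun e => hv ?_) hm).symm
    have ej : Fin.tail r j = 0 := by simpa [Pi.single_eq_of_ne hjk] using congrFun e j
    rwa [ej, mul_zero, Pi.single_zero, add_zero] at e
  · rw [S.pm_fin h0, S.pm_fin (by rw [Fin.cons_zero]; exact h0), Fin.cons_zero, Fin.tail_cons,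
      smul_add, ← Pi.single_smul', smul_eq_mul, mul_left_comm]
    have e := hbv ((r 0)⁻¹ • Fin.tail r)
    rw [Pi.smul_apply, smul_eq_mul] at e
    show b • S.chart.vec _ • S.base = S.chart.vec _ • S.base
    rw [← e, mul_smul, mul_smul, S.ctx.inv_smul_of hbz]

/-! ## Lines -/

theorem mem_line_base {v : Fin S.dim → F} (hv : v ≠ 0) {x : X} :
    x ∈ line A S.base (S.dir v) ↔ x = S.dir v ∨ ∃ c : F, x = S.vec (c • v) • S.base := by
  have hne : S.dir v ≠ S.base := fun e => S.basis.notMem (e ▸ S.dir_mem hv)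
  rw [line_comm]
  constructor
  · intro hx
    rcases eq_or_ne x (S.dir v) with e | e
    · exact Or.inl e
    · obtain ⟨a, ha, rfl⟩ := (S.ctx.params S.axis (S.dir_mem hv) S.basis.notMem).2.1 x hx e
      obtain ⟨w, rfl⟩ := S.chart.surj a (Ctx.tx_le_trans (S.dir_mem hv) ha)
      obtain ⟨c, rfl⟩ := (S.dir_iff hv w).1 ha
      exact Or.inr ⟨c, rfl⟩
  · rintro (rfl | ⟨c, rfl⟩)
    · exact left_mem_line _ _
    · exact S.ctx.smul_mem_line_of_off (mem_tx.1 ((S.dir_iff hv _).2 ⟨c, rfl⟩)).1 hne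

/-- A line through a point off the axis is the image of a plane. -/
theorem mem_line {r s : Fin (S.dim + 1) → F} (hr0 : r 0 ≠ 0) (hs : s ≠ 0)
    (hne : S.pm r ≠ S.pm s) {x : X} :
    x ∈ line A (S.pm r) (S.pm s) ↔
      ∃ t : Fin (S.dim + 1) → F, t ≠ 0 ∧ (∃ α β : F, t = α • r + β • s) ∧ S.pm t = x := by
  have hr : r ≠ 0 := fun e => hr0 (by rw [e]; rfl)
  set a := (r 0)⁻¹ • Fin.tail r with ha
  set v := Fin.tail s - s 0 • a with hv
  set s' : Fin (S.dim + 1) → F := Fin.cons (s 0) v with hs'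
  clear_value a v s'
  have htr : Fin.tail r = r 0 • a := by rw [ha, smul_smul, mul_inv_cancel₀ hr0, one_smul]
  have hts : Fin.tail s = v + s 0 • a := by rw [hv, sub_add_cancel]
  have hv0 : v ≠ 0 := by
    intro e
    rw [e, zero_add] at hts
    have e' : s = (s 0 / r 0) • r := ext_tail (by simp [hr0]) (by
      rw [tail_smul, htr, smul_smul, div_mul_cancel₀ _ hr0, hts])
    refine hne ((S.pm_eq_iff hr hs).2 ⟨s 0 / r 0, fun h => hs ?_, e'⟩)
    rw [e', h, zero_smul]
  have hs'0 : s' ≠ 0 := hs' ▸ cons_ne_zero_of_tail _ hv0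
  have e1 : S.vec a • S.base = S.pm r := by rw [S.pm_fin hr0, ← ha]
  have e2 : S.vec a • S.pm s' = S.pm s := by
    rw [S.vec_smul_pm a s' hs'0]
    congr 1
    rw [hs', Fin.cons_zero, Fin.tail_cons, ← hts, Fin.cons_self_tail]
  have hzs : S.base ≠ S.pm s' := fun e => hne (by rw [← e1, ← e2, ← e])
  have hl : line A S.base (S.pm s') = line A S.base (S.dir v) := by
    refine S.ctx.line_eq (fun e => S.basis.notMem (e ▸ S.dir_mem hv0)) hzs (left_mem_line _ _) ?_
    rw [S.mem_line_base hv0]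
    by_cases h0 : s 0 = 0
    · left
      rw [hs', h0, pm_cons_zero]
    · right
      exact ⟨(s 0)⁻¹, by rw [S.pm_fin (by rw [hs', Fin.cons_zero]; exact h0), hs', Fin.cons_zero,
        Fin.tail_cons]⟩
  rw [← e1, ← e2, ← S.ctx.line_smul, Set.mem_smul_set_iff_inv_smul_mem, hl, S.mem_line_base hv0,
    inv_smul_eq_iff]
  constructor
  · rintro (rfl | ⟨c, hc⟩)
    · refine ⟨Fin.cons 0 v, cons_ne_zero_of_tail 0 hv0, ⟨-(s 0 / r 0), 1, ?_⟩, ?_⟩
      · refine ext_tail (by simp [hr0]) ?_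
        rw [Fin.tail_cons, tail_add, tail_smul, tail_smul, htr, hts, one_smul, smul_smul, neg_mul,
          div_mul_cancel₀ _ hr0, neg_smul]
        abel
      · rw [pm_cons_zero]
        exact (Ctx.trans_fix (S.chart.mem a) (S.dir_mem hv0)).symm
    · rw [inv_smul_eq_iff, ← mul_smul, ← vec_add, ← pm_cons_one] at hc
      refine ⟨Fin.cons 1 (a + c • v), cons_ne_zero_of_head one_ne_zero _,
        ⟨(1 - c * s 0) / r 0, c, ?_⟩, hc.symm⟩
      refine ext_tail (by simp [hr0]) ?_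
      rw [Fin.tail_cons, tail_add, tail_smul, tail_smul, htr, hts, smul_add, smul_smul, smul_smul,
        div_mul_cancel₀ _ hr0, sub_smul, one_smul]
      abel
  · rintro ⟨t, ht, ⟨α, β, rfl⟩, rfl⟩
    have e3 : Fin.tail (α • r + β • s) = β • v + (α • r + β • s) 0 • a := by
      rw [tail_add, tail_smul, tail_smul, htr, hts, Pi.add_apply, Pi.smul_apply, Pi.smul_apply,
        smul_eq_mul, smul_eq_mul, smul_add, smul_smul, smul_smul, add_smul]
      abel
    set t := α • r + β • s with htdef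
    by_cases h0 : t 0 = 0
    · left
      rw [h0, zero_smul, add_zero] at e3
      have hβ : β ≠ 0 := fun e => tail_ne_zero ht h0 (by rw [e3, e, zero_smul])
      rw [S.pm_inf h0, e3, S.dir_smul hv0 hβ]
      exact (Ctx.trans_fix (S.chart.mem a) (S.dir_mem hv0)).symm
    · right
      refine ⟨(t 0)⁻¹ * β, ?_⟩
      rw [inv_smul_eq_iff, ← mul_smul, ← vec_add, S.pm_fin h0, e3, smul_add, smul_smul, smul_smul,
        inv_mul_cancel₀ h0, one_smul, add_comm]

end Space

end Cfsg.Agent.Lib.ONan36
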