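import Cfsg.Agent.Lib.ONan36.Count

/-!
# O'Nan: lines have `r + 1` points and meet every axis; the translations of an axis
-/

set_option autoImplicit false
set_option linter.style.haveILetI false

namespace Cfsg.Agent.Lib.ONan36

open MulAction Subgroup Pointwise

universe u v

variable {G : Type u} {X : Type v} [Group G] [MulAction G X] {p : ℕ} {A : X → Subgroup G}
  [Finite G]

namespace Ctx

/-- The lines through `z` split the other points. -/
theorem exists_lines (h : Ctx G X p A) (z : X) {x y : X} (hxy : x ≠ y) :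
    ∃ 𝒞 : Set (Set X), 𝒞.Finite ∧ (∀ u, u ≠ z → line A z u ∈ 𝒞) ∧
      (∀ L ∈ 𝒞, ∃ u, u ≠ z ∧ line A z u = L) ∧
      𝒞.ncard * ((line A x y).ncard - 1) = Nat.card X - 1 := by
  classical
  haveI := h.finX
  haveI := Fintype.ofFinite X
  let S : Finset X := Finset.univ.erase z
  refine ⟨↑(S.image fun u => line A z u), Finset.finite_toSet _, fun u hu => ?_, fun L hL => ?_, ?_⟩
  · exact Finset.mem_coe.2 (Finset.mem_image_of_mem _ (by simp [S, hu]))
  · obtain ⟨u, hu, rfl⟩ := Finset.mem_image.1 (Finset.mem_coe.1 hL)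
    exact ⟨u, Finset.ne_of_mem_erase hu, rfl⟩
  · rw [Set.ncard_coe_finset, Nat.card_eq_fintype_card, ← Finset.card_univ,
      ← Finset.card_erase_of_mem (Finset.mem_univ z)]
    rw [Finset.card_eq_sum_card_image (fun u => line A z u) S]
    refine (Finset.sum_const_nat fun L hL => ?_).symm
    obtain ⟨u, hu, rfl⟩ := Finset.mem_image.1 hL
    have hzu : z ≠ u := (Finset.ne_of_mem_erase hu).symm
    rw [h.card_line_eq hxy hzu, Set.ncard_eq_toFinset_card',
      ← Finset.card_erase_of_mem (a := z) (by simp [left_mem_line])]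
    congr 1
    ext v
    simp only [S, Finset.mem_filter, Finset.mem_erase, Finset.mem_univ, Set.mem_toFinset]
    constructor
    · rintro ⟨⟨hv, -⟩, e⟩
      exact ⟨hv, e ▸ right_mem_line z v⟩
    · rintro ⟨hv, hm⟩
      exact ⟨⟨hv, trivial⟩, h.line_eq hzu (Ne.symm hv) (left_mem_line z u) hm⟩

theorem eq_of_mem_line (h : Ctx G X p A) {H : Set X} (hH : IsAxis A H) {z u v : X} (hz : z ∉ H)
    (hu : u ∈ H) (hv : v ∈ H) (hvl : v ∈ line A z u) : v = u := by
  by_contra hvu
  have hzu : z ≠ u := fun e => hz (e ▸ hu)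
  have := h.line_eq hzu (Ne.symm hvu) (right_mem_line z u) hvl
  exact hz (line_subset hH hu hv (this.symm ▸ left_mem_line z u))

/-- The parameters. -/
theorem params (h : Ctx G X p A) {H : Set X} (hH : IsAxis A H) {u z : X} (hu : u ∈ H)
    (hz : z ∉ H) :
    Nat.card X - 1 = Nat.card ↥(tx A u H) * H.ncard ∧
      (∀ w, w ∈ line A u z → w ≠ u → ∃ a ∈ tx A u H, a • z = w) ∧
      ∀ v, v ≠ z → ∃ y ∈ H, y ∈ line A z v := by
  haveI := h.finX
  set r := Nat.card ↥(tx A u H)
  set c := (line A u z).ncard - 1 with hc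
  have huz : u ≠ z := fun e => hz (e ▸ hu)
  obtain ⟨𝒞, h𝒞, hmem, hmem', hcard⟩ := h.exists_lines z huz
  rw [← hc] at hcard
  have hNP := h.card_eq hH hu huz
  rw [← hc] at hNP
  -- the orbit of `z`
  let f : ↥(tx A u H) → ↥(line A u z \ {u}) := fun a => ⟨(a : G) • z,
    h.smul_mem_line_of_off (mem_tx.1 a.2).1 huz, fun e => huz (by
      rw [Set.mem_singleton_iff] at e
      have := congrArg ((a : G)⁻¹ • ·) e
      simp only [inv_smul_smul] at this
      rw [this, h.inv_smul_of ((mem_tx.1 a.2).2 u hu)])⟩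
  have hf : Function.Injective f := fun a b e => by
    have e' : (a : G) • z = (b : G) • z := congrArg Subtype.val e
    have := h.tx_inf_stab hH hz (mul_mem (inv_mem b.2) a.2) (by rw [mul_smul, e', inv_smul_smul])
    exact Subtype.ext (inv_mul_eq_one.1 this).symm
  have hlc : Nat.card ↥(line A u z \ {u}) = c := by
    rw [Nat.card_coe_set_eq, Set.ncard_diff_singleton_of_mem (left_mem_line u z)]
  have hrc : r ≤ c := hlc ▸ Nat.card_le_card_of_injective f hf
  have hr : 0 < r := Nat.card_pos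
  have hH1 : 0 < H.ncard := (Set.ncard_pos).2 ⟨u, hu⟩
  have hinj : Set.InjOn (fun y => line A z y) H := fun y hy y' hy' e => by
    dsimp only at e
    exact (h.eq_of_mem_line hH hz hy hy' (e ▸ right_mem_line z y')).symm
  have hsub : (fun y => line A z y) '' H ⊆ 𝒞 := by
    rintro _ ⟨y, hy, rfl⟩
    exact hmem y fun e => hz (e ▸ hy)
  have hle : H.ncard ≤ 𝒞.ncard := by
    rw [← hinj.ncard_image]; exact Set.ncard_le_ncard hsub h𝒞
  have hcr : c = r := by
    refine le_antisymm ?_ hrc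
    have h1 : H.ncard * c ≤ 𝒞.ncard * c := Nat.mul_le_mul_right c hle
    rw [hcard, hNP] at h1
    have h2 : H.ncard * c = (H.ncard - 1) * c + c := by
      conv_lhs => rw [show H.ncard = H.ncard - 1 + 1 by omega]
      rw [Nat.add_mul, one_mul]
    rw [h2, mul_comm r] at h1
    have h3 : (H.ncard - 1) * c ≤ (H.ncard - 1) * r := by omega
    rcases Nat.eq_zero_or_pos (H.ncard - 1) with h0 | h0
    · obtain ⟨e, he, he1⟩ := h.exists_tx hH hu
      obtain ⟨w, hw, hw1, hwz⟩ := h.nsr u z huz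
      have h4 := hH.2 u w hw hw1
      have h5 : ({u, z} : Set X) ⊆ fixedBy X w := by
        rintro v (rfl | rfl)
        · exact h.smul_self hw
        · exact hwz
      have := (Set.ncard_le_ncard h5).trans h4
      rw [Set.ncard_pair huz] at this
      omega
    · exact Nat.le_of_mul_le_mul_left h3 h0
  have hN : Nat.card X - 1 = r * H.ncard := by
    rw [hNP, hcr]
    conv_rhs => rw [show H.ncard = H.ncard - 1 + 1 by omega]
    rw [Nat.mul_add, mul_one]
  refine ⟨hN, fun w hw hwu => ?_, fun v hv => ?_⟩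
  · obtain ⟨a, ha⟩ := (hf.bijective_of_nat_card_le (by rw [hlc, hcr])).2 ⟨w, hw, hwu⟩
    exact ⟨a, a.2, congrArg Subtype.val ha⟩
  · have heq : 𝒞.ncard ≤ ((fun y => line A z y) '' H).ncard := by
      rw [hinj.ncard_image]
      rw [hcr, hN, mul_comm r] at hcard
      exact (Nat.eq_of_mul_eq_mul_right hr hcard).le
    rw [← Set.eq_of_subset_of_ncard_le hsub heq h𝒞] at hmem
    obtain ⟨y, hy, hyv⟩ := hmem v hv
    exact ⟨y, hy, hyv ▸ right_mem_line z y⟩

/-! ## The translations of an axis -/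

/-- The elements with axis `H`, at all its points. -/
def trans (A : X → Subgroup G) (H : Set X) : Subgroup G := ⨆ u ∈ H, tx A u H

omit [Finite G] in
theorem tx_le_trans {H : Set X} {u : X} (hu : u ∈ H) : tx A u H ≤ trans A H :=
  le_iSup₂ (f := fun u (_ : u ∈ H) => tx A u H) u hu

theorem trans_comm (h : Ctx G X p A) {H : Set X} {s t : G} (hs : s ∈ trans A H)
    (ht : t ∈ trans A H) : s * t = t * s := by
  have key : ∀ {u : X}, u ∈ H → ∀ a ∈ tx A u H, trans A H ≤ centralizer {a} := by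
    intro u hu a ha
    refine iSup₂_le fun v hv b hb => ?_
    rw [mem_centralizer_singleton_iff]
    exact (h.comm_of_fix (mem_tx.1 ha).1 (mem_tx.1 hb).1 ((mem_tx.1 ha).2 v hv)
      ((mem_tx.1 hb).2 u hu)).symm
  have h2 : trans A H ≤ centralizer {t} := iSup₂_le fun u hu a ha =>
    mem_centralizer_singleton_iff.2 (mem_centralizer_singleton_iff.1 (key hu a ha ht)).symm
  exact mem_centralizer_singleton_iff.1 (h2 hs)

omit [Finite G] in
theorem trans_fix {H : Set X} {t : G} (ht : t ∈ trans A H) {v : X} (hv : v ∈ H) : t • v = v :=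
  (show trans A H ≤ stabilizer G v from iSup₂_le fun _ _ _ ha => (mem_tx.1 ha).2 v hv) ht

/-- Every point off an axis is reached from any other by exactly one element with that axis. -/
theorem exists_translate (h : Ctx G X p A) {H : Set X} (hH : IsAxis A H) {z w : X} (hz : z ∉ H)
    (hw : w ∉ H) : ∃ u ∈ H, ∃ a ∈ tx A u H, a • z = w := by
  rcases eq_or_ne w z with rfl | hwz
  · obtain ⟨⟨x, a, ha, ha1, e⟩, -⟩ := id hH
    exact ⟨x, e ▸ h.smul_self ha, 1, one_mem _, one_smul _ _⟩
  obtain ⟨⟨x, a, ha, ha1, e⟩, -⟩ := id hH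
  have hx : x ∈ H := e ▸ h.smul_self ha
  obtain ⟨u, hu, hul⟩ := (h.params hH hx hz).2.2 w hwz
  have huz : u ≠ z := fun e => hz (e ▸ hu)
  have hwl : w ∈ line A u z := by
    rw [h.line_eq hwz.symm huz hul (left_mem_line z w)]
    exact right_mem_line z w
  obtain ⟨a, ha, e⟩ := (h.params hH hu hz).2.1 w hwl (fun e => hw (e ▸ hu))
  exact ⟨u, hu, a, ha, e⟩

theorem smul_notMem (_h : Ctx G X p A) {H : Set X} {t : G} (ht : t ∈ trans A H) {z : X}
    (hz : z ∉ H) : t • z ∉ H := fun hm => by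
  have := trans_fix (inv_mem ht) hm
  rw [inv_smul_smul] at this
  exact hz (this ▸ hm)

theorem trans_semiregular (h : Ctx G X p A) {H : Set X} (hH : IsAxis A H) {t : G}
    (ht : t ∈ trans A H) {z : X} (hz : z ∉ H) (htz : t • z = z) : t = 1 := by
  refine h.eq_one_of_fix fun w => ?_
  by_cases hw : w ∈ H
  · exact trans_fix ht hw
  obtain ⟨u, hu, a, ha, rfl⟩ := h.exists_translate hH hz hw
  rw [← mul_smul, h.trans_comm ht (tx_le_trans hu ha), mul_smul, htz]

/-- The translations of an axis are the elements with that axis. -/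
theorem trans_exists_tx (h : Ctx G X p A) {H : Set X} (hH : IsAxis A H) {t : G}
    (ht : t ∈ trans A H) : ∃ u ∈ H, t ∈ tx A u H := by
  obtain ⟨z, hz⟩ := h.exists_notMem hH
  obtain ⟨u, hu, a, ha, e⟩ := h.exists_translate hH hz (h.smul_notMem ht hz)
  refine ⟨u, hu, ?_⟩
  have := h.trans_semiregular hH (mul_mem (inv_mem (tx_le_trans hu ha)) ht) hz
    (by rw [mul_smul, ← e, inv_smul_smul])
  rwa [← inv_mul_eq_one.1 this]

/-- Two axial subgroups at different points meet trivially. -/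
theorem tx_disjoint (h : Ctx G X p A) {H : Set X} {u v : X} (huv : u ≠ v) {a : G}
    (hau : a ∈ tx A u H) (hav : a ∈ tx A v H) : a = 1 :=
  h.disjoint huv (mem_tx.1 hau).1 (mem_tx.1 hav).1

omit [Finite G] in
theorem tx_conj (h : Ctx G X p A) {H : Set X} {g : G} (hg : g • H = H) {u : X} {a : G}
    (ha : a ∈ tx A u H) : g * a * g⁻¹ ∈ tx A (g • u) H := by
  refine mem_tx.2 ⟨h.conj g u a (mem_tx.1 ha).1, fun z hz => ?_⟩
  rw [← hg] at hz
  obtain ⟨z', hz', rfl⟩ := hz
  show (g * a * g⁻¹) • g • z' = g • z'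
  rw [mul_smul, mul_smul, inv_smul_smul, (mem_tx.1 ha).2 z' hz']

/-- The commutator of an element at `v` with one of the axis at `u` lies at `v` with that axis. -/
theorem commutator_mem_tx (h : Ctx G X p A) {H : Set X} (hH : IsAxis A H) {u v : X} (_hu : u ∈ H)
    (hv : v ∈ H) {b a : G} (hb : b ∈ A v) (ha : a ∈ tx A u H) :
    b * a * b⁻¹ * a⁻¹ ∈ tx A v H := by
  refine mem_tx.2 ⟨?_, fun z hz => ?_⟩
  · have h0 := h.conj a v b⁻¹ (inv_mem hb)
    rw [(mem_tx.1 ha).2 v hv] at h0
    convert mul_mem hb h0 using 1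
    group
  · have h1 := h.smul_mem_axis hH (inv_mem hb) hv (hz : z ∈ H)
    rw [mul_smul, mul_smul, mul_smul, h.inv_smul_of ((mem_tx.1 ha).2 z hz), (mem_tx.1 ha).2 _ h1,
      smul_inv_smul]

end Ctx

end Cfsg.Agent.Lib.ONan36
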