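import Cfsg.Agent.Lib.ONan36.Elation
import Cfsg.Agent.Lib.Linear.Simple
import Cfsg.Agent.Lib.FischerMTypes.QuasiExtension
import Cfsg.Prelude.Def_Local

/-!
# O'Nan: the projective special linear group as the generalised Fitting subgroup
-/

set_option autoImplicit false
set_option linter.style.haveILetI false

namespace Cfsg.Agent.Lib.ONan36

open MulAction Subgroup Pointwise
open scoped LinearAlgebra.Projectivization

universe u v

variable {G : Type u} {X : Type v} [Group G] [MulAction G X] {p : ℕ} {A : X → Subgroup G}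

theorem transvection_smul' {F : Type} [Field F] {n : ℕ} {i j : Fin n} (hij : i ≠ j) (c : F)
    (r : Fin n → F) :
    Matrix.SpecialLinearGroup.transvection hij c • r = r + Pi.single i (c * r j) := by
  funext l
  simp [Matrix.SpecialLinearGroup.smul_def, Matrix.SpecialLinearGroup.transvection_coe, add_smul,
    Matrix.single_mulVec_eq, Pi.single_apply]

namespace Space

variable {F : Type} [Field F] (S : Space G X p A F) [Finite G]

/-- `g` realises the linear map `M`. -/
def Realises (M : Matrix.SpecialLinearGroup (Fin (S.dim + 1)) F) (g : G) : Prop :=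
  ∀ r : Fin (S.dim + 1) → F, r ≠ 0 → g • S.pm r = S.pm (M • r)

theorem Realises.unique {M : Matrix.SpecialLinearGroup (Fin (S.dim + 1)) F} {g g' : G}
    (h : S.Realises M g) (h' : S.Realises M g') : g = g' := by
  refine (inv_mul_eq_one.1 (S.ctx.eq_one_of_fix fun x => ?_)).symm
  obtain ⟨r, hr, rfl⟩ := S.pm_surj x
  rw [mul_smul, inv_smul_eq_iff, h r hr, h' r hr]

theorem realises_transvection {i j : Fin (S.dim + 1)} (hij : i ≠ j) (c : F) :
    ∃ g : G, S.Realises (Matrix.SpecialLinearGroup.transvection hij c) g := by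
  rcases Fin.eq_zero_or_eq_succ i with rfl | ⟨k, rfl⟩
  · rcases Fin.eq_zero_or_eq_succ j with rfl | ⟨j, rfl⟩
    · exact absurd rfl hij
    obtain ⟨a, -, ha⟩ := S.exists_elation (Pi.single j c)
    refine ⟨a, fun r hr => ?_⟩
    rw [ha r hr, transvection_smul']
    refine congrArg S.pm (ext_tail ?_ ?_)
    · simp [Pi.single_apply, Fin.tail, mul_comm]
    · funext l
      simp [Fin.tail, Fin.succ_ne_zero]
  · rcases Fin.eq_zero_or_eq_succ j with rfl | ⟨j, rfl⟩
    · refine ⟨S.vec (Pi.single k c), fun r hr => ?_⟩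
      rw [S.vec_smul_pm _ r hr, transvection_smul']
      refine congrArg S.pm (ext_tail ?_ ?_)
      · simp [Fin.succ_ne_zero]
      · funext l
        simp [Fin.tail, Pi.single_apply, mul_comm]
    · obtain ⟨b, hb⟩ := S.exists_shear (j := j) (k := k) (fun e => hij (by rw [e])) c
      refine ⟨b, fun r hr => ?_⟩
      rw [hb r hr, transvection_smul']
      refine congrArg S.pm (ext_tail ?_ ?_)
      · simp [Fin.succ_ne_zero]
      · funext l
        simp [Fin.tail, Pi.single_apply]

theorem exists_realises (M : Matrix.SpecialLinearGroup (Fin (S.dim + 1)) F) :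
    ∃ g : G, S.Realises M g := by
  let K : Subgroup (Matrix.SpecialLinearGroup (Fin (S.dim + 1)) F) :=
    { carrier := {M | ∃ g : G, S.Realises M g}
      one_mem' := ⟨1, fun r _ => by rw [one_smul, one_smul]⟩
      mul_mem' := fun {M N} hM hN => by
        obtain ⟨g, hg⟩ := hM
        obtain ⟨h, hh⟩ := hN
        exact ⟨g * h, fun r hr => by
          rw [mul_smul, mul_smul, hh r hr, hg _ ((smul_ne_zero_iff_ne N).2 hr)]⟩
      inv_mem' := fun {M} hM => by
        obtain ⟨g, hg⟩ := hM
        exact ⟨g⁻¹, fun r hr => by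
          rw [inv_smul_eq_iff, hg _ ((smul_ne_zero_iff_ne M⁻¹).2 hr), smul_inv_smul]⟩ }
  have hK : K = ⊤ := Linear.sl_eq_top_of_transvection_mem K fun i j hij c =>
    S.realises_transvection hij c
  exact (hK ▸ Subgroup.mem_top M : M ∈ K)

/-- The action of the special linear group. -/
noncomputable def toG : Matrix.SpecialLinearGroup (Fin (S.dim + 1)) F →* G :=
  MonoidHom.mk' (fun M => (S.exists_realises M).choose) fun M N =>
    Realises.unique S (S.exists_realises (M * N)).choose_spec fun r hr => by
      rw [mul_smul, mul_smul, (S.exists_realises N).choose_spec r hr,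
        (S.exists_realises M).choose_spec _ ((smul_ne_zero_iff_ne N).2 hr)]

theorem toG_spec (M : Matrix.SpecialLinearGroup (Fin (S.dim + 1)) F)
    {r : Fin (S.dim + 1) → F} (hr : r ≠ 0) : S.toG M • S.pm r = S.pm (M • r) :=
  (S.exists_realises M).choose_spec r hr

theorem ker_toG :
    S.toG.ker = Subgroup.center (Matrix.SpecialLinearGroup (Fin (S.dim + 1)) F) := by
  rw [← Projectivization.SL_mulAction_ker]
  ext M
  simp only [MonoidHom.mem_ker, Equiv.Perm.ext_iff, MulAction.toPermHom_apply,
    MulAction.toPerm_apply, Equiv.Perm.coe_one, id_eq]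
  constructor
  · intro e q
    induction q using Projectivization.ind with
    | _ r hr =>
      have h := S.toG_spec M hr
      rw [e, one_smul] at h
      obtain ⟨c, hc, e'⟩ := (S.pm_eq_iff hr ((smul_ne_zero_iff_ne M).2 hr)).1 h
      rw [Projectivization.smul_mk, Projectivization.mk_eq_mk_iff']
      exact ⟨c, e'.symm⟩
  · intro h
    refine S.ctx.eq_one_of_fix fun x => ?_
    obtain ⟨r, hr, rfl⟩ := S.pm_surj x
    rw [S.toG_spec M hr]
    have h' := h (Projectivization.mk F r hr)
    rw [Projectivization.smul_mk, Projectivization.mk_eq_mk_iff'] at h'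
    obtain ⟨c, hc⟩ := h'
    rw [← hc]
    exact S.pm_smul hr (fun e => (smul_ne_zero_iff_ne M).2 hr (by rw [← hc, e, zero_smul]))

theorem A_le_range (x : X) : A x ≤ S.toG.range := by
  classical
  have hbase : A S.base ≤ S.toG.range := by
    have hs : ∀ s : Finset (Fin S.dim), ∀ l : Fin S.dim → F, (∀ i ∉ s, l i = 0) →
        ∃ g ∈ S.toG.range, ∀ r : Fin (S.dim + 1) → F, r ≠ 0 →
          g • S.pm r = S.pm (Fin.cons (r 0 + ∑ i, Fin.tail r i * l i) (Fin.tail r)) := by
      intro s
      induction s using Finset.induction_on with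
      | empty =>
        intro l hl
        refine ⟨1, one_mem _, fun r _ => ?_⟩
        rw [one_smul, Finset.sum_eq_zero fun i _ => by rw [hl i (Finset.notMem_empty i), mul_zero],
          add_zero, Fin.cons_self_tail]
      | insert k s hk ih =>
        intro l hl
        obtain ⟨g, hg, hgr⟩ := ih (Function.update l k 0) fun i hi => by
          rcases eq_or_ne i k with rfl | hik
          · rw [Function.update_self]
          · rw [Function.update_of_ne hik]
            exact hl i (by simp [hik, hi])
        refine ⟨S.toG (Matrix.SpecialLinearGroup.transvection (Fin.succ_ne_zero k).symm (l k)) * g,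
          mul_mem ⟨_, rfl⟩ hg, fun r hr => ?_⟩
        have hne : (Fin.cons (r 0 + ∑ i, Fin.tail r i * Function.update l k 0 i) (Fin.tail r) :
            Fin (S.dim + 1) → F) ≠ 0 := fun e => by
          have h1 := congrArg Fin.tail e
          rw [Fin.tail_cons] at h1
          have h2 := congrFun e 0
          rw [Fin.cons_zero, show (Fin.tail r) = 0 from h1] at h2
          simp at h2
          exact tail_ne_zero hr h2 h1
        rw [mul_smul, hgr r hr, S.toG_spec _ hne, transvection_smul']
        refine congrArg S.pm (ext_tail ?_ ?_)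
        · have e : ∑ i, Fin.tail r i * l i =
              ∑ i, Fin.tail r i * Function.update l k 0 i + l k * r k.succ := by
            have e' : ∀ i, l i = Function.update l k 0 i + (Pi.single k (l k) : Fin S.dim → F) i := by
              intro i
              rcases eq_or_ne i k with rfl | hik <;> simp [*]
            calc ∑ i, Fin.tail r i * l i
                = ∑ i, (Fin.tail r i * Function.update l k 0 i +
                    Fin.tail r i * (Pi.single k (l k) : Fin S.dim → F) i) :=
                  Finset.sum_congr rfl fun i _ => by rw [← mul_add, ← e']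
              _ = _ := by simp [Finset.sum_add_distrib, Pi.single_apply, Fin.tail, mul_comm]
          simp only [Pi.add_apply, Fin.cons_zero, Pi.single_eq_same, Fin.cons_succ]
          rw [e, add_assoc]
          rfl
        · funext i
          simp [Fin.tail, Fin.succ_ne_zero]
    intro a ha
    obtain ⟨l, hl⟩ := S.exists_functional ha
    obtain ⟨g, hg, hgr⟩ := hs Finset.univ l fun i hi => absurd (Finset.mem_univ i) hi
    suffices e : a = g from e ▸ hg
    refine (inv_mul_eq_one.1 (S.ctx.eq_one_of_fix fun y => ?_)).symm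
    obtain ⟨r, hr, rfl⟩ := S.pm_surj y
    rw [mul_smul, inv_smul_eq_iff, hl r hr, hgr r hr]
  obtain ⟨r, hr, rfl⟩ := S.pm_surj x
  haveI : MulAction.IsPretransitive (Matrix.SpecialLinearGroup (Fin (S.dim + 1)) F)
      (ℙ F (Fin (S.dim + 1) → F)) := MulAction.isPretransitive_of_is_two_pretransitive
  have h1 : (Fin.cons 1 0 : Fin (S.dim + 1) → F) ≠ 0 := cons_ne_zero_of_head one_ne_zero 0
  obtain ⟨M, hM⟩ := MulAction.exists_smul_eq (Matrix.SpecialLinearGroup (Fin (S.dim + 1)) F)
    (Projectivization.mk F _ h1) (Projectivization.mk F r hr)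
  rw [Projectivization.smul_mk, Projectivization.mk_eq_mk_iff] at hM
  obtain ⟨c, hc⟩ := hM
  have e : S.toG M • S.base = S.pm r := by
    rw [← S.pm_base, S.toG_spec M h1, ← hc, Units.smul_def, S.pm_smul hr c.ne_zero]
  intro a ha
  rw [← e] at ha
  have h2 := hbase (x := (S.toG M)⁻¹ * a * S.toG M) (by
    have := S.ctx.conj (S.toG M)⁻¹ _ a ha
    rwa [inv_smul_smul, inv_inv] at this)
  have e2 : a = S.toG M * ((S.toG M)⁻¹ * a * S.toG M) * (S.toG M)⁻¹ := by group
  rw [e2]
  exact mul_mem (mul_mem ⟨M, rfl⟩ h2) (inv_mem ⟨M, rfl⟩)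

/-- The image of the special linear group. -/
noncomputable def rangeEquiv :
    Matrix.ProjectiveSpecialLinearGroup (Fin (S.dim + 1)) F ≃* ↥S.toG.range :=
  (QuotientGroup.quotientMulEquivOfEq S.ker_toG.symm).trans
    (QuotientGroup.quotientKerEquivRange S.toG)

theorem three_le : 3 ≤ S.dim + 1 := by have := S.basis.two; omega

theorem isSimple_range : IsSimpleGroup ↥S.toG.range := by
  haveI : Nontrivial (Fin (S.dim + 1)) := Fin.nontrivial_iff_two_le.2 (by have := S.three_le; omega)
  haveI := Linear.isSimpleGroup_PSL_of_three (F := F) (ι := Fin (S.dim + 1))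
    (by rw [Fintype.card_fin]; exact S.three_le)
  exact S.rangeEquiv.symm.isSimpleGroup

theorem range_normal : S.toG.range.Normal := by
  haveI := S.isSimple_range
  let M₀ : Subgroup G := ⨆ x, A x
  have hM₀ : M₀.Normal := ⟨fun a ha g => by
    induction ha using Subgroup.iSup_induction' with
    | hp i x hx => exact Subgroup.mem_iSup_of_mem (g • i) (S.ctx.conj g i x hx)
    | h1 => simp
    | hmul x y _ _ hx hy =>
      have e : g * (x * y) * g⁻¹ = (g * x * g⁻¹) * (g * y * g⁻¹) := by group
      rw [e]; exact mul_mem hx hy⟩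
  have hle : M₀ ≤ S.toG.range := iSup_le S.A_le_range
  suffices e : M₀ = S.toG.range from e ▸ hM₀
  refine le_antisymm hle ?_
  rcases (hM₀.subgroupOf S.toG.range).eq_bot_or_eq_top with h | h
  · exfalso
    obtain ⟨t, ht, ht1⟩ := S.ctx.exists_tx S.axis (S.basis.mem ⟨0, by have := S.three_le; omega⟩)
    have hm : t ∈ M₀ := Subgroup.mem_iSup_of_mem _ (mem_tx.1 ht).1
    exact ht1 (Subgroup.disjoint_def.1 (Subgroup.subgroupOf_eq_bot.1 h) hm (hle hm))
  · exact Subgroup.subgroupOf_eq_top.1 h

theorem centralizer_range : Subgroup.centralizer (S.toG.range : Set G) = ⊥ := by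
  refine eq_bot_iff.2 fun c hc => Subgroup.mem_bot.2 (S.ctx.eq_one_of_fix fun x => ?_)
  haveI := S.ctx.finX
  obtain ⟨y, hy⟩ : ∃ y : X, x ≠ y := by
    rcases eq_or_ne x S.base with rfl | hx
    · exact ⟨_, fun e => S.basis.notMem
        (e ▸ S.basis.mem ⟨0, by have := S.three_le; omega⟩)⟩
    · exact ⟨_, hx⟩
  obtain ⟨a, ha, ha1, -⟩ := S.ctx.nsr x y hy
  exact S.ctx.cen_fix ha ha1 (Subgroup.mem_centralizer_iff.1 hc a (S.A_le_range x ha)).symm

theorem card_points :
    Nat.card X * (Nat.card F - 1) = Nat.card F ^ (S.dim + 1) - 1 := by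
  let f : ℙ F (Fin (S.dim + 1) → F) → X := fun q => S.pm q.rep
  have hf : Function.Bijective f := by
    refine ⟨fun q q' e => ?_, fun x => ?_⟩
    · obtain ⟨c, -, hc⟩ := (S.pm_eq_iff q.rep_nonzero q'.rep_nonzero).1 e
      rw [← q.mk_rep, ← q'.mk_rep]
      exact ((Projectivization.mk_eq_mk_iff' F _ _ q'.rep_nonzero q.rep_nonzero).2 ⟨c, hc.symm⟩).symm
    · obtain ⟨r, hr, rfl⟩ := S.pm_surj x
      refine ⟨Projectivization.mk F r hr, ?_⟩
      obtain ⟨c, hc⟩ := Projectivization.exists_smul_eq_mk_rep F r hr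
      show S.pm (Projectivization.mk F r hr).rep = _
      rw [← hc, Units.smul_def, S.pm_smul hr c.ne_zero]
  haveI := S.ctx.finX
  have e := (Projectivization.card F (Fin (S.dim + 1) → F)).symm
  rw [Nat.card_congr (Equiv.ofBijective f hf), Nat.card_fun, Nat.card_fin] at e
  exact e

theorem exists_equiv :
    3 ≤ S.dim + 1 ∧ Nonempty (↥(Cfsg.generalizedFittingSubgroup G) ≃*
      Matrix.ProjectiveSpecialLinearGroup (Fin (S.dim + 1)) F) := by
  refine ⟨S.three_le, ?_⟩
  haveI : Nontrivial (Fin (S.dim + 1)) := Fin.nontrivial_iff_two_le.2 (by have := S.three_le; omega)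
  haveI := S.isSimple_range
  haveI := S.range_normal
  have hnc : ¬ IsMulCommutative ↥S.toG.range := fun hc => by
    obtain ⟨a, b, hab⟩ := Linear.exists_not_commute_PSL (F := F) (ι := Fin (S.dim + 1))
      (Linear.commutator_SL_eq_top_of_three (by rw [Fintype.card_fin]; exact S.three_le))
    exact hab (S.rangeEquiv.injective (by rw [map_mul, map_mul, hc.is_comm.comm]))
  rw [FischerMTypes.QuasiExtension.genFitting_eq (K := S.toG.range)
    (Components.Quasisimple.of_isSimpleGroup hnc) (by rw [S.centralizer_range]; exact bot_le)]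
  exact ⟨S.rangeEquiv.symm⟩

end Space

namespace Ctx

theorem exists_psl [Finite G] (h : Ctx G X p A) {x y : X} (hxy : x ≠ y) :
    ∃ (F : Type) (_ : Field F) (_ : Fintype F) (n : ℕ), 3 ≤ n ∧
      Nonempty (↥(Cfsg.generalizedFittingSubgroup G) ≃*
        Matrix.ProjectiveSpecialLinearGroup (Fin n) F) := by
  obtain ⟨H, z, m, pt, hH, hB⟩ := h.exists_frame hxy
  obtain ⟨F, iF, iT, ⟨C⟩⟩ := h.exists_chart hH hB
  exact ⟨F, iF, iT, _, (Space.exists_equiv ⟨h, H, z, m, pt, hH, hB, C⟩)⟩

/-- The projective special linear group as a normal subgroup with trivial centraliser. -/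
theorem exists_psl_normal [Finite G] (h : Ctx G X p A) {x y : X} (hxy : x ≠ y) :
    ∃ (F : Type) (_ : Field F) (_ : Fintype F) (n : ℕ), 3 ≤ n ∧
      Nat.card X * (Fintype.card F - 1) = Fintype.card F ^ n - 1 ∧
      ∃ L : Subgroup G, L.Normal ∧ Subgroup.centralizer (L : Set G) = ⊥ ∧
        Nonempty (↥L ≃* Matrix.ProjectiveSpecialLinearGroup (Fin n) F) := by
  obtain ⟨H, z, m, pt, hH, hB⟩ := h.exists_frame hxy
  obtain ⟨F, iF, iT, ⟨C⟩⟩ := h.exists_chart hH hB
  let S : Space G X p A F := ⟨h, H, z, m, pt, hH, hB, C⟩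
  exact ⟨F, iF, iT, _, S.three_le, by simpa [Nat.card_eq_fintype_card] using S.card_points,
    S.toG.range, S.range_normal, S.centralizer_range, ⟨S.rangeEquiv.symm⟩⟩

end Ctx

end Cfsg.Agent.Lib.ONan36
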