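import Cfsg.Agent.Lib.ONan36.Axes

/-!
# O'Nan: from an abelian normal subgroup of a point stabiliser to the context
-/

set_option autoImplicit false
set_option linter.style.haveILetI false

namespace Cfsg.Agent.Lib.ONan36

open MulAction Subgroup

universe u v

variable {G : Type u} {X : Type v} [Group G] [MulAction G X]

/-- The copies at all points of a subgroup at `x`. -/
def copies (γ : X → G) (B : Subgroup G) (z : X) : Subgroup G :=
  B.map (MulAut.conj (γ z)).toMonoidHom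

theorem mem_copies {γ : X → G} {B : Subgroup G} {z : X} {a : G} :
    a ∈ copies γ B z ↔ (γ z)⁻¹ * a * γ z ∈ B := by
  constructor
  · rintro ⟨b, hb, rfl⟩
    show (γ z)⁻¹ * (γ z * b * (γ z)⁻¹) * γ z ∈ B
    rwa [show (γ z)⁻¹ * (γ z * b * (γ z)⁻¹) * γ z = b by group]
  · intro h
    refine ⟨_, h, ?_⟩
    show γ z * ((γ z)⁻¹ * a * γ z) * (γ z)⁻¹ = a
    group

theorem pre_copies [Finite X] [FaithfulSMul G X] {p : ℕ} (hp : p.Prime)
    (h2 : IsMultiplyPretransitive G X 2) {x : X} {γ : X → G} (hγ : ∀ z, γ z • x = z)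
    {B : Subgroup G} (hBle : B ≤ stabilizer G x)
    (hinv : ∀ g ∈ stabilizer G x, ∀ b ∈ B, g * b * g⁻¹ ∈ B)
    (hcomm : ∀ a ∈ B, ∀ b ∈ B, a * b = b * a) (hpow : ∀ a ∈ B, a ^ p = 1)
    {b₀ : G} (hb₀ : b₀ ∈ B) (hb₀1 : b₀ ≠ 1) {y₀ : X} (hy₀ : y₀ ≠ x) (hb₀y : b₀ • y₀ = y₀) :
    Pre G X p (copies γ B) where
  prime := hp
  two := h2
  faithful := inferInstance
  finX := inferInstance
  le z a ha := by
    have h := hBle (mem_copies.1 ha)
    rw [mem_stabilizer_iff, mul_smul, mul_smul, hγ, inv_smul_eq_iff, hγ] at h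
    exact h
  conj g z a ha := by
    refine mem_copies.2 ?_
    have hk : (γ (g • z))⁻¹ * g * γ z ∈ stabilizer G x := by
      rw [mem_stabilizer_iff, mul_smul, mul_smul, hγ, inv_smul_eq_iff, hγ]
    have := hinv _ hk _ (mem_copies.1 ha)
    convert this using 1
    group
  comm z a ha b hb := by
    have h := hcomm _ (mem_copies.1 ha) _ (mem_copies.1 hb)
    calc a * b = γ z * (((γ z)⁻¹ * a * γ z) * ((γ z)⁻¹ * b * γ z)) * (γ z)⁻¹ := by group
      _ = γ z * (((γ z)⁻¹ * b * γ z) * ((γ z)⁻¹ * a * γ z)) * (γ z)⁻¹ := by rw [h]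
      _ = b * a := by group
  pow z a ha := by
    have h := hpow _ (mem_copies.1 ha)
    rw [show (γ z)⁻¹ * a * γ z = MulAut.conj (γ z)⁻¹ a by simp, ← map_pow,
      map_eq_one_iff _ (MulAut.conj (γ z)⁻¹).injective] at h
    exact h
  nsr x' y' hxy := by
    obtain ⟨g, hgx, hgy⟩ := (is_two_pretransitive_iff (G := G) (α := X)).1 h2 hy₀.symm hxy
    refine ⟨g * b₀ * g⁻¹, mem_copies.2 ?_, fun e => hb₀1 (conj_eq_one_iff.1 e), ?_⟩
    · have hk : (γ x')⁻¹ * g ∈ stabilizer G x := by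
        rw [mem_stabilizer_iff, mul_smul, hgx, inv_smul_eq_iff, hγ]
      have := hinv _ hk _ hb₀
      convert this using 1
      group
    · rw [← hgy, mul_smul, mul_smul, inv_smul_smul, hb₀y]

/-- The hypotheses of the theorem give a context. -/
theorem exists_ctx [Finite G] [Finite X] [FaithfulSMul G X]
    (h2 : IsMultiplyPretransitive G X 2) (x : X) (N : Subgroup G) (hNle : N ≤ stabilizer G x)
    (hNnormal : ∀ g ∈ stabilizer G x, ∀ n ∈ N, g * n * g⁻¹ ∈ N) (hNab : IsMulCommutative N)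
    (hnsr : ∃ n ∈ N, n ≠ 1 ∧ ∃ y : X, y ≠ x ∧ n • y = y) :
    ∃ (p : ℕ) (A : X → Subgroup G) (y : X), x ≠ y ∧ Ctx G X p A := by
  haveI := h2
  haveI : IsPretransitive G X := isPretransitive_of_is_two_pretransitive
  obtain ⟨n, hn, hn1, y, hy, hny⟩ := hnsr
  obtain ⟨p, hp, hpn⟩ := Nat.exists_prime_and_dvd (fun e => hn1 (orderOf_eq_one_iff.1 e))
  choose γ hγ using fun z : X => exists_smul_eq G x z
  have hcN : ∀ a ∈ N, ∀ b ∈ N, a * b = b * a := fun a ha b hb =>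
    congrArg Subtype.val (hNab.is_comm.comm (⟨a, ha⟩ : N) ⟨b, hb⟩)
  let A₀ : Subgroup G :=
    { carrier := {a | a ∈ N ∧ a ^ p = 1}
      one_mem' := ⟨one_mem _, one_pow _⟩
      mul_mem' := fun {a b} ha hb =>
        ⟨mul_mem ha.1 hb.1, by rw [(show Commute a b from hcN a ha.1 b hb.1).mul_pow, ha.2, hb.2, mul_one]⟩
      inv_mem' := fun {a} ha => ⟨inv_mem ha.1, by rw [inv_pow, ha.2, inv_one]⟩ }
  have hA₀ : ∀ g ∈ stabilizer G x, ∀ a ∈ A₀, g * a * g⁻¹ ∈ A₀ := fun g hg a ha =>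
    ⟨hNnormal g hg a ha.1, by rw [conj_pow, ha.2, mul_one, mul_inv_cancel]⟩
  have ho : orderOf (n ^ (orderOf n / p)) = p := orderOf_pow_orderOf_div (orderOf_pos n).ne' hpn
  have hm : n ^ (orderOf n / p) ∈ A₀ :=
    ⟨pow_mem hn _, by have := pow_orderOf_eq_one (n ^ (orderOf n / p)); rwa [ho] at this⟩
  have hm1 : n ^ (orderOf n / p) ≠ 1 := fun e => hp.ne_one (by rw [← ho, e, orderOf_one])
  have hmy : n ^ (orderOf n / p) • y = y := pow_mem (mem_stabilizer_iff.2 hny : n ∈ stabilizer G y) _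
  have hP0 : Pre G X p (copies γ A₀) :=
    pre_copies hp h2 hγ (fun a ha => hNle ha.1) hA₀ (fun a ha b hb => hcN a ha.1 b hb.1)
      (fun a ha => ha.2) hm hm1 hy hmy
  have hAx : copies γ A₀ x = A₀ := by
    have hk : γ x ∈ stabilizer G x := hγ x
    ext a
    rw [mem_copies]
    constructor
    · intro ha
      have := hA₀ _ hk _ ha
      rwa [show γ x * ((γ x)⁻¹ * a * γ x) * (γ x)⁻¹ = a by group] at this
    · intro ha
      have := hA₀ _ (inv_mem hk) _ ha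
      rwa [inv_inv] at this
  obtain ⟨B, ⟨hB, hB1, hBinv⟩, hmin⟩ := Set.exists_min_image
    {B : Subgroup G | B ≤ A₀ ∧ B ≠ ⊥ ∧ ∀ g ∈ stabilizer G x, ∀ b ∈ B, g * b * g⁻¹ ∈ B}
    (fun B => Nat.card B) (Set.toFinite _)
    ⟨A₀, le_rfl, fun e => hm1 (mem_bot.1 (e ▸ hm)), hA₀⟩
  obtain ⟨b, hb, hb1, hby⟩ := hP0.exists_fix_of_invariant hy.symm (hB.trans hAx.ge) hB1 hBinv
  have hP := pre_copies hp h2 hγ (fun a ha => hNle (hB ha).1) hBinv
    (fun a ha b hb => hcN a (hB ha).1 b (hB hb).1) (fun a ha => (hB ha).2) hb hb1 hy hby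
  refine ⟨p, copies γ B, y, hy.symm, { hP with irr := ?_ }⟩
  intro z C hC hC1 hCinv
  refine Subgroup.eq_of_le_of_card_ge hC ?_
  rw [copies, Subgroup.card_map_of_injective (MulAut.conj (γ z)).injective,
    ← Subgroup.card_map_of_injective (f := (MulAut.conj (γ z)⁻¹).toMonoidHom) (K := C)
      (MulAut.conj (γ z)⁻¹).injective]
  refine hmin _ ⟨?_, ?_, ?_⟩
  · rintro _ ⟨c, hc, rfl⟩
    refine hB ?_
    show (γ z)⁻¹ * c * (γ z)⁻¹⁻¹ ∈ B
    rw [inv_inv]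
    exact mem_copies.1 (hC hc)
  · rw [Ne, map_eq_bot_iff_of_injective _ (MulAut.conj (γ z)⁻¹).injective]
    exact hC1
  · rintro g hg _ ⟨c, hc, rfl⟩
    refine ⟨(γ z * g * (γ z)⁻¹) * c * (γ z * g * (γ z)⁻¹)⁻¹, hCinv _ ?_ c hc, ?_⟩
    · rw [mul_smul, mul_smul, inv_smul_eq_iff.2 (hγ z).symm, hg, hγ]
    · show (γ z)⁻¹ * _ * (γ z)⁻¹⁻¹ = g * ((γ z)⁻¹ * c * (γ z)⁻¹⁻¹) * g⁻¹
      group

end Cfsg.Agent.Lib.ONan36
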