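import Cfsg.Agent.Lib.ONan36.Params
import Cfsg.Agent.Lib.ONan36.Alt

/-!
# O'Nan: the shears of two centres of an axis form a commutative set

For `u, v` on an axis `H` every `b` in `A v` gives the map `sh b : t ↦ b t b⁻¹ t⁻¹` from the
elements at `u` to those at `v` with axis `H`.
-/

set_option autoImplicit false
set_option linter.style.haveILetI false

namespace Cfsg.Agent.Lib.ONan36

open MulAction Subgroup Pointwise
open scoped IsMulCommutative

universe u v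

variable {G : Type u} {X : Type v} [Group G] [MulAction G X] {p : ℕ} {A : X → Subgroup G}

/-- Commutators with elements of an abelian group `B`, as a biadditive map. -/
def biHom {B S T : Subgroup G} [IsMulCommutative ↥T] (hB : ∀ b ∈ B, ∀ b' ∈ B, b * b' = b' * b)
    (h : ∀ b ∈ B, ∀ t ∈ S, b * t * b⁻¹ * t⁻¹ ∈ T)
    (hT : ∀ s ∈ T, ∀ t ∈ T, s * t = t * s) (hS : ∀ s ∈ S, ∀ t ∈ T, s * t = t * s)
    (hBT : ∀ b ∈ B, ∀ b' ∈ B, ∀ t ∈ S,
      b * (b' * t * b'⁻¹ * t⁻¹) = b' * t * b'⁻¹ * t⁻¹ * b) :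
    Additive ↥B →+ (Additive ↥S →+ Additive ↥T) :=
  let f : ↥B → ↥S → ↥T := fun b t => ⟨(b : G) * t * (b : G)⁻¹ * (t : G)⁻¹, h b b.2 t t.2⟩
  AddMonoidHom.mk'
    (fun b => AddMonoidHom.mk' (fun t => Additive.ofMul (f b.toMul t.toMul)) fun x y => by
      refine congrArg Additive.ofMul (Subtype.ext ?_)
      show (b.toMul : G) * ((x.toMul : G) * y.toMul) * (b.toMul : G)⁻¹ * ((x.toMul : G) * y.toMul)⁻¹ =
        ((b.toMul : G) * x.toMul * (b.toMul : G)⁻¹ * (x.toMul : G)⁻¹) *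
          ((b.toMul : G) * y.toMul * (b.toMul : G)⁻¹ * (y.toMul : G)⁻¹)
      have hc : Commute (x.toMul : G)
          ((b.toMul : G) * y.toMul * (b.toMul : G)⁻¹ * (y.toMul : G)⁻¹) :=
        hS _ x.toMul.2 _ (h _ b.toMul.2 _ y.toMul.2)
      calc (b.toMul : G) * ((x.toMul : G) * y.toMul) * (b.toMul : G)⁻¹ * ((x.toMul : G) * y.toMul)⁻¹
          = (b.toMul : G) * x.toMul * (b.toMul : G)⁻¹ *
              ((b.toMul : G) * y.toMul * (b.toMul : G)⁻¹ * (y.toMul : G)⁻¹ * (x.toMul : G)⁻¹) := by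
            group
        _ = _ := by rw [← hc.inv_left.eq]; group)
    fun b b' => by
      refine AddMonoidHom.ext fun t => congrArg Additive.ofMul (Subtype.ext ?_)
      show ((b.toMul : G) * b'.toMul) * t.toMul * ((b.toMul : G) * b'.toMul)⁻¹ * (t.toMul : G)⁻¹ =
        ((b.toMul : G) * t.toMul * (b.toMul : G)⁻¹ * (t.toMul : G)⁻¹) *
          ((b'.toMul : G) * t.toMul * (b'.toMul : G)⁻¹ * (t.toMul : G)⁻¹)
      have hc : Commute (b.toMul : G)
          ((b'.toMul : G) * t.toMul * (b'.toMul : G)⁻¹ * (t.toMul : G)⁻¹) :=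
        hBT _ b.toMul.2 _ b'.toMul.2 _ t.toMul.2
      calc ((b.toMul : G) * b'.toMul) * t.toMul * ((b.toMul : G) * b'.toMul)⁻¹ * (t.toMul : G)⁻¹
          = (b.toMul : G) * ((b'.toMul : G) * t.toMul * (b'.toMul : G)⁻¹ * (t.toMul : G)⁻¹) *
              ((t.toMul : G) * (b.toMul : G)⁻¹ * (t.toMul : G)⁻¹) := by group
        _ = ((b'.toMul : G) * t.toMul * (b'.toMul : G)⁻¹ * (t.toMul : G)⁻¹) *
              ((b.toMul : G) * t.toMul * (b.toMul : G)⁻¹ * (t.toMul : G)⁻¹) := by rw [hc.eq]; group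
        _ = _ := hT _ (h _ b'.toMul.2 _ t.toMul.2) _ (h _ b.toMul.2 _ t.toMul.2)

variable [Finite G]

namespace Ctx

/-- `A u` is transitive on the other points of a line through `u`. -/
theorem exists_smul_line (h : Ctx G X p A) {u v w : X} (huv : u ≠ v) (hw : w ∈ line A u v)
    (hwu : w ≠ u) : ∃ b ∈ A u, b • v = w := by
  obtain ⟨b, hb, hbv⟩ := h.exists_move_A huv.symm
  have hb1 : b ≠ 1 := fun e => hbv (by rw [e, one_smul])
  obtain ⟨a, ha, e⟩ := (h.params (h.isAxis_fix hb hb1) (h.smul_self hb : u ∈ fixedBy X b)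
    (hbv : v ∉ fixedBy X b)).2.1 w hw hwu
  exact ⟨a, (mem_tx.1 ha).1, e⟩

/-- An axis through `v` and not `u`. -/
theorem exists_axis_avoid (h : Ctx G X p A) {u v : X} (huv : u ≠ v) :
    ∃ H, IsAxis A H ∧ v ∈ H ∧ u ∉ H := by
  obtain ⟨b, hb, hbu⟩ := h.exists_move_A huv
  exact ⟨fixedBy X b, h.isAxis_fix hb (fun e => hbu (by rw [e, one_smul])), h.smul_self hb, hbu⟩

variable (h : Ctx G X p A) {H : Set X} (hH : IsAxis A H) {u v : X} (hu : u ∈ H) (hv : v ∈ H)

/-- The shears from `u` to `v`. -/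
def sh [IsMulCommutative ↥(tx A v H)] : Additive ↥(A v) →+ (Additive ↥(tx A u H) →+ Additive ↥(tx A v H)) :=
  biHom (h.comm v) (fun _b hb _t ht => h.commutator_mem_tx hH hu hv hb ht)
    (fun _s hs _t ht => h.trans_comm (tx_le_trans hv hs) (tx_le_trans hv ht))
    (fun _s hs _t ht => h.trans_comm (tx_le_trans hu hs) (tx_le_trans hv ht))
    (fun b hb b' hb' t ht => h.comm v b hb _
      (mem_tx.1 (h.commutator_mem_tx hH hu hv hb' ht)).1)

@[simp] theorem sh_apply [IsMulCommutative ↥(tx A v H)] (b : Additive ↥(A v)) (t : Additive ↥(tx A u H)) :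
    (((h.sh hH hu hv b t).toMul : ↥(tx A v H)) : G) =
      (b.toMul : G) * t.toMul * (b.toMul : G)⁻¹ * (t.toMul : G)⁻¹ := rfl

theorem sh_injective [IsMulCommutative ↥(tx A v H)] (b : Additive ↥(A v)) (hb : (b.toMul : G) • u ≠ u) :
    Function.Injective (h.sh hH hu hv b) := by
  refine (injective_iff_map_eq_zero _).2 fun t ht => ?_
  have e : (((h.sh hH hu hv b t).toMul : ↥(tx A v H)) : G) = 1 := by rw [ht]; rfl
  rw [sh_apply, mul_inv_eq_one, mul_inv_eq_iff_eq_mul] at e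
  exact Additive.toMul.injective (Subtype.ext (h.eq_one_of_comm (mem_tx.1 t.toMul.2).1 hb e))

theorem sh_eq_zero [IsMulCommutative ↥(tx A v H)] (b : Additive ↥(A v)) (hb : (b.toMul : G) • u = u) : h.sh hH hu hv b = 0 := by
  refine DFunLike.ext _ _ fun t => Additive.toMul.injective (Subtype.ext ?_)
  show _ = (1 : G)
  rw [sh_apply, h.comm_of_fix b.toMul.2 (mem_tx.1 t.toMul.2).1 hb ((mem_tx.1 t.toMul.2).2 v hv),
    mul_inv_cancel_right, mul_inv_cancel]

/-- The inverse of a shear is a shear in the other direction. -/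
theorem sh_inverse [IsMulCommutative ↥(tx A v H)] [IsMulCommutative ↥(tx A u H)] (huv : u ≠ v) (b : Additive ↥(A v)) (hb : h.sh hH hu hv b ≠ 0) :
    ∃ b' : Additive ↥(A u), (∀ t, h.sh hH hv hu b' (h.sh hH hu hv b t) = t) ∧
      ∀ t, h.sh hH hu hv b (h.sh hH hv hu b' t) = t := by
  haveI := h.finX
  have hbu : (b.toMul : G) • u ≠ u := fun e => hb (h.sh_eq_zero hH hu hv b e)
  set w := (b.toMul : G) • u with hw
  have hwl : w ∈ line A u v := by
    rw [line_comm]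
    exact h.smul_mem_line_of_off b.toMul.2 huv.symm
  obtain ⟨b', hb', e⟩ := h.exists_smul_line huv hwl hbu
  refine ⟨Additive.ofMul ⟨b', hb'⟩, ?_⟩
  set φ := h.sh hH hu hv b
  set ψ := h.sh hH hv hu (Additive.ofMul ⟨b', hb'⟩)
  have h1 : ∀ t, ψ (φ t) = t := by
    intro t
    refine Additive.toMul.injective (Subtype.ext ?_)
    set a : G := (t.toMul : G) with ha
    set s : G := (((φ t).toMul : ↥(tx A v H)) : G) with hs
    set a' : G := (((ψ (φ t)).toMul : ↥(tx A u H)) : G) with ha'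
    have hsT : s ∈ tx A v H := (φ t).toMul.2
    have haT : a ∈ tx A u H := t.toMul.2
    have h2 : s * a ∈ tx A w H := by
      have := h.tx_conj (h.smul_axis hH b.toMul.2 hv) haT
      rwa [hs, sh_apply, inv_mul_cancel_right]
    have h3 : a' * s ∈ tx A w H := by
      have := h.tx_conj (h.smul_axis hH hb' hu) hsT
      rw [e] at this
      rw [ha', sh_apply, inv_mul_cancel_right]
      exact this
    have h4 : a' * a⁻¹ = 1 := by
      refine h.tx_disjoint (Ne.symm hbu) (mul_mem (ψ (φ t)).toMul.2 (inv_mem haT)) ?_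
      rw [h.trans_comm (tx_le_trans hv hsT) (tx_le_trans hu haT)] at h2
      have e4 : a' * a⁻¹ = (a' * s) * (a * s)⁻¹ := by group
      rw [e4]
      exact mul_mem h3 (inv_mem h2)
    exact mul_inv_eq_one.1 h4
  refine ⟨h1, fun t => ?_⟩
  have hb2 : Function.Bijective φ := (h.sh_injective hH hu hv b hbu).bijective_of_nat_card_le (by
    rw [Nat.card_congr Additive.toMul, Nat.card_congr Additive.toMul, h.card_tx_eq hH hH hv hu])
  obtain ⟨s, rfl⟩ := hb2.2 t
  rw [h1]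

/-- The commutators of a fixed element at `u` with those at `v` having a second axis. -/
def sh₂ [IsMulCommutative ↥(tx A v H)] {H' : Set X} (hH' : IsAxis A H') (hv' : v ∈ H') :
    Additive ↥(tx A u H) →+ (Additive ↥(tx A v H') →+ Additive ↥(tx A v H)) :=
  biHom (fun b hb b' hb' => h.comm u b (mem_tx.1 hb).1 b' (mem_tx.1 hb').1)
    (fun a ha t ht => mem_tx.2 ⟨h.comm_mem ((mem_tx.1 ha).2 v hv) (mem_tx.1 ht).1,
      fun z hz => h.commutator_fix (mem_tx.1 ha).1 ((mem_tx.1 ha).2 v hv) ((mem_tx.1 ha).2 z hz)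
        (mem_tx.1 ht).1⟩)
    (fun s hs t ht => h.comm v s (mem_tx.1 hs).1 t (mem_tx.1 ht).1)
    (fun s hs t ht => h.comm v s (mem_tx.1 hs).1 t (mem_tx.1 ht).1)
    (fun _b hb _b' hb' _t ht => h.trans_comm (tx_le_trans hu hb) (tx_le_trans hv (mem_tx.2
      ⟨h.comm_mem ((mem_tx.1 hb').2 v hv) (mem_tx.1 ht).1,
        fun z hz => h.commutator_fix (mem_tx.1 hb').1 ((mem_tx.1 hb').2 v hv)
          ((mem_tx.1 hb').2 z hz) (mem_tx.1 ht).1⟩)))

omit [Finite G] in
theorem tx_conj' (h : Ctx G X p A) {H : Set X} (g : G) {u : X} {a : G} (ha : a ∈ tx A u H) :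
    g * a * g⁻¹ ∈ tx A (g • u) (g • H) := by
  refine mem_tx.2 ⟨h.conj g u a (mem_tx.1 ha).1, ?_⟩
  rintro _ ⟨z, hz, rfl⟩
  show (g * a * g⁻¹) • g • z = g • z
  rw [mul_smul, mul_smul, inv_smul_smul, (mem_tx.1 ha).2 z hz]

theorem tx_eq_one_of_two (h : Ctx G X p A) {H K : Set X} (hH : IsAxis A H) (hK : IsAxis A K)
    (hne : H ≠ K) {u : X} {a : G} (ha : a ∈ tx A u H) (ha' : a ∈ tx A u K) : a = 1 :=
  by_contra fun ha1 => hne ((h.fixedBy_eq hH ha ha1).symm.trans (h.fixedBy_eq hK ha' ha1))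

@[simp] theorem sh₂_apply [IsMulCommutative ↥(tx A v H)] {H' : Set X} (hH' : IsAxis A H')
    (hv' : v ∈ H') (a : Additive ↥(tx A u H)) (t : Additive ↥(tx A v H')) :
    (((h.sh₂ hu hv hH' hv' a t).toMul : ↥(tx A v H)) : G) =
      (a.toMul : G) * t.toMul * (a.toMul : G)⁻¹ * (t.toMul : G)⁻¹ := rfl

theorem sh₂_injective [IsMulCommutative ↥(tx A v H)] {H' : Set X} (hH' : IsAxis A H')
    (hv' : v ∈ H') (hu' : u ∉ H') (a : Additive ↥(tx A u H)) (ha : a ≠ 0) :
    Function.Injective (h.sh₂ hu hv hH' hv' a) := by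
  refine (injective_iff_map_eq_zero _).2 fun t ht => ?_
  have e : (((h.sh₂ hu hv hH' hv' a t).toMul : ↥(tx A v H)) : G) = 1 := by rw [ht]; rfl
  rw [sh₂_apply, mul_inv_eq_one, mul_inv_eq_iff_eq_mul] at e
  refine Additive.toMul.injective (Subtype.ext (h.tx_inf_stab hH' hu' t.toMul.2 ?_))
  exact h.cen_fix (mem_tx.1 a.toMul.2).1
    (fun e1 => ha (Additive.toMul.injective (Subtype.ext e1))) e.symm

/-- The inverse of the commutation with an element at `u` is one with an element at `u'`. -/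
theorem sh₂_inverse {H' : Set X} [IsMulCommutative ↥(tx A v H)] [IsMulCommutative ↥(tx A v H')]
    (hH' : IsAxis A H') (hv' : v ∈ H') (hu' : u ∉ H') {u' : X} (hu'H' : u' ∈ H') (hu'H : u' ∉ H)
    (a : Additive ↥(tx A u H)) (ha : a ≠ 0) :
    ∃ a' : Additive ↥(tx A u' H'),
      (∀ t, h.sh₂ hu'H' hv' hH hv a' (h.sh₂ hu hv hH' hv' a t) = t) ∧
      ∀ t, h.sh₂ hu hv hH' hv' a (h.sh₂ hu'H' hv' hH hv a' t) = t := by
  set φ := h.sh₂ hu hv hH' hv' a with hφ
  have hinj := h.sh₂_injective hu hv hH' hv' hu' a ha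
  rw [← hφ] at hinj
  have hcard : Nat.card ↥(tx A u' H') = Nat.card ↥(tx A v H') := h.card_tx_eq hH' hH' hu'H' hv'
  obtain ⟨b, hb, hb1⟩ := h.exists_tx hH' hv'
  set t₀ : Additive ↥(tx A v H') := Additive.ofMul ⟨b, hb⟩ with ht₀
  have ht₀0 : t₀ ≠ 0 := fun e => hb1 (congrArg Subtype.val (congrArg Additive.toMul e))
  have hs0 : φ t₀ ≠ 0 := fun e => ht₀0 (hinj (e.trans (map_zero φ).symm))
  -- some element at `u'` takes `φ t₀` to `t₀`
  let g : Additive ↥(tx A u' H') → Additive ↥(tx A v H') := fun a' =>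
    h.sh₂ hu'H' hv' hH hv a' (φ t₀)
  have hg : Function.Injective g := by
    intro a₁ a₂ e
    by_contra hne
    have hd : a₁ - a₂ ≠ 0 := sub_ne_zero.2 hne
    have e0 : h.sh₂ hu'H' hv' hH hv (a₁ - a₂) (φ t₀) = 0 := by
      rw [map_sub, AddMonoidHom.sub_apply]
      exact sub_eq_zero.2 e
    exact hs0 (h.sh₂_injective hu'H' hv' hH hv hu'H (a₁ - a₂) hd (e0.trans (map_zero _).symm))
  obtain ⟨a', ha'⟩ := (hg.bijective_of_nat_card_le (by
    rw [Nat.card_congr Additive.toMul, Nat.card_congr Additive.toMul, hcard])).2 t₀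
  refine ⟨a', ?_⟩
  set ψ := h.sh₂ hu'H' hv' hH hv a' with hψ
  have hav : (a.toMul : G) • v = v := (mem_tx.1 a.toMul.2).2 v hv
  have ha'v : (a'.toMul : G) • v = v := (mem_tx.1 a'.toMul.2).2 v hv'
  set K := (a.toMul : G) • H' with hKdef
  have hK : IsAxis A K := h.isAxis_smul hH' _
  have hfst : ∀ t : Additive ↥(tx A v H'),
      ((φ t).toMul : G) * t.toMul ∈ tx A v K := fun t => by
    have := h.tx_conj' (a.toMul : G) t.toMul.2
    rw [hav] at this
    rwa [hφ, sh₂_apply, inv_mul_cancel_right]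
  have hsnd : ∀ s : Additive ↥(tx A v H),
      ((ψ s).toMul : G) * s.toMul ∈ tx A v ((a'.toMul : G) • H) := fun s => by
    have := h.tx_conj' (a'.toMul : G) s.toMul.2
    rw [ha'v] at this
    rwa [hψ, sh₂_apply, inv_mul_cancel_right]
  have hvc : ∀ (x : Additive ↥(tx A v H)) (y : Additive ↥(tx A v H')),
      (x.toMul : G) * y.toMul = y.toMul * x.toMul := fun x y =>
    h.comm v _ (mem_tx.1 x.toMul.2).1 _ (mem_tx.1 y.toMul.2).1
  have hne : ((φ t₀).toMul : G) * b ≠ 1 := fun e => hs0 (Additive.toMul.injective (Subtype.ext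
    (h.tx_eq_one_of_two hH hH' (fun e' => hu' (e' ▸ hu)) (φ t₀).toMul.2 (by
      rw [eq_inv_of_mul_eq_one_left e]
      exact inv_mem hb))))
  have hKeq : (a'.toMul : G) • H = K := by
    have h1 := hsnd (φ t₀)
    rw [show ψ (φ t₀) = t₀ from ha', ← hvc] at h1
    exact (h.fixedBy_eq (h.isAxis_smul hH _) h1 hne).symm.trans (h.fixedBy_eq hK (hfst t₀) hne)
  have hKH' : K ≠ H' := fun e => by
    have h1 := hfst t₀
    rw [e] at h1
    have h2 : ((φ t₀).toMul : G) ∈ tx A v H' := by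
      have h3 := mul_mem h1 (inv_mem hb)
      simpa [ht₀] using h3
    exact hs0 (Additive.toMul.injective (Subtype.ext
      (h.tx_eq_one_of_two hH hH' (fun e' => hu' (e' ▸ hu)) (φ t₀).toMul.2 h2)))
  have h1 : ∀ t, ψ (φ t) = t := by
    intro t
    refine Additive.toMul.injective (Subtype.ext (mul_inv_eq_one.1 ?_))
    refine h.tx_eq_one_of_two hH' hK hKH'.symm (mul_mem (ψ (φ t)).toMul.2 (inv_mem t.toMul.2)) ?_
    have e4 : ((ψ (φ t)).toMul : G) * (t.toMul : G)⁻¹ =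
        (((ψ (φ t)).toMul : G) * (φ t).toMul) * (((φ t).toMul : G) * t.toMul)⁻¹ := by
      rw [hvc (φ t) t]; group
    rw [e4]
    exact mul_mem (hKeq ▸ hsnd (φ t)) (inv_mem (hfst t))
  refine ⟨h1, fun t => ?_⟩
  obtain ⟨s, rfl⟩ := (hinj.bijective_of_nat_card_le (by
    rw [Nat.card_congr Additive.toMul, Nat.card_congr Additive.toMul,
      h.card_tx_eq hH hH' hv hv'])).2 t
  rw [h1]

/-- Shears compose commutatively. -/
theorem sh_field [IsMulCommutative ↥(tx A v H)] (huv : u ≠ v) (b₀ b₁ b₂ : Additive ↥(A v))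
    (hb₀ : (b₀.toMul : G) • u ≠ u) :
    ∃ b₃ : Additive ↥(A v), ∀ t s₁ s₂ : Additive ↥(tx A u H),
      h.sh hH hu hv b₀ s₁ = h.sh hH hu hv b₂ t → h.sh hH hu hv b₀ s₂ = h.sh hH hu hv b₁ t →
        h.sh hH hu hv b₁ s₁ = h.sh hH hu hv b₃ t ∧ h.sh hH hu hv b₂ s₂ = h.sh hH hu hv b₃ t := by
  classical
  haveI : IsMulCommutative ↥(tx A u H) := .of_comm fun s t =>
    Subtype.ext (h.comm u _ (mem_tx.1 s.2).1 _ (mem_tx.1 t.2).1)
  obtain ⟨H', hH', hv', hu'⟩ := h.exists_axis_avoid huv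
  haveI : IsMulCommutative ↥(tx A v H') := .of_comm fun s t =>
    Subtype.ext (h.comm v _ (mem_tx.1 s.2).1 _ (mem_tx.1 t.2).1)
  obtain ⟨u', hu'H', hu'H⟩ : ∃ u' ∈ H', u' ∉ H := by
    by_contra hne
    push Not at hne
    haveI := h.finX
    exact hu' ((Set.eq_of_subset_of_ncard_le hne (h.card_axis_eq hH hH').le).symm ▸ hu)
  set φ := h.sh hH hu hv
  let ι : Additive ↥(tx A v H') →+ Additive ↥(A v) :=
    MonoidHom.toAdditive (Subgroup.inclusion (fun c hc => (mem_tx.1 hc).1 : tx A v H' ≤ A v))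
  let β : Additive ↥(tx A v H') →+ (Additive ↥(tx A u H) →+ Additive ↥(tx A v H)) := φ.comp ι
  have hdec : ∀ b, ∃ c, φ b = β c := by
    intro b
    obtain ⟨t, ht, w, hw, hwu, e⟩ := h.exists_decomp hH' hv' hu' b.toMul.2
    refine ⟨Additive.ofMul ⟨t, ht⟩, ?_⟩
    have e2 : b = ι (Additive.ofMul ⟨t, ht⟩) + Additive.ofMul ⟨w, hw⟩ :=
      Additive.toMul.injective (Subtype.ext e)
    rw [e2, map_add, h.sh_eq_zero hH hu hv (Additive.ofMul ⟨w, hw⟩) hwu, add_zero]
    rfl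
  have hcardV : Nat.card (Additive ↥(tx A v H')) = Nat.card (Additive ↥(tx A v H)) := by
    rw [Nat.card_congr Additive.toMul, Nat.card_congr Additive.toMul, h.card_tx_eq hH' hH hv' hv]
  have hcardU : Nat.card (Additive ↥(tx A u H)) = Nat.card (Additive ↥(tx A v H)) := by
    rw [Nat.card_congr Additive.toMul, Nat.card_congr Additive.toMul, h.card_tx_eq hH hH hu hv]
  have hslice : ∀ c a, β c a = 0 → c = 0 ∨ a = 0 := by
    intro c a e
    rcases eq_or_ne c 0 with hc | hc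
    · exact Or.inl hc
    refine Or.inr (h.sh_injective hH hu hv (ι c) (fun hcu => hc ?_) (e.trans (map_zero _).symm))
    exact Additive.toMul.injective (Subtype.ext (h.tx_inf_stab hH' hu' c.toMul.2 hcu))
  obtain ⟨c₀, hc₀⟩ := hdec b₀
  have hc₀0 : c₀ ≠ 0 := fun e => by
    obtain ⟨t, ht, ht1⟩ := h.exists_tx hH hu
    have e1 := h.sh_injective hH hu hv b₀ hb₀ (a₁ := Additive.ofMul ⟨t, ht⟩) (a₂ := 0) (by
      show φ b₀ (Additive.ofMul ⟨t, ht⟩) = φ b₀ 0
      rw [hc₀, e, map_zero]; rfl)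
    exact ht1 (congrArg Subtype.val (congrArg Additive.toMul e1))
  obtain ⟨a₀, ha₀0⟩ : ∃ a₀ : Additive ↥(tx A u H), a₀ ≠ 0 := by
    obtain ⟨t, ht, ht1⟩ := h.exists_tx hH hu
    exact ⟨Additive.ofMul ⟨t, ht⟩, fun e => ht1 (congrArg Subtype.val (congrArg Additive.toMul e))⟩
  let ea : Additive ↥(tx A u H) ≃+ Additive ↥(tx A v H) :=
    AddEquiv.ofBijective (β c₀)
      (((injective_iff_map_eq_zero _).2 fun a e => (hslice c₀ a e).resolve_left hc₀0).bijective_of_nat_card_le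
        hcardU.ge)
  let eb : Additive ↥(tx A v H') ≃+ Additive ↥(tx A v H) :=
    AddEquiv.ofBijective (β.flip a₀)
      (((injective_iff_map_eq_zero _).2 fun c e => (hslice c a₀ e).resolve_right ha₀0).bijective_of_nat_card_le
        hcardV.ge)
  let mul : Additive ↥(tx A v H) → Additive ↥(tx A v H) → Additive ↥(tx A v H) := fun x y =>
    β (eb.symm y) (ea.symm x)
  let _m : Mul (Additive ↥(tx A v H)) := ⟨mul⟩
  let _o : One (Additive ↥(tx A v H)) := ⟨β c₀ a₀⟩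
  let _r : NonAssocRing (Additive ↥(tx A v H)) :=
    { (inferInstance : AddCommGroup (Additive ↥(tx A v H))), _m, _o with
      left_distrib := fun x y z => by
        show β (eb.symm (y + z)) (ea.symm x) = β (eb.symm y) (ea.symm x) + β (eb.symm z) (ea.symm x)
        rw [map_add, map_add, AddMonoidHom.add_apply]
      right_distrib := fun x y z => by
        show β (eb.symm z) (ea.symm (x + y)) = β (eb.symm z) (ea.symm x) + β (eb.symm z) (ea.symm y)
        rw [map_add, map_add]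
      zero_mul := fun x => by
        show β (eb.symm x) (ea.symm 0) = 0
        rw [map_zero, map_zero]
      mul_zero := fun x => by
        show β (eb.symm 0) (ea.symm x) = 0
        rw [map_zero, map_zero, AddMonoidHom.zero_apply]
      one_mul := fun y => by
        show β (eb.symm y) (ea.symm (ea a₀)) = y
        rw [ea.symm_apply_apply]
        exact eb.apply_symm_apply y
      mul_one := fun x => by
        show β (eb.symm (eb c₀)) (ea.symm x) = x
        rw [eb.symm_apply_apply]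
        exact ea.apply_symm_apply x }
  haveI : Nontrivial (Additive ↥(tx A v H)) := ⟨⟨β c₀ a₀, 0, fun e =>
    (hslice c₀ a₀ e).elim hc₀0 ha₀0⟩⟩
  haveI : Finite (AddMonoid.End (Additive ↥(tx A v H))) :=
    Finite.of_injective (fun f => (f : Additive ↥(tx A v H) → Additive ↥(tx A v H)))
      DFunLike.coe_injective
  haveI : Nontrivial (AddMonoid.End (Additive ↥(tx A v H))) :=
    ⟨⟨1, 0, fun e => one_ne_zero (α := Additive ↥(tx A v H)) (DFunLike.congr_fun e 1)⟩⟩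
  -- right inverse property
  let toR : Additive ↥(A v) →+ AddMonoid.End (Additive ↥(tx A v H)) :=
    AddMonoidHom.mk' (fun b => (φ b).comp ea.symm.toAddMonoidHom) fun b b' => by
      rw [map_add]; rfl
  let toP : Additive ↥(A u) →+ AddMonoid.End (Additive ↥(tx A v H)) :=
    AddMonoidHom.mk' (fun b' => ea.toAddMonoidHom.comp (h.sh hH hv hu b')) fun b b' => by
      rw [map_add]; exact AddMonoidHom.comp_add _ _ _
  have hMP : ∀ s ∈ toR.range, s ≠ 0 → ∃ s' ∈ toP.range, s' * s = 1 ∧ s * s' = 1 := by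
    rintro _ ⟨b, rfl⟩ hne
    obtain ⟨b', h1, h2⟩ := h.sh_inverse hH hu hv huv b (fun e => hne (by
      show (φ b).comp _ = 0
      rw [show φ b = 0 from e]; rfl))
    refine ⟨toP b', ⟨b', rfl⟩, DFunLike.ext _ _ fun x => ?_, DFunLike.ext _ _ fun x => ?_⟩
    · show ea (h.sh hH hv hu b' (φ b (ea.symm x))) = x
      rw [h1, ea.apply_symm_apply]
    · show φ b (ea.symm (ea (h.sh hH hv hu b' x))) = x
      rw [ea.symm_apply_apply, h2]
  have hPM : ∀ s ∈ toP.range, s ≠ 0 → ∃ s' ∈ toR.range, s' * s = 1 ∧ s * s' = 1 := by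
    rintro _ ⟨b', rfl⟩ hne
    obtain ⟨b, h1, h2⟩ := h.sh_inverse hH hv hu huv.symm b' (fun e => hne (by
      show ea.toAddMonoidHom.comp _ = 0
      rw [e]; exact AddMonoidHom.comp_zero _))
    refine ⟨toR b, ⟨b, rfl⟩, DFunLike.ext _ _ fun x => ?_, DFunLike.ext _ _ fun x => ?_⟩
    · show φ b (ea.symm (ea (h.sh hH hv hu b' x))) = x
      rw [ea.symm_apply_apply, h1]
    · show ea (h.sh hH hv hu b' (φ b (ea.symm x))) = x
      rw [h2, ea.apply_symm_apply]
  have hR1 : (1 : AddMonoid.End (Additive ↥(tx A v H))) ∈ toR.range :=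
    ⟨b₀, DFunLike.ext _ _ fun x => by
      show φ b₀ (ea.symm x) = x
      rw [hc₀]
      exact ea.apply_symm_apply x⟩
  have hP1 : (1 : AddMonoid.End (Additive ↥(tx A v H))) ∈ toP.range := by
    obtain ⟨s, hs, hs1, -⟩ := hMP 1 hR1 one_ne_zero
    rwa [← hs1, mul_one]
  have hRP := Alt.eq_of_inverse hMP hPM hR1 hP1
  have hRm : ∀ x, ∃ c, Alt.Rm x = toR (ι c) ∧ eb c = x := fun x =>
    ⟨eb.symm x, DFunLike.ext _ _ fun y => rfl, eb.apply_symm_apply x⟩
  have hr : Alt.RInv (Additive ↥(tx A v H)) := by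
    intro x hx
    obtain ⟨c, ec, -⟩ := hRm x
    obtain ⟨s, hs, hs1, -⟩ := hMP _ ⟨ι c, rfl⟩ (by
      rw [← ec]
      intro e
      refine hx ?_
      have := DFunLike.congr_fun e 1
      simpa using this)
    obtain ⟨b, rfl⟩ : s ∈ toR.range := hRP.symm ▸ hs
    obtain ⟨d, hd⟩ := hdec b
    refine ⟨eb d, fun y => ?_⟩
    have := DFunLike.congr_fun hs1 y
    rw [← ec] at this
    show β (eb.symm (eb d)) (ea.symm (y * x)) = y
    rw [eb.symm_apply_apply, ← hd]
    exact this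
  -- left inverse property
  let γ := h.sh₂ hu hv hH' hv'
  let γ' := h.sh₂ hu'H' hv' hH hv
  let toL : Additive ↥(tx A u H) →+ AddMonoid.End (Additive ↥(tx A v H)) :=
    AddMonoidHom.mk' (fun a => (γ a).comp eb.symm.toAddMonoidHom) fun a a' => by
      rw [map_add]; rfl
  let toQ : Additive ↥(tx A u' H') →+ AddMonoid.End (Additive ↥(tx A v H)) :=
    AddMonoidHom.mk' (fun a => eb.toAddMonoidHom.comp (γ' a)) fun a a' => by
      rw [map_add]; exact AddMonoidHom.comp_add _ _ _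
  have hLQ : ∀ s ∈ toL.range, s ≠ 0 → ∃ s' ∈ toQ.range, s' * s = 1 ∧ s * s' = 1 := by
    rintro _ ⟨a, rfl⟩ hne
    obtain ⟨a', h1, h2⟩ := h.sh₂_inverse hH hu hv hH' hv' hu' hu'H' hu'H a (fun e => hne (by
      rw [e, map_zero]))
    refine ⟨toQ a', ⟨a', rfl⟩, DFunLike.ext _ _ fun x => ?_, DFunLike.ext _ _ fun x => ?_⟩
    · show eb (γ' a' (γ a (eb.symm x))) = x
      rw [h1, eb.apply_symm_apply]
    · show γ a (eb.symm (eb (γ' a' x))) = x
      rw [eb.symm_apply_apply, h2]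
  have hQL : ∀ s ∈ toQ.range, s ≠ 0 → ∃ s' ∈ toL.range, s' * s = 1 ∧ s * s' = 1 := by
    rintro _ ⟨a', rfl⟩ hne
    obtain ⟨a, h1, h2⟩ := h.sh₂_inverse hH' hu'H' hv' hH hv hu'H hu hu' a' (fun e => hne (by
      rw [e, map_zero]))
    refine ⟨toL a, ⟨a, rfl⟩, DFunLike.ext _ _ fun x => ?_, DFunLike.ext _ _ fun x => ?_⟩
    · show γ a (eb.symm (eb (γ' a' x))) = x
      rw [eb.symm_apply_apply, h1]
    · show eb (γ' a' (γ a (eb.symm x))) = x
      rw [h2, eb.apply_symm_apply]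
  have hgb : ∀ a c, β c a = γ (-a) c := by
    intro a c
    rw [map_neg, AddMonoidHom.neg_apply]
    refine Additive.toMul.injective (Subtype.ext ?_)
    rw [toMul_neg, Subgroup.coe_inv, sh₂_apply]
    show ((ι c).toMul : G) * a.toMul * ((ι c).toMul : G)⁻¹ * (a.toMul : G)⁻¹ = _
    group
    rfl
  have hLm : ∀ x, Alt.Lm x = toL (-(ea.symm x)) := fun x => DFunLike.ext _ _ fun y =>
    hgb (ea.symm x) (eb.symm y)
  have hL1 : (1 : AddMonoid.End (Additive ↥(tx A v H))) ∈ toL.range := by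
    rw [← Alt.Lm_one, hLm]; exact ⟨_, rfl⟩
  have hQ1 : (1 : AddMonoid.End (Additive ↥(tx A v H))) ∈ toQ.range := by
    obtain ⟨s, hs, hs1, -⟩ := hLQ 1 hL1 one_ne_zero
    rwa [← hs1, mul_one]
  have hLQ' := Alt.eq_of_inverse hLQ hQL hL1 hQ1
  have hl : Alt.LInv (Additive ↥(tx A v H)) := by
    intro x hx
    obtain ⟨s, hs, hs1, -⟩ := hLQ _ ⟨_, (hLm x).symm⟩ (fun e => hx (by
      have := DFunLike.congr_fun e 1
      simpa using this))
    obtain ⟨a, ha⟩ : s ∈ toL.range := hLQ'.symm ▸ hs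
    refine ⟨ea (-a), fun y => ?_⟩
    have := DFunLike.congr_fun hs1 y
    rw [← ha] at this
    have h2 := DFunLike.congr_fun (hLm (ea (-a))) (x * y)
    rw [ea.symm_apply_apply, neg_neg] at h2
    exact h2.trans this
  obtain ⟨hcomm, hass⟩ := Alt.commutative_associative hl hr
  -- conclusion
  obtain ⟨c₁, hc₁⟩ := hdec b₁
  obtain ⟨c₂, hc₂⟩ := hdec b₂
  refine ⟨ι (eb.symm (eb c₂ * eb c₁)), fun t s₁ s₂ e₁ e₂ => ?_⟩
  have hm : ∀ c a, φ b₀ a = φ b₀ a → β c a = ea a * eb c := fun c a _ => by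
    show β c a = β (eb.symm (eb c)) (ea.symm (ea a))
    rw [eb.symm_apply_apply, ea.symm_apply_apply]
  have e₁' : ea s₁ = ea t * eb c₂ := by
    rw [← hm c₂ t rfl]
    show β c₀ s₁ = _
    rw [← hc₀, ← hc₂]; exact e₁
  have e₂' : ea s₂ = ea t * eb c₁ := by
    rw [← hm c₁ t rfl]
    show β c₀ s₂ = _
    rw [← hc₀, ← hc₁]; exact e₂
  show φ b₁ s₁ = β _ t ∧ φ b₂ s₂ = β _ t
  rw [hc₁, hc₂, hm _ _ rfl, hm _ _ rfl, hm _ _ rfl, eb.apply_symm_apply, e₁', e₂']
  exact ⟨hass _ _ _, by rw [hass, hcomm (eb c₁)]⟩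

end Ctx

end Cfsg.Agent.Lib.ONan36
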